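import Mathlib

/-!
Elementary linear algebra in a symplectic space of order 256, written multiplicatively.
-/

set_option autoImplicit false
set_option linter.style.haveILetI false
set_option linter.unusedSectionVars false

namespace Cfsg.Agent.Spor.OmegaEightCent

universe u v

/-- a symplectic space with 256 elements -/
structure Sp (V : Type u) [CommGroup V] where
  B : V → V → ZMod 2
  sq : ∀ a : V, a * a = 1
  symm : ∀ a b, B a b = B b a
  self : ∀ a, B a a = 0
  mul_right : ∀ a b c, B a (b * c) = B a b + B a c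
  nondeg : ∀ a, (∀ b, B a b = 0) → a = 1
  card : Nat.card V = 256

variable {V : Type u} [CommGroup V] (S : Sp V)

theorem Sp.mul_left (a b c : V) : S.B (a * b) c = S.B a c + S.B b c := by
  rw [S.symm, S.mul_right, S.symm c a, S.symm c b]

theorem Sp.one_right (a : V) : S.B a 1 = 0 := by
  have h := S.mul_right a 1 1
  rw [one_mul] at h
  exact left_eq_add.1 h

theorem Sp.exists_one {a : V} (ha : a ≠ 1) : ∃ b, S.B a b = 1 := by
  by_contra h
  simp only [not_exists] at h
  refine ha (S.nondeg a fun b => ?_)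
  have := h b
  revert this
  generalize S.B a b = k
  revert k
  decide

theorem Sp.finite (S : Sp V) : Finite V := Nat.finite_of_card_ne_zero (by rw [S.card]; norm_num)

/-- the map `1 + ρ + ρ²` -/
def eMap (ρ : V →* V) : V →* V := MonoidHom.id V * ρ * ρ.comp ρ

theorem eMap_apply (ρ : V →* V) (v : V) : eMap ρ v = v * ρ v * ρ (ρ v) := rfl

/-- The fixed component of the distinguished vector vanishes. -/
theorem eMap_x_eq_one {ι : Type v} (ρ : V →* V) (hρ3 : ∀ a, ρ (ρ (ρ a)) = a)
    (hρB : ∀ a b, S.B (ρ a) (ρ b) = S.B a b) (hρ : ∃ a, ρ a ≠ a)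
    (s : V →* V) (hs : ∀ a, s (ρ a) = ρ (ρ (s a))) (w : ι → V →* V)
    (hw : ∀ i a, w i (eMap ρ a) = eMap ρ (w i a)) (hsw : ∃ i, w i = s)
    (x : V) (U : Subgroup V) (hUcard : Nat.card U = 16)
    (hU : ∀ a ∈ U, ∀ i, w i a * a = 1 ∨ w i a * a = x)
    (hspan : ∀ a, S.B x a = 0 → ∀ b, S.B x b = 1 → ∃ i, ∃ u ∈ U, a = u * (w i b * b)) :
    eMap ρ x = 1 := by
  haveI := S.finite
  set e := eMap ρ with he
  have hinv : ∀ a : V, a⁻¹ = a := fun a => inv_eq_of_mul_eq_one_right (S.sq a)
  have hρe : ∀ a, ρ (e a) = e a := fun a => by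
    rw [he, eMap_apply, map_mul, map_mul, hρ3, mul_comm _ a, mul_assoc]
  have hfix : ∀ a, ρ a = a → e a = a := fun a h => by
    rw [he, eMap_apply, h, h, S.sq, one_mul]
  have hee : ∀ a, e (e a) = e a := fun a => hfix _ (hρe a)
  have hadj : ∀ a b, S.B (e a) b = S.B a (e b) := fun a b => by
    rw [he, eMap_apply, eMap_apply, S.mul_left, S.mul_left, S.mul_right, S.mul_right]
    have h1 : S.B (ρ a) b = S.B a (ρ (ρ b)) := by rw [← hρB a (ρ (ρ b)), hρ3]
    have h2 : S.B (ρ (ρ a)) b = S.B a (ρ b) := by rw [← hρB a (ρ b), ← hρB (ρ a) (ρ (ρ b)), hρ3]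
    rw [h1, h2]
    ring
  let M : Subgroup V := e.ker
  let F : Subgroup V := e.range
  have hMF : ∀ a, a * e a ∈ M := fun a => by
    show e (a * e a) = 1
    rw [map_mul, hee, S.sq]
  have horth : ∀ f ∈ F, ∀ m ∈ M, S.B f m = 0 := by
    rintro _ ⟨a, rfl⟩ m hm
    rw [hadj, show e m = 1 from hm, S.one_right]
  have hcardMF : Nat.card F * Nat.card M = 256 := by
    have h := e.ker.card_mul_index
    rw [Subgroup.index_ker, S.card] at h
    rw [mul_comm]
    exact h
  by_contra hy
  set y := e x with hydef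
  set z := x * y with hzdef
  have hzM : z ∈ M := hMF x
  have hxyz : x = z * y := by rw [hzdef, mul_assoc, S.sq, mul_one]
  -- projection of `U` onto the moved part
  obtain ⟨b0, hb0⟩ := S.exists_one hy
  have hbF : S.B x (e b0) = 1 := by rw [← hadj]; exact hb0
  have hprojM : ∀ m ∈ M, ∃ u ∈ U, u * e u = m := by
    intro m hm
    have key : ∀ a, a * e a = m → S.B x a = 0 → ∃ u ∈ U, u * e u = m := fun a ha hxa => by
      obtain ⟨i, u, hu, hau⟩ := hspan a hxa _ hbF
      refine ⟨u, hu, ?_⟩
      have hr : e (w i (e b0) * e b0) = w i (e b0) * e b0 := by rw [map_mul, ← hw, hee]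
      rw [hau, map_mul, hr, mul_mul_mul_comm, S.sq, mul_one] at ha
      exact ha
    have hem : e m = 1 := hm
    rcases eq_or_ne (S.B x m) 0 with h | h
    · exact key m (by rw [hem, mul_one]) h
    · refine key (m * e b0) (by rw [map_mul, hem, hee, one_mul, mul_assoc, S.sq, mul_one]) ?_
      rw [S.mul_right, hbF]
      revert h
      generalize S.B x m = k
      revert k
      decide
  have hes : ∀ a, s (e a) = e (s a) := by
    obtain ⟨i, rfl⟩ := hsw
    exact hw i
  have hsM : ∀ m ∈ M, s m * m = 1 ∨ s m * m = z := by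
    intro m hm
    obtain ⟨u, hu, rfl⟩ := hprojM m hm
    obtain ⟨i, rfl⟩ := hsw
    have hd : w i (u * e u) * (u * e u) = w i u * u * e (w i u * u) := by
      rw [map_mul, map_mul, hw, mul_mul_mul_comm]
    rw [hd]
    rcases hU u hu i with h | h <;> rw [h]
    · left; rw [map_one, one_mul]
    · right; rfl
  -- the fixed points of `s` in the moved part
  let d : M →* V := MonoidHom.mk' (fun m => s m * m) fun a b => by
    rw [Subgroup.coe_mul, map_mul, mul_mul_mul_comm]
  have hker : Nat.card d.ker * Nat.card d.ker ≤ Nat.card M := by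
    let f : d.ker × d.ker → M := fun p =>
      (p.1 : M) * ⟨ρ ((p.2 : M) : V), by
        show e (ρ _) = 1
        rw [he, eMap_apply, ← map_mul, ← map_mul, ← eMap_apply, ← he, show e _ = 1 from (p.2 : M).2, map_one]⟩
    refine (Nat.card_prod _ _).symm.trans_le (Nat.card_le_card_of_injective f ?_)
    rintro ⟨a, b⟩ ⟨a', b'⟩ h
    have h' := congrArg Subtype.val h
    simp only [f, Subgroup.coe_mul] at h'
    have hsx : ∀ p : d.ker, s ((p : M) : V) = ((p : M) : V) := fun p => by
      have : s ((p : M) : V) * ((p : M) : V) = 1 := p.2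
      rw [mul_eq_one_iff_eq_inv, hinv] at this
      exact this
    set c : V := ((a : M) : V) * ((a' : M) : V) with hc
    set c' : V := ((b : M) : V) * ((b' : M) : V) with hc'
    have hcc : c = ρ c' := by
      rw [hc, hc', map_mul]
      calc ((a : M) : V) * ((a' : M) : V)
          = ((a : M) : V) * ((a' : M) : V) * (ρ ((b : M) : V) * ρ ((b : M) : V)) := by rw [S.sq, mul_one]
        _ = ((a : M) : V) * ρ ((b : M) : V) * (((a' : M) : V) * ρ ((b : M) : V)) := by rw [mul_mul_mul_comm]
        _ = ((a' : M) : V) * ρ ((b' : M) : V) * (((a' : M) : V) * ρ ((b : M) : V)) := by rw [h']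
        _ = ((a' : M) : V) * ((a' : M) : V) * (ρ ((b' : M) : V) * ρ ((b : M) : V)) := by rw [mul_mul_mul_comm]
        _ = ρ ((b : M) : V) * ρ ((b' : M) : V) := by rw [S.sq, one_mul, mul_comm]
    have hsc : s c = c := by rw [hc, map_mul, hsx, hsx]
    have hsc' : s c' = c' := by rw [hc', map_mul, hsx, hsx]
    have h1 : ρ (ρ c') = ρ c' := by
      have h2 := hs c'
      rw [hsc', ← hcc, hsc] at h2
      rw [← hcc]
      exact h2.symm
    have h3 : ρ c' = c' := by
      calc ρ c' = ρ (ρ (ρ (ρ c'))) := (hρ3 _).symm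
        _ = ρ (ρ (ρ c')) := by rw [h1]; exact (congrArg ρ h1)
        _ = c' := hρ3 c'
    have hc'1 : c' = 1 := by
      rw [← hfix c' h3, hc', map_mul, show e _ = 1 from (b : M).2, show e _ = 1 from (b' : M).2, one_mul]
    have hc1 : c = 1 := by rw [hcc, hc'1, map_one]
    rw [hc, mul_eq_one_iff_eq_inv, hinv] at hc1
    rw [hc', mul_eq_one_iff_eq_inv, hinv] at hc'1
    exact Prod.ext (Subtype.ext (Subtype.ext hc1)) (Subtype.ext (Subtype.ext hc'1))
  have hidx := d.ker.card_mul_index
  rw [Subgroup.index_ker] at hidx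
  have hrange : ∀ v ∈ d.range, v = 1 ∨ v = z := by
    rintro _ ⟨m, rfl⟩
    exact hsM m m.2
  rcases eq_or_ne z 1 with hz | hz
  · have h1 : Nat.card d.range = 1 := by
      haveI : Subsingleton d.range := ⟨fun a b => Subtype.ext (by
        rcases hrange a a.2 with ha | ha <;> rcases hrange b b.2 with hb | hb <;> simp [ha, hb, hz])⟩
      rw [Subgroup.eq_bot_of_subsingleton d.range, Subgroup.card_bot]
    rw [h1, mul_one] at hidx
    have hMc : Nat.card M ≤ 1 := by
      have hpos : 0 < Nat.card M := Nat.card_pos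
      rw [hidx] at hker
      have := Nat.le_of_mul_le_mul_left (hker.trans (Nat.mul_one _).ge) hpos
      exact this
    obtain ⟨a, ha⟩ := hρ
    refine ha ?_
    haveI : Subsingleton M := (Nat.card_eq_one_iff_unique.1 (le_antisymm hMc Nat.card_pos)).1
    have h2 : a * e a = 1 := congrArg Subtype.val (Subsingleton.elim (⟨_, hMF a⟩ : M) 1)
    rw [mul_eq_one_iff_eq_inv, hinv] at h2
    rw [h2, hρe]
  · have h1 : Nat.card d.range ≤ 2 := by
      refine le_trans (Nat.card_le_card_of_injective
        (fun v : d.range => @decide ((v : V) = 1) (Classical.dec _)) ?_) (le_of_eq (by simp))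
      intro v v' h
      simp only [decide_eq_decide] at h
      rcases hrange v v.2 with hv | hv <;> rcases hrange v' v'.2 with hv' | hv'
      · exact Subtype.ext (hv.trans hv'.symm)
      · exact absurd (hv'.symm.trans (h.1 hv)) hz
      · exact absurd (hv.symm.trans (h.2 hv')) hz
      · exact Subtype.ext (hv.trans hv'.symm)
    have hM4 : Nat.card M ≤ 4 := by
      have h2 := Nat.mul_le_mul_left (Nat.card d.ker) h1
      rw [hidx] at h2
      have : Nat.card d.ker ≤ 2 := by
        by_contra h
        have := Nat.mul_le_mul_left (Nat.card d.ker) (show 3 ≤ Nat.card d.ker by omega)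
        omega
      omega
    obtain ⟨b1, hb1⟩ := S.exists_one hz
    set bM := b1 * e b1 with hbMdef
    have hbM : bM ∈ M := hMF b1
    have hzb : S.B z bM = 1 := by
      rw [hbMdef, S.mul_right, hb1, ← hadj, show e z = 1 from hzM, S.symm, S.one_right, add_zero]
    have hxb : S.B x bM = 1 := by
      rw [hxyz, S.mul_left, hzb, horth y ⟨x, rfl⟩ bM hbM, add_zero]
    have hprojF : ∀ f ∈ F, ∃ u ∈ U, e u = f := by
      intro f hf
      have hef : e f = f := by obtain ⟨a, rfl⟩ := hf; exact hee a
      have key : ∀ a, e a = f → S.B x a = 0 → ∃ u ∈ U, e u = f := fun a ha hxa => by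
        obtain ⟨i, u, hu, hau⟩ := hspan a hxa _ hxb
        refine ⟨u, hu, ?_⟩
        have hr : e (w i bM * bM) = 1 := by rw [map_mul, ← hw, show e bM = 1 from hbM, map_one, one_mul]
        rw [hau, map_mul, hr, mul_one] at ha
        exact ha
      rcases eq_or_ne (S.B x f) 0 with h | h
      · exact key f hef h
      · refine key (f * bM) (by rw [map_mul, show e bM = 1 from hbM, mul_one, hef]) ?_
        rw [S.mul_right, hxb]
        revert h
        generalize S.B x f = k
        revert k
        decide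
    have hF : Nat.card F ≤ 16 := by
      rw [← hUcard]
      refine Nat.card_le_card_of_surjective (fun u : U => (⟨e u, u, rfl⟩ : F)) fun f => ?_
      obtain ⟨u, hu, huf⟩ := hprojF f f.2
      exact ⟨⟨u, hu⟩, Subtype.ext huf⟩
    have := Nat.mul_le_mul hF hM4
    omega

/-- bitwise order on three bits -/
def sub3 (a b : Fin 8) : Bool := a.val &&& b.val == a.val

theorem xor_self_eight : ∀ a : Fin 8, a ^^^ a = 0 := by decide

theorem maximal_bit : ∀ c : Fin 8 → Bool, c ≠ (fun _ => false) →
    ∃ a : Fin 8, c a = true ∧ ∀ b : Fin 8, c b = true → sub3 a b = true → b = a := by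
  decide +kernel


/-- A family permuted downwards by three maps is independent. -/
theorem family_injective (hsq : ∀ a : V, a * a = 1) (e : Fin 8 → V) (he : e 0 ≠ 1) (d : Fin 3 → V →* V)
    (h1 : ∀ (i : Fin 3) (b : Fin 8), b.val &&& 2 ^ i.val ≠ 0 →
      d i (e b) = e (b ^^^ (⟨2 ^ i.val % 8, Nat.mod_lt _ (by norm_num)⟩ : Fin 8)))
    (h0 : ∀ (i : Fin 3) (b : Fin 8), b.val &&& 2 ^ i.val = 0 → d i (e b) = 1) :
    Function.Injective fun c : Fin 8 → Bool => ∏ b, if c b then e b else 1 := by
  classical
  let p : Fin 8 → V →* V := fun a =>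
    ((if a.val &&& 1 ≠ 0 then d 0 else MonoidHom.id V).comp
      ((if a.val &&& 2 ≠ 0 then d 1 else MonoidHom.id V).comp
        (if a.val &&& 4 ≠ 0 then d 2 else MonoidHom.id V)))
  have hp : ∀ a b : Fin 8, p a (e b) = if sub3 a b then e (b ^^^ a) else 1 := by
    intro a b
    fin_cases a <;> fin_cases b <;> simp [p, sub3, h1, h0]
  intro c c' h
  by_contra hne
  let cc : Fin 8 → Bool := fun b => c b != c' b
  have hcc : cc ≠ fun _ => false := fun e' => hne (funext fun b => by
    have := congrFun e' b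
    revert this
    cases hcb : c b <;> cases hcb' : c' b <;> simp [cc, hcb, hcb'])
  obtain ⟨a, ha, hmax⟩ := maximal_bit cc hcc
  have hprod : ∏ b, (if cc b then e b else 1) = 1 := by
    calc ∏ b, (if cc b then e b else 1) = ∏ b, ((if c b then e b else 1) * (if c' b then e b else 1)) := by
          refine Finset.prod_congr rfl fun b _ => ?_
          cases hcb : c b <;> cases hcb' : c' b <;> simp [cc, hcb, hcb', hsq]
      _ = (∏ b, if c b then e b else 1) * ∏ b, if c' b then e b else 1 := Finset.prod_mul_distrib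
      _ = 1 := by rw [show (∏ b, if c b then e b else 1) = _ from h, hsq]
  have h2 := congrArg (p a) hprod
  rw [map_prod, map_one, Finset.prod_eq_single a] at h2
  · rw [ha, if_pos rfl, hp] at h2
    have : sub3 a a = true := by simp [sub3]
    rw [this, if_pos rfl, xor_self_eight a] at h2
    exact he h2
  · intro b _ hb
    cases hb' : cc b
    · simp
    · rw [if_pos rfl, hp]
      have : sub3 a b = false := Bool.eq_false_iff.2 fun h' => hb (hmax b hb' h')
      simp [this]
  · simp

end Cfsg.Agent.Spor.OmegaEightCent
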