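import Cfsg.Prelude.Def_Transfer
import Cfsg.Prelude.Def_Local
import Cfsg.Agent.Lib.Solv.ExtraspecialTwo
import Cfsg.Agent.Lib.Solv.Cores
import Cfsg.Agent.Lib.Local.Basics

/-!
An involution whose centralizer is an extension of an extraspecial group of order `2 ^ 9` by the direct product of
three symmetric groups of degree three: the setting.
-/

set_option autoImplicit false
set_option linter.style.haveILetI false
set_option linter.unusedSectionVars false

namespace Cfsg.Agent.Spor.OmegaEightCent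

open Solv.ExtTwo

universe u

/-- the product of three symmetric groups of degree three -/
abbrev S3c : Type := Equiv.Perm (Fin 3) × Equiv.Perm (Fin 3) × Equiv.Perm (Fin 3)

/-- The setting. -/
structure Hyp (G : Type u) [Group G] where
  t : G
  Q : Subgroup G
  π : ↥(Subgroup.centralizer ({t} : Set G)) →* S3c
  t_sq : t * t = 1
  t_ne : t ≠ 1
  Q_le : Q ≤ Subgroup.centralizer ({t} : Set G)
  t_mem : t ∈ Q
  Q_card : Nat.card Q = 512
  ext : Ext2 ↥Q ⟨t, t_mem⟩
  π_surj : Function.Surjective π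
  π_ker : ∀ c, π c = 1 ↔ (c : G) ∈ Q
  self_cent : ∀ g : G, (∀ q ∈ Q, g * q = q * g) → g = 1 ∨ g = t

variable {G : Type u} [Group G] (H : Hyp G)

/-- the centralizer -/
abbrev Hyp.C : Subgroup G := Subgroup.centralizer ({H.t} : Set G)

theorem Hyp.mem_C {g : G} : g ∈ H.C ↔ Commute g H.t := Subgroup.mem_centralizer_singleton_iff

theorem Hyp.t_mem_C : H.t ∈ H.C := H.Q_le H.t_mem

theorem Hyp.t_inv : H.t⁻¹ = H.t := inv_eq_of_mul_eq_one_right H.t_sq

theorem Hyp.commute_t {q : G} (hq : q ∈ H.Q) : Commute q H.t := H.mem_C.1 (H.Q_le hq)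

theorem Hyp.sq_mem {q : G} (hq : q ∈ H.Q) : q * q = 1 ∨ q * q = H.t := by
  rcases H.ext.sq ⟨q, hq⟩ with h | h
  · exact Or.inl (congrArg Subtype.val h)
  · exact Or.inr (congrArg Subtype.val h)

theorem Hyp.comm_mem {a b : G} (ha : a ∈ H.Q) (hb : b ∈ H.Q) :
    b * a = a * b ∨ b * a = a * b * H.t := by
  rcases H.ext.comm ⟨a, ha⟩ ⟨b, hb⟩ with h | h
  · exact Or.inl (congrArg Subtype.val h)
  · exact Or.inr (congrArg Subtype.val h)

theorem Hyp.conj_mem {c q : G} (hc : c ∈ H.C) (hq : q ∈ H.Q) : c * q * c⁻¹ ∈ H.Q := by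
  have hq' : H.π ⟨q, H.Q_le hq⟩ = 1 := (H.π_ker _).2 hq
  have h : H.π (⟨c, hc⟩ * ⟨q, H.Q_le hq⟩ * ⟨c, hc⟩⁻¹) = 1 := by
    rw [map_mul, map_mul, hq', mul_one, map_inv, mul_inv_cancel]
  exact (H.π_ker _).1 h

theorem Hyp.π_eq_iff {a b : ↥H.C} : H.π a = H.π b ↔ (a : G)⁻¹ * b ∈ H.Q := by
  have h := H.π_ker (a⁻¹ * b)
  rw [map_mul, map_inv, inv_mul_eq_one, Subgroup.coe_mul, Subgroup.coe_inv] at h
  exact h

/-- moving the setting -/
theorem Hyp.exists_noncommute {q : G} (hq : q ∈ H.Q) (h1 : q ≠ 1) (ht : q ≠ H.t) :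
    ∃ r ∈ H.Q, r * q = q * r * H.t := by
  by_contra hno
  simp only [not_exists, not_and] at hno
  have hc : ∀ r : ↥H.Q, Commute (⟨q, hq⟩ : ↥H.Q) r := fun r => by
    rcases H.comm_mem hq r.2 with h | h
    · exact Subtype.ext h.symm
    · exact absurd h (hno r r.2)
  rcases H.ext.center ⟨q, hq⟩ hc with h | h
  · exact h1 (congrArg Subtype.val h)
  · exact ht (congrArg Subtype.val h)


theorem exists_hyp {G : Type u} [Group G] [Finite G] (t : G) (ht : orderOf t = 2) (C : Subgroup G)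
    (hC : C = Subgroup.centralizer ({t} : Set G))
    (hF : Cfsg.IsExtraspecial 2 (Cfsg.generalizedFittingSubgroup C))
    (hFcard : Nat.card (Cfsg.generalizedFittingSubgroup C) = 2 ^ 9)
    (e : C ⧸ Cfsg.pCore 2 C ≃* S3c)
    (hcc : Subgroup.centralizer (((Cfsg.pCore 2 C).map C.subtype : Subgroup G) : Set G) ≤
      (Cfsg.pCore 2 C).map C.subtype) : ∃ H : Hyp G, H.t = t := by
  haveI : Fact (Nat.Prime 2) := ⟨Nat.prime_two⟩
  subst hC
  set C := Subgroup.centralizer ({t} : Set G)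
  haveI := Solv.pCore_normal (G := ↥C) 2
  have hle : Cfsg.pCore 2 ↥C ≤ Cfsg.generalizedFittingSubgroup ↥C :=
    (Solv.pCore_le_fitting 2).trans le_sup_right
  haveI : (Cfsg.generalizedFittingSubgroup ↥C).Normal := Local.gfit_normal
  have hge : Cfsg.generalizedFittingSubgroup ↥C ≤ Cfsg.pCore 2 ↥C :=
    le_sSup ⟨inferInstance, hF.1.1⟩
  have heq : Cfsg.generalizedFittingSubgroup ↥C = Cfsg.pCore 2 ↥C := le_antisymm hge hle
  rw [heq] at hF hFcard
  set P := Cfsg.pCore 2 ↥C
  set Q := P.map C.subtype with hQ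
  let i : ↥P ≃* ↥Q := P.equivMapOfInjective C.subtype C.subtype_injective
  have hi : ∀ p : ↥P, ((i p : ↥Q) : G) = ((p : ↥C) : G) := fun p => rfl
  have hcomm : ∀ g ∈ Q, Commute g t := fun g hg => by
    obtain ⟨p, -, rfl⟩ := hg
    exact Subgroup.mem_centralizer_singleton_iff.1 p.2
  have htQ : t ∈ Q := hcc (Subgroup.mem_centralizer_iff.2 fun g hg => (hcomm g hg).eq)
  obtain ⟨z, hz⟩ := of_extraspecial hF
  have htsq : t * t = 1 := by rw [← pow_two, ← ht, pow_orderOf_eq_one]
  have ht1 : t ≠ 1 := fun h => by rw [h, orderOf_one] at ht; norm_num at ht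
  have hzt : i z = ⟨t, htQ⟩ := by
    obtain ⟨p, hp⟩ := i.surjective ⟨t, htQ⟩
    have hc : ∀ r, Commute p r := fun r => by
      refine i.injective (Subtype.ext ?_)
      rw [map_mul, map_mul, Subgroup.coe_mul, Subgroup.coe_mul, hp]
      exact ((hcomm _ (i r).2).eq).symm
    rcases hz.center p hc with rfl | rfl
    · exact absurd (congrArg Subtype.val hp).symm (by rw [map_one]; exact ht1)
    · exact hp
  have hext : Ext2 ↥Q ⟨t, htQ⟩ := by
    rw [← hzt]
    refine ⟨fun h => hz.ne (i.injective (h.trans (map_one i).symm)), fun g => ?_, fun g hg => ?_, fun g => ?_, fun g h => ?_⟩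
    · obtain ⟨p, rfl⟩ := i.surjective g
      exact (hz.central p).map i.toMonoidHom
    · obtain ⟨p, rfl⟩ := i.surjective g
      rcases hz.center p (fun r => i.injective (by rw [map_mul, map_mul]; exact hg (i r))) with rfl | rfl
      · exact Or.inl (map_one i)
      · exact Or.inr rfl
    · obtain ⟨p, rfl⟩ := i.surjective g
      rcases hz.sq p with h | h
      · exact Or.inl (by rw [← map_mul, h, map_one])
      · exact Or.inr (by rw [← map_mul, h])
    · obtain ⟨p, rfl⟩ := i.surjective g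
      obtain ⟨r, rfl⟩ := i.surjective h
      rcases hz.comm p r with h | h
      · exact Or.inl (by rw [← map_mul, h, map_mul])
      · exact Or.inr (by rw [← map_mul, h, map_mul, map_mul])
  refine ⟨⟨t, Q, e.toMonoidHom.comp (QuotientGroup.mk' P), htsq, ht1, fun g hg => ?_, htQ, ?_, hext, ?_, fun c => ?_,
    fun g hg => ?_⟩, rfl⟩
  · exact Subgroup.mem_centralizer_singleton_iff.2 (hcomm g hg).eq
  · rw [← Nat.card_congr i.toEquiv, hFcard]
    norm_num
  · exact e.surjective.comp (QuotientGroup.mk'_surjective P)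
  · simp only [MonoidHom.coe_comp, MulEquiv.coe_toMonoidHom, Function.comp_apply, QuotientGroup.mk'_apply,
      EmbeddingLike.map_eq_one_iff, QuotientGroup.eq_one_iff]
    exact ⟨fun h => ⟨c, h, rfl⟩, fun ⟨p, hp, h⟩ => Subtype.ext h ▸ hp⟩
  · have hgQ : g ∈ Q := hcc (Subgroup.mem_centralizer_iff.2 fun q hq => (hg q hq).symm)
    rcases hext.center ⟨g, hgQ⟩ (fun r => Subtype.ext (hg r r.2)) with h | h
    · exact Or.inl (congrArg Subtype.val h)
    · exact Or.inr (congrArg Subtype.val h)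

end Cfsg.Agent.Spor.OmegaEightCent
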