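import Cfsg.Agent.Lib.Spor.OmegaEightCent.Shape

/-!
The basis of the space, and the fixed points of the group of order 27.
-/

set_option autoImplicit false
set_option linter.style.haveILetI false
set_option linter.unusedSectionVars false
set_option maxRecDepth 10000

namespace Cfsg.Agent.Spor.OmegaEightCent

universe u

/-- a bit -/
def bit8 (i : Fin 3) : Fin 8 := ⟨2 ^ i.val % 8, Nat.mod_lt _ (by norm_num)⟩

/-- the bit of a number -/
def hasBit (d : Fin 8) (i : Fin 3) : Bool := d.val &&& 2 ^ i.val != 0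

theorem bit_xor_facts : ∀ (d : Fin 8) (i : Fin 3),
    (d ^^^ bit8 i) ^^^ bit8 i = d ∧ hasBit (d ^^^ bit8 i) i = !hasBit d i := by decide +kernel

theorem hasBit_iff : ∀ (d : Fin 8) (i : Fin 3),
    (d.val &&& 2 ^ i.val ≠ 0 ↔ hasBit d i = true) ∧ (d.val &&& 2 ^ i.val = 0 ↔ hasBit d i = false) := by
  decide +kernel

/-- the value of the form on two basis vectors -/
def pairV (a b : Fin 8) : ZMod 2 := if a ^^^ b = 7 then 1 else 0

/-- the lowest bit -/
def lowBit (a : Fin 8) : Fin 3 := if hasBit a 0 then 0 else if hasBit a 1 then 1 else 2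

theorem pairV_step : ∀ a b : Fin 8, a ≠ 0 → hasBit a (lowBit a) = true ∧ (a ^^^ bit8 (lowBit a)).val < a.val ∧
    (hasBit b (lowBit a) = true → pairV a b = pairV (a ^^^ bit8 (lowBit a)) (b ^^^ bit8 (lowBit a))) ∧
    (hasBit b (lowBit a) = false →
      pairV a b = pairV (a ^^^ bit8 (lowBit a)) b + pairV (a ^^^ bit8 (lowBit a)) (b ^^^ bit8 (lowBit a))) := by
  decide +kernel

theorem pairV_zero_ne : ∀ d : Fin 8, d ≠ 7 → pairV 0 d = 0 := by decide +kernel

theorem eight_split : ∀ d : Fin 8, d = 0 ∨ d = 1 ∨ d = 2 ∨ d = 3 ∨ d = 4 ∨ d = 5 ∨ d = 6 ∨ d = 7 := by decide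

variable {C : Type u} [Group C]

/-- a product of rotations -/
def pe8 (ρ : Fin 3 → C) (d : Fin 8) : C :=
  (if hasBit d 0 then ρ 0 else 1) * ((if hasBit d 1 then ρ 1 else 1) * (if hasBit d 2 then ρ 2 else 1))

theorem pe8_step (ρ : Fin 3 → C) (hc : ∀ i j, Commute (ρ i) (ρ j)) (d : Fin 8) (i : Fin 3)
    (h : hasBit d i = false) : pe8 ρ (d ^^^ bit8 i) = ρ i * pe8 ρ d := by
  have h10 : ρ 1 * ρ 0 = ρ 0 * ρ 1 := (hc 1 0).eq
  have h20 : ρ 2 * ρ 0 = ρ 0 * ρ 2 := (hc 2 0).eq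
  have h21 : ρ 2 * ρ 1 = ρ 1 * ρ 2 := (hc 2 1).eq
  have a10 : ∀ z, ρ 1 * (ρ 0 * z) = ρ 0 * (ρ 1 * z) := fun z => by rw [← mul_assoc, h10, mul_assoc]
  have a20 : ∀ z, ρ 2 * (ρ 0 * z) = ρ 0 * (ρ 2 * z) := fun z => by rw [← mul_assoc, h20, mul_assoc]
  have a21 : ∀ z, ρ 2 * (ρ 1 * z) = ρ 1 * (ρ 2 * z) := fun z => by rw [← mul_assoc, h21, mul_assoc]
  fin_cases d <;> fin_cases i <;>
    first
      | exact absurd h (by decide)
      | simp [pe8, hasBit, bit8, h10, h20, h21, a10, a20, a21]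

theorem pe8_comm (ρ : Fin 3 → C) (d : Fin 8) (z : C) (hz : ∀ j, hasBit d j = true → Commute z (ρ j)) :
    Commute z (pe8 ρ d) := by
  refine Commute.mul_right ?_ (Commute.mul_right ?_ ?_) <;> split_ifs with h <;>
    first | exact hz _ h | exact Commute.one_right z

theorem pe8_zero (ρ : Fin 3 → C) : pe8 ρ 0 = 1 := by simp [pe8, hasBit]

variable {G : Type u} [Group G] [Finite G] {H : Hyp G} {g : G}

/-- the basis vectors -/
noncomputable def Normal3.ev (N : Normal3 H g) (L : Lifted H.π) (d : Fin 8) : H.Vq := H.act (pe8 L.ρ d) N.P.xv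

theorem Normal3.ev_zero (N : Normal3 H g) (L : Lifted H.π) : N.ev L 0 = N.P.xv := by
  rw [Normal3.ev, pe8_zero, H.act_one]

theorem Normal3.ev_step (N : Normal3 H g) (L : Lifted H.π) {d : Fin 8} {i : Fin 3} (h : hasBit d i = false) :
    N.ev L (d ^^^ bit8 i) = H.act (L.ρ i) (N.ev L d) := by
  rw [Normal3.ev, Normal3.ev, pe8_step L.ρ L.ρ_comm d i h, H.act_mul]

theorem Normal3.ev_kill (N : Normal3 H g) (L : Lifted H.π) (d : Fin 8) (i : Fin 3) :
    eMap (H.act (L.ρ i)) (N.ev L d) = 1 := by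
  have hc : Commute (L.ρ i) (pe8 L.ρ d) := pe8_comm L.ρ d _ fun j _ => L.ρ_comm i j
  have h := congrArg (H.act (pe8 L.ρ d)) (N.rho_kill L i)
  rw [map_one, eMap_apply, map_mul, map_mul] at h
  rw [eMap_apply, Normal3.ev, ← H.act_mul, hc.eq, H.act_mul, ← H.act_mul (L.ρ i) (pe8 L.ρ d), hc.eq, H.act_mul]
  exact h

theorem Normal3.n_x (N : Normal3 H g) (L : Lifted H.π) (i : Fin 3) : H.act (L.n i) N.P.xv = N.P.xv := by
  obtain ⟨r, hr, hπ⟩ := N.lift (i == 0) (i == 1) (i == 2)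
  rw [← epsW_eps3] at hπ
  rw [H.act_congr (show H.π (L.n i) = H.π r by rw [L.nπ, hπ])]
  exact N.act_x hr

theorem Normal3.n_ev_zero (N : Normal3 H g) (L : Lifted H.π) {d : Fin 8} {i : Fin 3} (h : hasBit d i = false) :
    H.act (L.n i) (N.ev L d) = N.ev L d := by
  have hc : Commute (L.n i) (pe8 L.ρ d) := pe8_comm L.ρ d _ fun j hj => by
    have hij : i ≠ j := fun e => by rw [e, hj] at h; exact Bool.noConfusion h
    have e := L.n_conj i j
    rw [if_neg hij, mul_inv_eq_iff_eq_mul] at e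
    exact e
  rw [Normal3.ev, ← H.act_mul, hc.eq, H.act_mul, N.n_x]

theorem Normal3.rho_sq (N : Normal3 H g) (L : Lifted H.π) (d : Fin 8) (i : Fin 3) :
    H.act (L.ρ i) (H.act (L.ρ i) (N.ev L d)) = N.ev L d * H.act (L.ρ i) (N.ev L d) := by
  have h := N.ev_kill L d i
  rw [eMap_apply, mul_eq_one_iff_eq_inv] at h
  rw [h, inv_eq_of_mul_eq_one_right (H.sp.sq _)]

theorem Normal3.n_ev_one (N : Normal3 H g) (L : Lifted H.π) {d : Fin 8} {i : Fin 3} (h : hasBit d i = true) :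
    H.act (L.n i) (N.ev L d) = N.ev L (d ^^^ bit8 i) * N.ev L d := by
  obtain ⟨hdd, hb⟩ := bit_xor_facts d i
  rw [h] at hb
  have e := N.ev_step L (d := d ^^^ bit8 i) (i := i) hb
  rw [hdd] at e
  have hn : L.n i * L.ρ i = L.ρ i * L.ρ i * L.n i := by
    have e' := L.n_conj i i
    rw [if_pos rfl, mul_inv_eq_iff_eq_mul] at e'
    exact e'
  rw [e, ← H.act_mul, hn, H.act_mul, H.act_mul, N.n_ev_zero L hb, N.rho_sq]

theorem Normal3.x_ne (N : Normal3 H g) : N.P.xv ≠ 1 := fun h => by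
  rcases H.mkV_eq_one_iff.1 h with e | e
  · exact H.t_ne (conj_eq_one_iff.1 e)
  · exact N.P.ne e

theorem Normal3.basis (N : Normal3 H g) (L : Lifted H.π) :
    Function.Bijective fun c : Fin 8 → Bool => ∏ d, if c d then N.ev L d else 1 := by
  haveI := H.sp.finite
  refine (Nat.bijective_iff_injective_and_card _).2 ⟨?_, by rw [H.sp.card]; simp⟩
  let dd : Fin 3 → H.Vq →* H.Vq := fun i => H.act (L.n i) * MonoidHom.id H.Vq
  refine family_injective H.sp.sq (N.ev L) (by rw [N.ev_zero]; exact N.x_ne) dd (fun i d h => ?_) fun i d h => ?_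
  · show H.act (L.n i) (N.ev L d) * N.ev L d = _
    rw [N.n_ev_one L ((hasBit_iff d i).1.1 h), mul_assoc, H.sp.sq, mul_one]
    rfl
  · show H.act (L.n i) (N.ev L d) * N.ev L d = _
    rw [N.n_ev_zero L ((hasBit_iff d i).2.1 h), H.sp.sq]

/-- two maps agreeing on the basis agree -/
theorem Normal3.ext8 (N : Normal3 H g) (L : Lifted H.π) {M : Type u} [CommGroup M] (f f' : H.Vq →* M)
    (h : ∀ d, f (N.ev L d) = f' (N.ev L d)) (v : H.Vq) : f v = f' v := by
  obtain ⟨c, rfl⟩ := (N.basis L).2 v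
  simp only [map_prod]
  refine Finset.prod_congr rfl fun d _ => ?_
  split_ifs
  · exact h d
  · rw [map_one, map_one]

theorem Normal3.rho_free (N : Normal3 H g) (L : Lifted H.π) (i : Fin 3) {v : H.Vq} (h : H.act (L.ρ i) v = v) :
    v = 1 := by
  have e := N.ext8 L (eMap (H.act (L.ρ i))) 1 (fun d => N.ev_kill L d i) v
  rw [eMap_apply, h, h, MonoidHom.one_apply, H.sp.sq, one_mul] at e
  exact e

/-- only the centre of `Q` centralizes a rotation -/
theorem Normal3.cent_rho (N : Normal3 H g) (L : Lifted H.π) (i : Fin 3) {q : G} (hq : q ∈ H.Q)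
    (h : Commute q (L.ρ i : G)) : q = 1 ∨ q = H.t := by
  refine H.mkV_eq_one_iff.1 (N.rho_free L i (v := H.mkV ⟨q, hq⟩) ?_)
  rw [H.act_mk]
  refine congrArg H.mkV (Subtype.ext ?_)
  show (L.ρ i : G) * q * (L.ρ i : G)⁻¹ = q
  rw [← h.eq, mul_inv_cancel_right]

theorem Normal3.bf_pair_zero (N : Normal3 H g) (L : Lifted H.π) {i k : Fin 3} {d : Fin 8} (hki : hasBit d k = false)
    (hd : hasBit d i = true) : H.bf N.P.xv (N.ev L d) = 0 := by
  by_contra hne
  have h1 : H.bf N.P.xv (N.ev L d) = 1 := (bit_cases _).resolve_left hne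
  obtain ⟨r, hr, hπ⟩ := N.lift (k == 0) (k == 1) (k == 2)
  rw [← epsW_eps3] at hπ
  refine N.move_notMem hr (by rw [hπ]; fin_cases k <;> decide) h1 ?_
  rw [H.act_congr (show H.π r = H.π (L.n k) by rw [L.nπ, hπ]), N.n_ev_zero L hki, H.sp.sq]
  exact one_mem _

theorem Normal3.bf_x (N : Normal3 H g) (L : Lifted H.π) (d : Fin 8) : H.bf N.P.xv (N.ev L d) = pairV 0 d := by
  have h0 : ∀ e : Fin 8, e ≠ 7 → H.bf N.P.xv (N.ev L e) = 0 := by
    intro e he
    by_cases he0 : e = 0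
    · rw [he0, N.ev_zero]; exact H.sp.self _
    · have key : ∀ e : Fin 8, e ≠ 7 → e ≠ 0 →
          ∃ i k : Fin 3, hasBit e k = false ∧ hasBit e i = true := by decide +kernel
      obtain ⟨i, k, hk, hi⟩ := key e he he0
      exact N.bf_pair_zero L hk hi
  by_cases hd : d = 7
  · subst hd
    show _ = (1 : ZMod 2)
    refine (bit_cases _).resolve_left fun h7 => N.x_ne (H.sp.nondeg _ fun b => ?_)
    obtain ⟨c, rfl⟩ := (N.basis L).2 b
    let χ : H.Vq →* Multiplicative (ZMod 2) :=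
      { toFun := fun v => Multiplicative.ofAdd (H.bf N.P.xv v)
        map_one' := by
          show Multiplicative.ofAdd (H.sp.B _ 1) = 1
          rw [H.sp.one_right]; rfl
        map_mul' := fun v w => by
          show Multiplicative.ofAdd (H.sp.B _ (v * w)) = _
          rw [H.sp.mul_right, ofAdd_add]; rfl }
    have h : χ (∏ d, if c d then N.ev L d else 1) = 1 := by
      rw [map_prod]
      refine Finset.prod_eq_one fun e _ => ?_
      split_ifs
      · show Multiplicative.ofAdd (H.bf N.P.xv (N.ev L e)) = 1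
        rw [ofAdd_eq_one]
        by_cases he : e = 7
        · rw [he]; exact h7
        · exact h0 e he
      · exact map_one χ
    exact ofAdd_eq_one.1 h
  · rw [h0 d hd]
    revert hd
    revert d
    decide

theorem Normal3.bf_ev (N : Normal3 H g) (L : Lifted H.π) : ∀ a b : Fin 8,
    H.bf (N.ev L a) (N.ev L b) = pairV a b := by
  intro a
  induction hn : a.val using Nat.strong_induction_on generalizing a with
  | _ n ih =>
    subst hn
    intro b
    by_cases ha : a = 0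
    · subst ha; rw [N.ev_zero]; exact N.bf_x L b
    · obtain ⟨hbit, hlt, h1, h0⟩ := pairV_step a b ha
      set i := lowBit a
      obtain ⟨haa, hab⟩ := bit_xor_facts a i
      rw [hbit] at hab
      have ea := N.ev_step L (d := a ^^^ bit8 i) (i := i) hab
      rw [haa] at ea
      have ih' := ih _ hlt (a ^^^ bit8 i) rfl
      rw [ea]
      obtain ⟨hbb, hbc⟩ := bit_xor_facts b i
      cases hb : hasBit b i
      · rw [h0 hb, ← ih', ← ih']
        have eb := N.ev_step L (d := b) (i := i) hb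
        have e2 : H.act (L.ρ i) (H.act (L.ρ i) (H.act (L.ρ i) (N.ev L b))) = N.ev L b := by
          rw [← H.act_mul, ← H.act_mul, ← pow_two, ← pow_succ, L.ρ_cube, H.act_one]
        conv_lhs => rw [← e2]
        rw [H.act_bf, N.rho_sq, ← eb]
        exact H.sp.mul_right _ _ _
      · rw [hb] at hbc
        have eb := N.ev_step L (d := b ^^^ bit8 i) (i := i) hbc
        rw [hbb] at eb
        rw [eb, H.act_bf, h1 hb, ih']

theorem Normal3.ev_mem_UU (N : Normal3 H g) (L : Lifted H.π) {d : Fin 8} (h : d = 1 ∨ d = 2 ∨ d = 4) :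
    N.ev L d ∈ H.UU g := by
  have key : ∃ (d' : Fin 8) (j : Fin 3), hasBit d' j = true ∧ d' ^^^ bit8 j = d ∧ d' ≠ 7 := by
    revert h; revert d; decide +kernel
  obtain ⟨d', j, hj, rfl, h7⟩ := key
  obtain ⟨r, hr, hπ⟩ := N.lift (j == 0) (j == 1) (j == 2)
  rw [← epsW_eps3] at hπ
  obtain ⟨q, hq⟩ := H.mkV_surj (N.ev L d')
  have e : N.ev L (d' ^^^ bit8 j) = H.act r (H.mkV q) * H.mkV q := by
    rw [hq, H.act_congr (show H.π r = H.π (L.n j) by rw [L.nπ, hπ]), N.n_ev_one L hj, mul_assoc, H.sp.sq, mul_one]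
  have hperp : Commute (q : G) (g * H.t * g⁻¹) := by
    have hb : H.bf N.P.xv (N.ev L d') = 0 := by
      rw [N.bf_x]; exact pairV_zero_ne d' h7
    rw [← hq, InQ.xv, H.bf_mk, H.kap_eq_zero] at hb
    exact hb.symm
  rw [e, H.act_mk, ← map_mul, N.P.mem_UU]
  show (r : G) * q * (r : G)⁻¹ * q ∈ H.Dg g
  refine ⟨mul_mem (H.conj_mem r.2 q.2) q.2, ?_⟩
  have hqg : (q : G) * (r : G)⁻¹ * (q : G)⁻¹ ∈ H.Qg g := by
    refine mem_Qg.2 ?_
    have hc : g⁻¹ * (q : G) * g ∈ H.C := N.P.cent_mem_C (N.P.mem_cent.2 ⟨q.2, hperp⟩)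
    have := H.conj_mem hc (mem_Qg.1 (inv_mem hr))
    rwa [show g⁻¹ * (q : G) * g * (g⁻¹ * (r : G)⁻¹ * g) * (g⁻¹ * (q : G) * g)⁻¹ =
      g⁻¹ * ((q : G) * (r : G)⁻¹ * (q : G)⁻¹) * g by group] at this
  have h2 : (q : G) * q = H.tp (H.qf q) := H.sq_eq q.2
  have hD : H.tp (H.qf q) ∈ H.Qg g := by
    rcases bit_cases (H.qf (q : G)) with e | e <;> rw [e]
    · rw [H.tp_zero]; exact one_mem _
    · rw [H.tp_one]; exact N.P.t_mem
  have e2 : (r : G) * q * (r : G)⁻¹ * q = r * ((q : G) * (r : G)⁻¹ * (q : G)⁻¹) * H.tp (H.qf q) := by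
    rw [← h2]; group
  rw [e2]
  exact mul_mem (mul_mem hr hqg) hD

end Cfsg.Agent.Spor.OmegaEightCent
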