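import Cfsg.Agent.Lib.Spor.OmegaEightCent.Base

/-!
The quadratic form and the alternating form of the extraspecial group, as functions with values in `ZMod 2`.
-/

set_option autoImplicit false
set_option linter.style.haveILetI false
set_option linter.unusedSectionVars false

namespace Cfsg.Agent.Spor.OmegaEightCent

universe u

variable {G : Type u} [Group G] (H : Hyp G)

open Classical in
/-- the commutator form -/
noncomputable def Hyp.kap (_H : Hyp G) (a b : G) : ZMod 2 := if a * b = b * a then 0 else 1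

open Classical in
/-- the squaring form -/
noncomputable def Hyp.qf (_H : Hyp G) (a : G) : ZMod 2 := if a * a = 1 then 0 else 1

/-- the power of the central involution -/
def Hyp.tp (k : ZMod 2) : G := if k = 0 then 1 else H.t

theorem Hyp.tp_zero : H.tp 0 = 1 := if_pos rfl

theorem Hyp.tp_one : H.tp 1 = H.t := if_neg (by decide)

theorem bit_cases (k : ZMod 2) : k = 0 ∨ k = 1 := by revert k; decide

theorem Hyp.tp_add (k l : ZMod 2) : H.tp (k + l) = H.tp k * H.tp l := by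
  rcases bit_cases k with rfl | rfl <;> rcases bit_cases l with rfl | rfl
  · simp [H.tp_zero]
  · simp [H.tp_zero]
  · simp [H.tp_zero]
  · rw [show (1 + 1 : ZMod 2) = 0 from rfl, H.tp_zero, H.tp_one, H.t_sq]

theorem Hyp.tp_inj {k l : ZMod 2} (h : H.tp k = H.tp l) : k = l := by
  rcases bit_cases k with rfl | rfl <;> rcases bit_cases l with rfl | rfl <;>
    simp_all [H.tp_zero, H.tp_one, H.t_ne, eq_comm]

theorem Hyp.tp_mem (k : ZMod 2) : H.tp k ∈ H.Q := by
  rcases bit_cases k with rfl | rfl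
  · rw [H.tp_zero]; exact one_mem _
  · rw [H.tp_one]; exact H.t_mem

theorem Hyp.tp_comm {g : G} (hg : g ∈ H.C) (k : ZMod 2) : Commute g (H.tp k) := by
  rcases bit_cases k with rfl | rfl
  · rw [H.tp_zero]; exact Commute.one_right g
  · rw [H.tp_one]; exact H.mem_C.1 hg

theorem Hyp.tp_comm' {g : G} (hg : g ∈ H.Q) (k : ZMod 2) : Commute g (H.tp k) := H.tp_comm (H.Q_le hg) k

theorem Hyp.mul_eq {a b : G} (ha : a ∈ H.Q) (hb : b ∈ H.Q) : b * a = a * b * H.tp (H.kap a b) := by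
  rw [Hyp.kap]
  split_ifs with h
  · rw [H.tp_zero, mul_one, h]
  · rw [H.tp_one]
    exact (H.comm_mem ha hb).resolve_left fun e => h e.symm

theorem Hyp.sq_eq {a : G} (ha : a ∈ H.Q) : a * a = H.tp (H.qf a) := by
  rw [Hyp.qf]
  split_ifs with h
  · rw [H.tp_zero, h]
  · rw [H.tp_one]
    exact (H.sq_mem ha).resolve_left h

theorem Hyp.kap_eq_zero {a b : G} : H.kap a b = 0 ↔ Commute a b := by
  rw [Hyp.kap]
  split_ifs with h
  · exact iff_of_true rfl h
  · exact iff_of_false (by decide) h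

theorem Hyp.kap_eq {a b : G} (ha : a ∈ H.Q) (hb : b ∈ H.Q) {k : ZMod 2} (h : b * a = a * b * H.tp k) :
    H.kap a b = k :=
  H.tp_inj (mul_left_cancel ((H.mul_eq ha hb).symm.trans h))

theorem Hyp.qf_eq {a : G} (ha : a ∈ H.Q) {k : ZMod 2} (h : a * a = H.tp k) : H.qf a = k :=
  H.tp_inj ((H.sq_eq ha).symm.trans h)

theorem Hyp.kap_self (a : G) : H.kap a a = 0 := if_pos rfl

theorem Hyp.kap_symm (a b : G) : H.kap a b = H.kap b a := by
  rw [Hyp.kap, Hyp.kap]
  classical exact if_congr ⟨fun h => h.symm, fun h => h.symm⟩ rfl rfl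

theorem Hyp.kap_mul_right {a b c : G} (ha : a ∈ H.Q) (hb : b ∈ H.Q) (hc : c ∈ H.Q) :
    H.kap a (b * c) = H.kap a b + H.kap a c := by
  refine H.kap_eq ha (mul_mem hb hc) ?_
  calc b * c * a = b * (c * a) := mul_assoc ..
    _ = b * (a * c * H.tp (H.kap a c)) := by rw [H.mul_eq ha hc]
    _ = b * a * c * H.tp (H.kap a c) := by simp only [mul_assoc]
    _ = a * b * (H.tp (H.kap a b) * c) * H.tp (H.kap a c) := by rw [H.mul_eq ha hb]; simp only [mul_assoc]
    _ = _ := by rw [← (H.tp_comm' hc _).eq, H.tp_add]; simp only [mul_assoc]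

theorem Hyp.kap_mul_left {a b c : G} (ha : a ∈ H.Q) (hb : b ∈ H.Q) (hc : c ∈ H.Q) :
    H.kap (a * b) c = H.kap a c + H.kap b c := by
  rw [H.kap_symm, H.kap_mul_right hc ha hb, H.kap_symm c a, H.kap_symm c b]

theorem Hyp.kap_one (a : G) : H.kap a 1 = 0 := if_pos (by rw [mul_one, one_mul])

theorem Hyp.kap_inv_right {a b : G} (ha : a ∈ H.Q) (hb : b ∈ H.Q) : H.kap a b⁻¹ = H.kap a b := by
  have h := H.kap_mul_right ha hb (inv_mem hb)
  rw [mul_inv_cancel, H.kap_one] at h
  exact ((CharTwo.add_eq_zero).1 h.symm).symm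

theorem Hyp.kap_tp {a : G} (ha : a ∈ H.Q) (k : ZMod 2) : H.kap a (H.tp k) = 0 :=
  H.kap_eq_zero.2 (H.tp_comm' ha k)

theorem Hyp.kap_t {a : G} (ha : a ∈ H.Q) : H.kap a H.t = 0 := H.kap_eq_zero.2 (H.commute_t ha)

theorem Hyp.qf_mul {a b : G} (ha : a ∈ H.Q) (hb : b ∈ H.Q) : H.qf (a * b) = H.qf a + H.qf b + H.kap a b := by
  refine H.qf_eq (mul_mem ha hb) ?_
  calc a * b * (a * b) = a * (b * a) * b := by simp only [mul_assoc]
    _ = a * a * b * (H.tp (H.kap a b) * b) := by rw [H.mul_eq ha hb]; simp only [mul_assoc]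
    _ = a * a * (b * b) * H.tp (H.kap a b) := by rw [← (H.tp_comm' hb _).eq]; simp only [mul_assoc]
    _ = _ := by rw [H.sq_eq ha, H.sq_eq hb, ← H.tp_add, ← H.tp_add]

theorem Hyp.kap_sym_zero {a : G} : H.qf a = 0 ↔ a * a = 1 := by
  rw [Hyp.qf]
  split_ifs with h
  · exact iff_of_true rfl h
  · exact iff_of_false (by decide) h

theorem Hyp.qf_inv (a : G) : H.qf a⁻¹ = H.qf a := by
  rw [Hyp.qf, Hyp.qf]
  classical exact if_congr (by rw [← mul_inv_rev, inv_eq_one]) rfl rfl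

theorem Hyp.kap_conj {c a b : G} : H.kap (c * a * c⁻¹) (c * b * c⁻¹) = H.kap a b := by
  rw [Hyp.kap, Hyp.kap]
  classical exact if_congr (Commute.conj_iff c) rfl rfl

theorem Hyp.qf_conj (c a : G) : H.qf (c * a * c⁻¹) = H.qf a := by
  rw [Hyp.qf, Hyp.qf]
  classical exact if_congr (by rw [conj_mul, conj_eq_one_iff]) rfl rfl

/-- the inner automorphism of `Q` given by one of its elements -/
theorem Hyp.conj_eq {a b : G} (ha : a ∈ H.Q) (hb : b ∈ H.Q) : a * b * a⁻¹ = b * H.tp (H.kap a b) := by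
  rw [mul_inv_eq_iff_eq_mul, mul_assoc, ← (H.tp_comm' ha _).eq, ← mul_assoc]
  rw [H.kap_symm]
  exact H.mul_eq hb ha

end Cfsg.Agent.Spor.OmegaEightCent
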