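import Cfsg.Agent.Lib.Spor.OmegaEightCent.ModelGroup

/-!
The centralizer of the second involution inside the centralizer of the first, and the checks for the relations.
-/

set_option autoImplicit false
set_option maxRecDepth 100000
set_option maxHeartbeats 1000000
set_option linter.style.haveILetI false

namespace Cfsg.Agent.Spor.OmegaEightCent

open DCoset

/-- the listed centralizer is the whole centralizer -/
theorem cent_listed (hA : Nat.card ↥AM = 110592) {a : ↥AM} (ha : Commute a (RA.wel oCert.u)) :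
    RA.cd a ∈ Cert.vals oCert.dList := by
  classical
  haveI : Finite ↥AM := Nat.finite_of_card_ne_zero (by rw [hA]; norm_num)
  haveI := Fintype.ofFinite ↥AM
  set U := RA.wel oCert.u
  set C : Subgroup ↥AM := Subgroup.centralizer {U}
  obtain ⟨hp, hrep, -, -⟩ := pts_spec (R := RA) cert_ok.pts
  have horb : oCert.pts.length * Nat.card C ≤ 110592 := by
    rw [← hA]
    have : Function.Injective
        fun kc : Fin oCert.pts.length × C => RA.wel (oCert.reps.getD kc.1 []) * (kc.2 : ↥AM) := by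
      rintro ⟨k, a⟩ ⟨l, b⟩ e
      simp only at e
      have hc : ∀ (k : Fin oCert.pts.length) (a : C), RA.wel (oCert.pw.getD k []) =
          RA.wel (oCert.reps.getD k []) * (a : ↥AM) * U * (RA.wel (oCert.reps.getD k []) * (a : ↥AM))⁻¹ := by
        intro k a
        have h : (a : ↥AM) * U = U * a := Subgroup.mem_centralizer_singleton_iff.1 a.2
        rw [eq_mul_inv_iff_mul_eq, ← mul_assoc, hrep k k.2, mul_assoc, ← h, mul_assoc]
      have h3 := hp l l.2
      rw [hc l b, ← e, ← hc k a, ← hp k k.2, List.getD_eq_getElem _ _ l.2, List.getD_eq_getElem _ _ k.2] at h3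
      obtain rfl : k = l := Fin.ext ((pts_nodup.getElem_inj_iff).1 h3.symm)
      exact Prod.ext rfl (Subtype.ext (mul_left_cancel e))
    have := Nat.card_le_card_of_injective _ this
    rwa [Nat.card_prod, Nat.card_fin] at this
  have hsz : oCert.pts.length * oCert.dList.length = 110592 := by
    have h := cert_rest
    simp only [sizeRest, Bool.and_eq_true, Nat.beq_eq] at h
    exact h.2
  have hd := dOK_of mu oCert cert_scan0
  have hd1 := hd.1
  simp only [Cert.dOK, List.all_eq_true, List.mem_range] at hd1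
  have hcg := cert_cg
  simp only [Cert.cgOK, List.all_eq_true, Nat.beq_eq] at hcg
  have hv : ∀ k < oCert.dList.length, ∃ z ∈ C, RA.cd z = (oCert.dList.getD k (0, 0, 0)).2.2 := by
    intro k
    induction k using Nat.strong_induction_on with
    | _ k ih =>
      intro hk
      have e := hd1 k hk
      rcases Nat.eq_zero_or_pos k with rfl | hk0
      · simp only [Nat.beq_refl, cond_true, Nat.beq_eq] at e
        exact ⟨1, C.one_mem, by rw [RA.cd_one]; exact e.symm⟩
      · rw [show Nat.beq k 0 = false from Bool.eq_false_iff.2 fun e => hk0.ne' (Nat.eq_of_beq_eq_true e)] at e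
        simp only [cond_false, Bool.and_eq_true, Nat.blt_eq, Nat.beq_eq] at e
        obtain ⟨⟨h1, h2⟩, h3⟩ := e
        obtain ⟨z, hz, hzc⟩ := ih _ h1 (h1.trans hk)
        have hm : oCert.cg.getD (oCert.dList.getD k (0, 0, 0)).2.1 ([], []) ∈ oCert.cg := by
          rw [List.getD_eq_getElem _ _ h2]; exact List.getElem_mem h2
        refine ⟨z * RA.wel (oCert.cg.getD (oCert.dList.getD k (0, 0, 0)).2.1 ([], [])).1,
          C.mul_mem hz (Subgroup.mem_centralizer_singleton_iff.2 (RA.eq_of_cd ?_)), ?_⟩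
        · rw [RA.cd_mul, RA.cd_mul, RA.cd_wel, RA.cd_wel]; exact hcg _ hm
        · rw [RA.cd_mul, hzc, RA.cd_wel, h3]
  choose z hz hzv using hv
  let f : Fin oCert.dList.length → C := fun k => ⟨z k k.2, hz k k.2⟩
  have hf : Function.Injective f := fun i j e => by
    have h := hzv i i.2
    rw [show z i i.2 = z j j.2 from congrArg Subtype.val e, hzv j j.2, List.getD_eq_getElem _ _ j.2,
      List.getD_eq_getElem _ _ i.2] at h
    refine Fin.ext ((hd.2.getElem_inj_iff (i := (i : ℕ)) (j := (j : ℕ))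
      (hi := by simp [Cert.vals]) (hj := by simp [Cert.vals])).1 ?_)
    simp only [Cert.vals, List.getElem_map]
    exact h.symm
  have hCle : Nat.card C ≤ oCert.dList.length := by
    have : 0 < oCert.pts.length := by
      rcases Nat.eq_zero_or_pos oCert.pts.length with h | h
      · rw [h] at hsz; omega
      · exact h
    exact Nat.le_of_mul_le_mul_left (horb.trans hsz.ge) this
  have hb : Function.Bijective f := by
    refine (Nat.bijective_iff_injective_and_card f).2 ⟨hf, ?_⟩
    rw [Nat.card_fin]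
    exact le_antisymm (by simpa using Nat.card_le_card_of_injective f hf) hCle
  obtain ⟨k, hk⟩ := hb.2 ⟨a, Subgroup.mem_centralizer_singleton_iff.2 ha⟩
  rw [show a = z k k.2 from congrArg Subtype.val hk.symm, hzv]
  exact List.mem_map.2 ⟨_, by rw [List.getD_eq_getElem _ _ k.2]; exact List.getElem_mem _, rfl⟩

/-- the involutions of the relations -/
def rW : Fin 4 → List ℕ
  | 0 => xW 7
  | 1 => [1, 4]
  | 2 => [2, 5]
  | 3 => [3, 6]

/-- chains: a word and its two successors -/
def chain : Fin 4 → List (List ℕ × List ℕ × List ℕ)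
  | 0 => [([0], [0], [0]), ([1], [1], [1]), ([2], [2], [2]), ([3], [3, 8], [8]), ([4], [4, 7], [7]),
      ([5], [5, 6], [6]), ([6], [5], [5, 6]), ([7], [4], [4, 7]), ([8], [3], [3, 8])]
  | 1 => [([0], [0, 6, 0, 6], [0, 5, 0, 5]), ([1], [3], [8]), ([2], [4], [7]), ([4], [7], [2]), ([7], [2], [4]),
      ([3], [8], [1]), ([8], [1], [3])]
  | 2 => [([0], [3], [8]), ([1], [0, 6, 0, 6], [0, 5, 0, 5]), ([2], [5], [6]), ([5], [6], [2]), ([6], [2], [5]),
      ([3], [8], [0]), ([8], [0], [3])]
  | 3 => [([0], [4], [7]), ([1], [5], [6]), ([2], [0, 6, 0, 6], [0, 5, 0, 5]), ([5], [6], [1]), ([6], [1], [5]),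
      ([4], [7], [0]), ([7], [0], [4])]

/-- first word of a product of twisted words -/
def pW (ks : List ℕ) : List ℕ := ks.flatMap fun k => (oCert.cg.getD k ([], [])).1

/-- second word of a product of twisted words -/
def sW (ks : List ℕ) : List ℕ := ks.flatMap fun k => (oCert.cg.getD k ([], [])).2

theorem chain_checks : ∀ k : Fin 4, ((chain k).all fun c =>
    c.1.all (fun j => Nat.blt j 9) && c.2.1.all (fun j => Nat.blt j 9) && c.2.2.all (fun j => Nat.blt j 9) &&
    Nat.beq (oCert.ev mu (rW k ++ sW c.1 ++ rW k)) (oCert.ev mu (pW c.2.1)) &&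
    Nat.beq (oCert.ev mu (rW k ++ sW c.2.1 ++ rW k)) (oCert.ev mu (pW c.2.2)) &&
    Nat.beq (oCert.ev mu (rW k ++ sW c.2.2 ++ rW k)) (oCert.ev mu (pW c.1))) = true ∧
    oCert.ev mu (rW k ++ rW k) = oCert.ev mu [] := by decide +kernel

/-- the central elements allowed -/
def candW : Fin 4 → List (List ℕ)
  | 0 => [[], tW, [0], tW ++ [0]]
  | 1 => [[], tW, [0], tW ++ [0], xW 1, tW ++ xW 1, [0] ++ xW 1, tW ++ [0] ++ xW 1]
  | 2 => [[], tW, [0], tW ++ [0], xW 2, tW ++ xW 2, [0] ++ xW 2, tW ++ [0] ++ xW 2]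
  | 3 => [[], tW, [0], tW ++ [0], xW 4, tW ++ xW 4, [0] ++ xW 4, tW ++ [0] ++ xW 4]

/-- one element: central implies allowed -/
def centStep (k : Fin 4) (v : ℕ) : Bool :=
  !((chain k).all fun c => Nat.beq (mu v (oCert.ev mu (pW c.1))) (mu (oCert.ev mu (pW c.1)) v)) ||
    (candW k).any fun w => Nat.beq v (oCert.ev mu w)

theorem center_zero : (Cert.vals oCert.dList).all (centStep 0) = true := by decide +kernel
theorem center_one : (Cert.vals oCert.dList).all (centStep 1) = true := by decide +kernel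
theorem center_two : (Cert.vals oCert.dList).all (centStep 2) = true := by decide +kernel
theorem center_three : (Cert.vals oCert.dList).all (centStep 3) = true := by decide +kernel

theorem center_checks : ∀ k : Fin 4, (Cert.vals oCert.dList).all (centStep k) = true := by
  intro k
  fin_cases k
  exacts [center_zero, center_one, center_two, center_three]

theorem cg_eq : oCert.cg = [(xW 1, xW 1), (xW 2, xW 2), (xW 4, xW 4), (xW 3, [6]), (xW 5, [5]), (xW 6, [4]),
    ([4], xW 6), ([5], xW 5), ([6], xW 3)] := rfl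

theorem rels_eq : ∀ zs ∈ oCert.rels, ∃ k : Fin 4, zs.map Prod.fst = [rW k, rW k, rW k] := by decide +kernel

theorem word_checks : ∀ i : Fin 3,
    (oCert.ev mu ([i.val + 1] ++ [i.val + 4]) = oCert.ev mu (rW i.succ)) ∧
    (oCert.ev mu (rW i.succ ++ tW ++ rW i.succ) = oCert.ev mu tW) ∧
    (oCert.ev mu (rW i.succ ++ [0] ++ rW i.succ) = oCert.ev mu (xW (bit8 i))) ∧
    (oCert.ev mu (rW i.succ ++ xW (bit8 i) ++ rW i.succ) = oCert.ev mu [0]) ∧
    (oCert.ev mu (rW i.succ ++ xW (7 ^^^ bit8 i) ++ rW i.succ) = oCert.ev mu (xW 7)) ∧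
    (oCert.ev mu (tW ++ [0] ++ xW (bit8 i) ++ [i.val + 4] ++ tW ++ [0] ++ xW (bit8 i)) =
      oCert.ev mu ([i.val + 4] ++ [0])) ∧
    (oCert.ev mu (xW 7 ++ [i.val + 4] ++ [0] ++ xW 7 ++ [i.val + 4] ++ [0]) =
      oCert.ev mu (xW (7 ^^^ bit8 i) ++ tW)) := by decide +kernel

theorem word_checks' :
    oCert.ev mu (xW 7 ++ tW ++ xW 7) = oCert.ev mu tW ∧ oCert.ev mu (xW 7 ++ [0] ++ xW 7) = oCert.ev mu (tW ++ [0]) ∧
    (∀ i : Fin 3, oCert.ev mu (xW 7 ++ xW (7 ^^^ bit8 i)) = oCert.ev mu (xW (7 ^^^ bit8 i) ++ xW 7)) ∧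
    (∀ k : Fin 4, (candW k).map (oCert.ev mu) =
      ([[], tW, [0], tW ++ [0]] ++
        (if k.val = 0 then [] else [xW (bit8 ⟨k.val - 1, by omega⟩), tW ++ xW (bit8 ⟨k.val - 1, by omega⟩),
          [0] ++ xW (bit8 ⟨k.val - 1, by omega⟩), tW ++ [0] ++ xW (bit8 ⟨k.val - 1, by omega⟩)])).map
        (oCert.ev mu)) := by decide +kernel

end Cfsg.Agent.Spor.OmegaEightCent
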