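import Cfsg.Agent.Lib.Spor.OmegaEightCent.Codes
import Cfsg.Agent.Lib.Spor.OmegaEightCent.CertData
import Cfsg.Agent.Lib.Spor.OmegaEightCent.HData5

/-! The check of a listed subgroup. -/

set_option autoImplicit false
set_option maxRecDepth 100000
set_option maxHeartbeats 0

namespace Cfsg.Agent.Spor.OmegaEightCent

open DCoset

theorem cert_scan5 : scan (hStep mu oCert 5 itree5 vtree5) (oCert.hLists.getD 5 (0, [])).2 0 = true := by
  decide +kernel

end Cfsg.Agent.Spor.OmegaEightCent
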