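import Cfsg.Agent.Lib.Spor.OmegaEightCent.HCheck0
import Cfsg.Agent.Lib.Spor.OmegaEightCent.HCheck1
import Cfsg.Agent.Lib.Spor.OmegaEightCent.HCheck2
import Cfsg.Agent.Lib.Spor.OmegaEightCent.HCheck3
import Cfsg.Agent.Lib.Spor.OmegaEightCent.HCheck4
import Cfsg.Agent.Lib.Spor.OmegaEightCent.HCheck5
import Cfsg.Agent.Lib.Spor.OmegaEightCent.HCheck6

/-! The certificate for the orthogonal group in dimension eight checks. -/

set_option autoImplicit false
set_option maxRecDepth 100000
set_option maxHeartbeats 0

namespace Cfsg.Agent.Spor.OmegaEightCent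

open DCoset

theorem cert_inv : oCert.invOK mu = true := by decide +kernel
theorem cert_facts : ((List.range oCert.facts.length).all fun k => oCert.factOK mu k) = true := by decide +kernel
theorem cert_pts : oCert.ptsOK mu = true := by decide +kernel
theorem cert_cg : oCert.cgOK mu = true := by decide +kernel
theorem cert_cov : oCert.covAll mu = true := by decide +kernel
theorem cert_rest : sizeRest oCert 110592 = true := by decide +kernel
theorem cert_len : Nat.beq oCert.hLists.length 7 = true := by decide +kernel
theorem cert_nodup : (oCert.pts.dedup.length == oCert.pts.length) = true := by decide +kernel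
theorem cert_total : (oCert.total == 1575) = true := by decide +kernel

theorem cert_ok : oCert.OK mu 110592 where
  inv := cert_inv
  facts k hk := List.all_eq_true.1 cert_facts k (List.mem_range.2 hk)
  pts := cert_pts
  dl := (dOK_of mu oCert cert_scan0).1
  cg := cert_cg
  cov := cert_cov
  size := by
    refine sizeOK_of mu oCert cert_rest (fun i hi h0 => ?_) (dOK_of mu oCert cert_scan0).2
    rw [Nat.eq_of_beq_eq_true cert_len] at hi
    match i with
    | 0 => exact absurd rfl h0
    | 1 => exact hOK_of mu oCert cert_scan1
    | 2 => exact hOK_of mu oCert cert_scan2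
    | 3 => exact hOK_of mu oCert cert_scan3
    | 4 => exact hOK_of mu oCert cert_scan4
    | 5 => exact hOK_of mu oCert cert_scan5
    | 6 => exact hOK_of mu oCert cert_scan6

theorem pts_nodup : oCert.pts.Nodup := by
  have h := List.dedup_sublist oCert.pts
  exact h.eq_of_length (beq_iff_eq.1 cert_nodup) ▸ List.nodup_dedup _

end Cfsg.Agent.Spor.OmegaEightCent
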