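import Cfsg.Agent.Lib.Spor.OmegaEightCent.SylowCheck

/-!
Checks of the classes of involutions of the model: the extraspecial group, a Sylow two-subgroup, the orbit of the
central involution, and the four other classes.
-/

set_option autoImplicit false
set_option maxRecDepth 100000
set_option maxHeartbeats 0

namespace Cfsg.Agent.Spor.OmegaEightCent

open DCoset

theorem qel_scan : scan (closStep qC qelI qelV 512) qelL 0 = true := by decide +kernel
theorem qel_len : Nat.beq qelL.length 512 = true := by decide +kernel
theorem syl_len : Nat.beq sylL.length 4096 = true := by decide +kernel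

/-- inverse codes of the eight generators -/
def allGi : List ℕ := ginvL ++ [tauC]

/-- one entry of the orbit with its conjugator -/
def ocStep (k : ℕ) (e : ℕ × ℕ × ℕ) : Bool :=
  let c := ocI.get k
  (bif Nat.beq k 0 then Nat.beq c.1 oCert.one && Nat.beq c.2.1 oCert.one
    else Nat.blt e.1 k && Nat.blt e.2.1 8 && Nat.beq c.1 (mu (allG.getD e.2.1 0) (ocI.get e.1).1) &&
      Nat.beq c.2.1 (mu (ocI.get e.1).2.1 (allGi.getD e.2.1 0))) &&
  Nat.beq e.2.2 (mu (mu c.1 tC) c.2.1) &&
  (List.range 8).all fun g => inT (mu (mu (allG.getD g 0) e.2.2) (allGi.getD g 0))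

theorem oc_scan : scan ocStep orbL 0 = true := by decide +kernel

theorem allG_inv : ((List.range 8).all fun g => Nat.beq (mu (allG.getD g 0) (allGi.getD g 0)) oCert.one) = true := by
  decide +kernel

/-- value of a word in the eight generators -/
def ev8 (w : List ℕ) : ℕ := w.foldl (fun r k => mu r (allG.getD k oCert.one)) oCert.one

/-- code of a representative -/
def uC (j : ℕ) : ℕ :=
  [0x8241281408040201, 0x8042249009040201, 0x8140209909040201, 0x8142249909040201].getD j oCert.one

theorem uC_eq : ((List.range 4).all fun j => Nat.beq (uC j) (oCert.ev mu (uW.getD j []))) = true := by decide +kernel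

/-- value of an orbit entry -/
def orbC (k : ℕ) : ℕ := (orbI.get k).2.2

/-- the distinguished conjugates are all of them -/
def dCheck (j : ℕ) : Bool :=
  (List.range 1575).all fun k =>
    !(inQ (mu (mu (ocI.get k).2.1 (uC j)) (ocI.get k).1)) || (uD.getD j []).elem k

theorem d_check_zero : dCheck 0 = true := by decide +kernel
theorem d_check_one : dCheck 1 = true := by decide +kernel
theorem d_check_two : dCheck 2 = true := by decide +kernel
theorem d_check_three : dCheck 3 = true := by decide +kernel

/-- a product belongs to the orbit, or does after multiplying by the representative -/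
def okProd (j a b : ℕ) : Bool := inT (mu a b) || inT (mu (uC j) (mu a b))

/-- the two properties of a representative -/
def abCheck (j : ℕ) : Bool :=
  let D := uD.getD j []
  let z := uZ.getD j 0
  inQ (uC j) && Nat.blt 0 D.length && Nat.blt z 1575 && !D.elem z &&
    (D.all fun p => Nat.blt p 1575 && inQ (mu (mu (ocI.get p).2.1 (uC j)) (ocI.get p).1)) &&
    Nat.beq (mu (uC j) (uC j)) oCert.one &&
    Nat.beq (mu (orbC z) (uC j)) (mu (uC j) (orbC z)) &&
    (D.all fun p => D.all fun r => Nat.beq p r ||
      !(Nat.beq (mu (orbC p) (orbC r)) (mu (orbC r) (orbC p))) || okProd j (orbC p) (orbC r)) &&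
    D.all fun d => !(Nat.beq (mu (orbC z) (orbC d)) (mu (orbC d) (orbC z))) || okProd j (orbC z) (orbC d)

theorem ab_check : ((List.range 4).all fun j => abCheck j && !(inT (uC j)) && !(Nat.beq (uC j) oCert.one)) = true := by
  decide +kernel

theorem r3_check : ((List.range 3).all fun j =>
    let r := oCert.ev mu (uR.getD j [])
    !(Nat.beq r oCert.one) && Nat.beq (mu r (mu r r)) oCert.one && Nat.beq (mu r (uC j)) (mu (uC j) r)) = true := by
  decide +kernel

/-- inverse word -/
def winv (w : List ℕ) : List ℕ :=
  w.reverse.flatMap fun g => if g = 1 ∨ g = 2 ∨ g = 3 then [g, g] else [g]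

/-- codes of the conjugates of the last representative -/
def uOC : List ℕ := uO.map fun w => mu (mu (oCert.ev mu w) (uC 3)) (oCert.ev mu (winv w))

theorem uo_check : (Nat.beq uO.length 55 && (uOC.dedup.length == uOC.length) &&
    uO.all (fun w => w.all (fun g => Nat.blt g 7) &&
      Nat.beq (mu (oCert.ev mu w) (oCert.ev mu (winv w))) oCert.one)) = true := by decide +kernel

/-- code of a class representative -/
def repC : ℕ → ℕ
  | 0 => oCert.ev mu tW
  | j + 1 => uC j

/-- one involution -/
def invStep (h : ℕ × ℕ × List ℕ) : Bool :=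
  Nat.blt h.2.1 5 && h.2.2.all (fun g => Nat.blt g 8) &&
    Nat.beq (mu (ev8 h.2.2) h.1) (mu (repC h.2.1) (ev8 h.2.2))

theorem inv_check : invL.all invStep = true := by decide +kernel

theorem inv_complete : (sylL.all fun e => Nat.beq e.2.2 oCert.one || !(Nat.beq (mu e.2.2 e.2.2) oCert.one) ||
    invL.any fun h => Nat.beq h.1 e.2.2) = true := by decide +kernel

end Cfsg.Agent.Spor.OmegaEightCent
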