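import Mathlib

/-!
Matrices of size eight over two elements as natural numbers: column `j` is byte `j`.
-/

set_option autoImplicit false

namespace Cfsg.Agent.Spor.OmegaEightCent

/-- a column of a code, if wanted -/
def colIf (a : ℕ) (b : Bool) (k : ℕ) : ℕ := bif b then Nat.land (Nat.shiftRight a (8 * k)) 255 else 0

/-- apply a code to the vector in byte `j` of another code -/
def apC (a v : ℕ) : ℕ :=
  Nat.xor (Nat.xor (Nat.xor (colIf a (Nat.testBit v 0) 0) (colIf a (Nat.testBit v 1) 1))
      (Nat.xor (colIf a (Nat.testBit v 2) 2) (colIf a (Nat.testBit v 3) 3)))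
    (Nat.xor (Nat.xor (colIf a (Nat.testBit v 4) 4) (colIf a (Nat.testBit v 5) 5))
      (Nat.xor (colIf a (Nat.testBit v 6) 6) (colIf a (Nat.testBit v 7) 7)))

/-- one column of a product, in place -/
def colP (a b j : ℕ) : ℕ := Nat.shiftLeft (apC a (Nat.shiftRight b (8 * j))) (8 * j)

/-- the product of codes -/
def mu (a b : ℕ) : ℕ :=
  Nat.lor (Nat.lor (Nat.lor (colP a b 0) (colP a b 1)) (Nat.lor (colP a b 2) (colP a b 3)))
    (Nat.lor (Nat.lor (colP a b 4) (colP a b 5)) (Nat.lor (colP a b 6) (colP a b 7)))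

end Cfsg.Agent.Spor.OmegaEightCent
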