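import Mathlib

/-!
A subgroup which controls the conjugates of an involution contains the centralizer of a second involution, given two
closure properties of a set of conjugates attached to the second one.
-/

set_option autoImplicit false
set_option linter.style.haveILetI false
set_option linter.unusedSectionVars false

namespace Cfsg.Agent.Spor.OmegaEightCent

universe u

variable {G : Type u} [Group G]

theorem refl_pow {a b : G} (ha : a * a = 1) (hb : b * b = 1) (k : ℕ) :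
    a * (a * b) ^ k = ((a * b) ^ k)⁻¹ * a ∧ b * (a * b) ^ k = ((a * b) ^ k)⁻¹ * b := by
  have hai : a⁻¹ = a := inv_eq_of_mul_eq_one_right ha
  have hbi : b⁻¹ = b := inv_eq_of_mul_eq_one_right hb
  have key : ∀ c : G, c * c = 1 → c * (a * b) * c⁻¹ = (a * b)⁻¹ → c * (a * b) ^ k = ((a * b) ^ k)⁻¹ * c := by
    intro c hc h
    rw [← inv_pow, ← h, conj_pow, inv_mul_cancel_right]
  refine ⟨key a ha ?_, key b hb ?_⟩
  · rw [mul_inv_rev, hai, hbi, ← mul_assoc, ha, one_mul]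
  · rw [mul_inv_rev, hai, hbi, mul_assoc, mul_assoc, hb, mul_one]

/-- Two involutions: conjugate, or centralized by an involution moving one of them inside its class. -/
theorem dihedral_cases [Finite G] {a b : G} (ha : a * a = 1) (hb : b * b = 1) :
    (∃ h, (∀ v, Commute v a → Commute v b → Commute v h) ∧ h * a * h⁻¹ = b) ∨
    ∃ w, w * w = 1 ∧ w ≠ 1 ∧ Commute a w ∧ Commute b w ∧ (∀ v, Commute v a → Commute v b → Commute v w) ∧
      ((∃ h, (∀ v, Commute v a → Commute v b → Commute v h) ∧ h * a * h⁻¹ = b * w) ∨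
       ((∃ h, (∀ v, Commute v a → Commute v b → Commute v h) ∧ h * a * h⁻¹ = a * w) ∧
        ∃ h, (∀ v, Commute v a → Commute v b → Commute v h) ∧ h * b * h⁻¹ = b * w)) := by
  set r := a * b with hr
  have hrf : ∀ k : ℕ, a * r ^ k = (r ^ k)⁻¹ * a ∧ b * r ^ k = (r ^ k)⁻¹ * b := refl_pow ha hb
  have hc : ∀ (k : ℕ) (v : G), Commute v a → Commute v b → Commute v (r ^ k) := fun k v h1 h2 =>
    (h1.mul_right h2).pow_right k
  have hconj : ∀ j : ℕ, (r ^ j)⁻¹ * a * ((r ^ j)⁻¹)⁻¹ = a * r ^ (j + j) ∧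
      (r ^ j)⁻¹ * b * ((r ^ j)⁻¹)⁻¹ = b * r ^ (j + j) := fun j => by
    rw [inv_inv]
    constructor
    · rw [← (hrf j).1, mul_assoc, ← pow_add]
    · rw [← (hrf j).2, mul_assoc, ← pow_add]
  rcases Nat.even_or_odd (orderOf r) with ⟨k, hk⟩ | ⟨j, hj⟩
  · have hpos : 0 < orderOf r := orderOf_pos r
    have hk1 : r ^ k ≠ 1 := fun h => by
      have := Nat.le_of_dvd (by omega) (orderOf_dvd_of_pow_eq_one h)
      omega
    have hk2 : r ^ k * r ^ k = 1 := by rw [← pow_add, ← hk, pow_orderOf_eq_one]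
    have hki : (r ^ k)⁻¹ = r ^ k := inv_eq_of_mul_eq_one_right hk2
    refine Or.inr ⟨r ^ k, hk2, hk1, ?_, ?_, hc k, ?_⟩
    · exact (hrf k).1.trans (by rw [hki])
    · exact (hrf k).2.trans (by rw [hki])
    · rcases Nat.even_or_odd k with ⟨j, rfl⟩ | ⟨j, rfl⟩
      · exact Or.inr ⟨⟨(r ^ j)⁻¹, fun v h1 h2 => (hc j v h1 h2).inv_right, (hconj j).1⟩,
          ⟨(r ^ j)⁻¹, fun v h1 h2 => (hc j v h1 h2).inv_right, (hconj j).2⟩⟩
      · refine Or.inl ⟨(r ^ j)⁻¹ * b, fun v h1 h2 => (hc j v h1 h2).inv_right.mul_right h2, ?_⟩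
        have hbi : b⁻¹ = b := inv_eq_of_mul_eq_one_right hb
        rw [mul_inv_rev, inv_inv, hbi]
        calc (r ^ j)⁻¹ * b * a * (b * r ^ j) = (r ^ j)⁻¹ * b * (a * b) * r ^ j := by simp only [mul_assoc]
          _ = b * r ^ j * (r * r ^ j) := by rw [(hrf j).2, ← hr]; simp only [mul_assoc]
          _ = _ := by rw [show 2 * j + 1 = j + (j + 1) by omega, pow_add r j, pow_succ', mul_assoc]
  · refine Or.inl ⟨r ^ j, hc j, ?_⟩
    have h1 : r * r ^ (j + j) = 1 := by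
      rw [← pow_succ', show j + j + 1 = orderOf r by omega, pow_orderOf_eq_one]
    have h2 : (r ^ (j + j))⁻¹ = r := inv_eq_of_mul_eq_one_left h1
    have hra : r ^ j * a = a * (r ^ j)⁻¹ := by
      rw [eq_mul_inv_iff_mul_eq, mul_assoc, (hrf j).1, mul_inv_cancel_left]
    calc r ^ j * a * (r ^ j)⁻¹ = a * ((r ^ j)⁻¹ * (r ^ j)⁻¹) := by rw [hra, mul_assoc]
      _ = a * r := by rw [← mul_inv_rev, ← pow_add, h2]
      _ = b := by rw [hr, ← mul_assoc, ha, one_mul]

variable [Finite G]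

/-- **The centralizer of the second involution lies in the subgroup.** -/
theorem cent_le_of_pair (M : Subgroup G) (t u : G) (Y : Set G) (ht : t * t = 1)
    (hin : ∀ g : G, g * t * g⁻¹ ∈ M → g ∈ M) (hC : ∀ g : G, Commute g t → g ∈ M) (huM : u ∈ M)
    (hYt : ∀ s ∈ Y, (∃ g, g * t * g⁻¹ = s) ∧ Commute s u)
    (hYinv : ∀ s ∈ Y, ∀ h : G, Commute h u → h * s * h⁻¹ ∈ Y)
    (hne : ∃ d ∈ Y, d ∈ M)
    (hA : ∀ d ∈ Y, ∀ d' ∈ Y, d ∈ M → d' ∈ M → Commute d d' → d ≠ d' →
      (∃ g, g * t * g⁻¹ = d * d') ∨ ∃ g, g * t * g⁻¹ = u * (d * d'))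
    {z : G} (hz : ∃ g, g * t * g⁻¹ = z) (hzM : z ∈ M) (hzu : Commute z u) (hzY : z ∉ Y)
    (hB : ∀ d ∈ Y, d ∈ M → Commute z d →
      (∃ g, g * t * g⁻¹ = z * d) ∨ ∃ g, g * t * g⁻¹ = u * (z * d)) :
    ∀ g : G, Commute g u → g ∈ M := by
  -- centralizers of conjugates inside
  have hcent : ∀ s ∈ M, (∃ g, g * t * g⁻¹ = s) → ∀ y, Commute y s → y ∈ M := by
    rintro s hs ⟨g, rfl⟩ y hy
    have hg : g ∈ M := hin g hs
    have h := (Commute.conj_iff g⁻¹).2 hy
    rw [inv_inv, show g⁻¹ * (g * t * g⁻¹) * g = t by group] at h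
    have := mul_mem (mul_mem hg (hC _ h)) (inv_mem hg)
    rwa [show g * (g⁻¹ * y * g) * g⁻¹ = y by group] at this
  have hclose : ∀ w y : G, w ∈ M → Commute y w → Commute y u →
      ((∃ g, g * t * g⁻¹ = w) ∨ ∃ g, g * t * g⁻¹ = u * w) → y ∈ M := by
    rintro w y hw hyw hyu (h | h)
    · exact hcent w hw h y hyw
    · exact hcent _ (mul_mem huM hw) h y (hyu.mul_right hyw)
  have hsq : ∀ s, (∃ g, g * t * g⁻¹ = s) → s * s = 1 := by
    rintro _ ⟨g, rfl⟩
    calc g * t * g⁻¹ * (g * t * g⁻¹) = g * (t * t) * g⁻¹ := by group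
      _ = 1 := by rw [ht]; group
  intro g hg
  by_contra hgM
  obtain ⟨d₀, hd₀, hd₀M⟩ := hne
  set y := g * d₀ * g⁻¹ with hy
  have hyY : y ∈ Y := hYinv d₀ hd₀ g hg
  obtain ⟨⟨k, hk⟩, hyu⟩ := hYt y hyY
  -- y is outside
  have hyM : y ∉ M := fun h => by
    obtain ⟨l, hl⟩ := (hYt d₀ hd₀).1
    have hgl : g * l ∈ M := hin (g * l) (by
      rw [show g * l * t * (g * l)⁻¹ = g * (l * t * l⁻¹) * g⁻¹ by group, hl, ← hy]; exact h)
    have hlM : l ∈ M := hin l (by rw [hl]; exact hd₀M)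
    exact hgM (by simpa using mul_mem hgl (inv_mem hlM))
  have hy2 := hsq y ⟨k, hk⟩
  -- conjugate to every inside member
  have hodd : ∀ d ∈ Y, d ∈ M → ∃ h, Commute u h ∧ h * y * h⁻¹ = d := by
    intro d hd hdM
    obtain ⟨hdt, hdu⟩ := hYt d hd
    rcases dihedral_cases hy2 (hsq d hdt) with ⟨h, hh, he⟩ | ⟨w, hw2, hw1, hyw, hdw, hwc, hcase⟩
    · exact ⟨h, hh u hyu.symm hdu.symm, he⟩
    · exfalso
      have hwM : w ∈ M := hcent d hdM hdt w hdw.symm
      have hwu : Commute u w := hwc u hyu.symm hdu.symm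
      have hd' : d * w ∈ Y := by
        rcases hcase with ⟨h, hh, he⟩ | ⟨-, h, hh, he⟩
        · exact he ▸ hYinv y hyY h (hh u hyu.symm hdu.symm).symm
        · exact he ▸ hYinv d hd h (hh u hyu.symm hdu.symm).symm
      have hcdd : Commute d (d * w) := (Commute.refl d).mul_right hdw
      have hdne : d ≠ d * w := fun h => hw1 (left_eq_mul.1 h)
      have := hA d hd (d * w) hd' hdM (mul_mem hdM hwM) hcdd hdne
      rw [← mul_assoc d d w, hsq d hdt, one_mul] at this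
      exact hyM (hclose w y hwM hyw hyu this)
  -- against the witness
  rcases dihedral_cases hy2 (hsq z hz) with ⟨h, hh, he⟩ | ⟨w, hw2, hw1, hyw, hzw, hwc, hcase⟩
  · exact hzY (he ▸ hYinv y hyY h (hh u hyu.symm hzu.symm).symm)
  · have hwM : w ∈ M := hcent z hzM hz w hzw.symm
    rcases hcase with ⟨h, hh, he⟩ | ⟨⟨h, hh, he⟩, -⟩
    · have hd : z * w ∈ Y := he ▸ hYinv y hyY h (hh u hyu.symm hzu.symm).symm
      have := hB (z * w) hd (mul_mem hzM hwM) ((Commute.refl z).mul_right hzw)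
      rw [← mul_assoc z z w, hsq z hz, one_mul] at this
      exact hyM (hclose w y hwM hyw hyu this)
    · have hywY : y * w ∈ Y := he ▸ hYinv y hyY h (hh u hyu.symm hzu.symm).symm
      obtain ⟨c, hcu, hcy⟩ := hodd d₀ hd₀ hd₀M
      set e := c * (y * w) * c⁻¹ with he'
      have heY : e ∈ Y := hYinv _ hywY c hcu.symm
      have hce : Commute d₀ e := by
        have h1 := (Commute.conj_iff c).2 ((Commute.refl y).mul_right hyw)
        rwa [hcy, ← he'] at h1
      have heM : e ∈ M := hcent d₀ hd₀M (hYt d₀ hd₀).1 e hce.symm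
      have hde : d₀ * e = c * w * c⁻¹ := by
        calc d₀ * e = c * y * c⁻¹ * (c * (y * w) * c⁻¹) := by rw [hcy, he']
          _ = c * (y * y * w) * c⁻¹ := by group
          _ = _ := by rw [hy2, one_mul]
      have hne' : d₀ ≠ e := fun h => hw1 (by
        have h' : y = y * w := mul_left_cancel (mul_right_cancel (hcy.trans (h.trans he')))
        exact left_eq_mul.1 h')
      have := hA d₀ hd₀ e heY hd₀M heM hce hne'
      rw [hde] at this
      refine hyM (hclose w y hwM hyw hyu ?_)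
      rcases this with ⟨l, hl⟩ | ⟨l, hl⟩
      · exact Or.inl ⟨c⁻¹ * l, by
          rw [show c⁻¹ * l * t * (c⁻¹ * l)⁻¹ = c⁻¹ * (l * t * l⁻¹) * c by group, hl]; group⟩
      · exact Or.inr ⟨c⁻¹ * l, by
          rw [show c⁻¹ * l * t * (c⁻¹ * l)⁻¹ = c⁻¹ * (l * t * l⁻¹) * c by group, hl,
            show u * (c * w * c⁻¹) = c * (u * w) * c⁻¹ by rw [← mul_assoc, ← mul_assoc, hcu.eq]; group]
          group⟩

/-- If the centralizers of all involutions of the subgroup lie inside and an involution there is not conjugate to `t`,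
the subgroup is everything. -/
theorem eq_top_of_cents (M : Subgroup G) (t u : G) (ht : t * t = 1)
    (hin : ∀ g : G, g * t * g⁻¹ ∈ M → g ∈ M) (huM : u ∈ M) (hu : u * u = 1)
    (hut : ∀ g : G, g * t * g⁻¹ ≠ u)
    (hall : ∀ w ∈ M, w * w = 1 → w ≠ 1 → ∀ g : G, Commute g w → g ∈ M) (hu1 : u ≠ 1) : M = ⊤ := by
  refine eq_top_iff.2 fun g _ => hin g ?_
  set y := g * t * g⁻¹ with hy
  have hy2 : y * y = 1 := by
    calc y * y = g * (t * t) * g⁻¹ := by rw [hy]; group
      _ = 1 := by rw [ht]; group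
  rcases dihedral_cases hy2 hu with ⟨h, -, he⟩ | ⟨w, hw2, hw1, hyw, huw, -, -⟩
  · refine absurd ?_ (hut (h * g))
    rw [← he, hy]; group
  · exact hall w (hall u huM hu hu1 w huw.symm) hw2 hw1 y hyw

end Cfsg.Agent.Spor.OmegaEightCent
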