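import Cfsg.Agent.Lib.Spor.OmegaEightCent.Basis8

/-!
Exact relations between the chosen elements.
-/

set_option autoImplicit false
set_option linter.style.haveILetI false
set_option linter.unusedSectionVars false
set_option maxRecDepth 10000

namespace Cfsg.Agent.Spor.OmegaEightCent

universe u

theorem unit_facts : ∀ i j : Fin 3, hasBit (bit8 i) j = decide (i = j) ∧ hasBit (7 ^^^ bit8 i) i = false ∧
    (i ≠ j → hasBit (7 ^^^ bit8 i) j = true ∧ hasBit (7 ^^^ bit8 i ^^^ bit8 j) i = false ∧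
      7 ^^^ bit8 j ^^^ bit8 i = 7 ^^^ bit8 i ^^^ bit8 j ∧ 7 ^^^ bit8 i ^^^ bit8 j ≠ 0) ∧
    (bit8 i = 1 ∨ bit8 i = 2 ∨ bit8 i = 4) ∧ pairV 0 (bit8 i) = 0 ∧ pairV (bit8 i) (7 ^^^ bit8 i) = 1 ∧
    (i ≠ j → pairV (bit8 j) (7 ^^^ bit8 i) = 0) ∧ pairV 0 (7 ^^^ bit8 i) = 0 ∧ bit8 i ≠ 0 := by
  decide +kernel

theorem zero_xor_bit : ∀ i : Fin 3, (0 : Fin 8) ^^^ bit8 i = bit8 i := by decide +kernel

theorem pairV_bit_zero : ∀ i : Fin 3, pairV (bit8 i) 0 = 0 := by decide +kernel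

theorem eps3_sq : ∀ i : Fin 3, eps3 i * eps3 i = 1 := by decide +kernel

variable {G : Type u} [Group G] [Finite G] {H : Hyp G} {g : G}

/-- the conjugate -/
def Hyp.xc (H : Hyp G) (g : G) : G := g * H.t * g⁻¹

/-- the eight involutions -/
def Normal3.xx (_N : Normal3 H g) (L : Lifted H.π) (d : Fin 8) : G :=
  ((pe8 L.ρ d : ↥H.C) : G) * H.xc g * ((pe8 L.ρ d : ↥H.C) : G)⁻¹

theorem Normal3.xx_zero (N : Normal3 H g) (L : Lifted H.π) : N.xx L 0 = H.xc g := by
  rw [Normal3.xx, pe8_zero]; simp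

theorem Normal3.xx_mem (N : Normal3 H g) (L : Lifted H.π) (d : Fin 8) : N.xx L d ∈ H.Q :=
  H.conj_mem (pe8 L.ρ d).2 N.P.mem

theorem Normal3.xx_sq (N : Normal3 H g) (L : Lifted H.π) (d : Fin 8) : N.xx L d * N.xx L d = 1 := by
  rw [Normal3.xx]
  calc _ = ((pe8 L.ρ d : ↥H.C) : G) * (H.xc g * H.xc g) * ((pe8 L.ρ d : ↥H.C) : G)⁻¹ := by group
    _ = 1 := by rw [Hyp.xc, N.P.sq]; group

theorem Normal3.mkV_xx (N : Normal3 H g) (L : Lifted H.π) (d : Fin 8) :
    H.mkV ⟨N.xx L d, N.xx_mem L d⟩ = N.ev L d := rfl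

theorem Normal3.kap_xx (N : Normal3 H g) (L : Lifted H.π) (a b : Fin 8) :
    H.kap (N.xx L a) (N.xx L b) = pairV a b := by
  rw [← N.bf_ev L a b, ← N.mkV_xx, ← N.mkV_xx, H.bf_mk]

theorem Normal3.conj_tp {H : Hyp G} (c : ↥H.C) (k : ZMod 2) : (c : G) * H.tp k * (c : G)⁻¹ = H.tp k := by
  rw [(H.tp_comm c.2 k).eq, mul_inv_cancel_right]

open Classical in
/-- the bit of the line of a rotation -/
noncomputable def Normal3.mb (N : Normal3 H g) (L : Lifted H.π) (i : Fin 3) : ZMod 2 :=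
  if (L.ρ i : G) * N.xx L (bit8 i) * (L.ρ i : G)⁻¹ = H.xc g * N.xx L (bit8 i) then 0 else 1

theorem Normal3.xx_step (N : Normal3 H g) (L : Lifted H.π) {d : Fin 8} {i : Fin 3} (h : hasBit d i = false) :
    (L.ρ i : G) * N.xx L d * (L.ρ i : G)⁻¹ = N.xx L (d ^^^ bit8 i) := by
  rw [Normal3.xx, Normal3.xx, pe8_step L.ρ L.ρ_comm d i h, Subgroup.coe_mul]
  group

theorem Normal3.rho_line (N : Normal3 H g) (L : Lifted H.π) (i : Fin 3) :
    (L.ρ i : G) * N.xx L (bit8 i) * (L.ρ i : G)⁻¹ = H.xc g * N.xx L (bit8 i) * H.tp (N.mb L i) := by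
  rw [Normal3.mb]
  split_ifs with h
  · rw [H.tp_zero, mul_one, h]
  · have e : H.mkV ⟨_, H.conj_mem (L.ρ i).2 (N.xx_mem L (bit8 i))⟩ =
        H.mkV ((⟨H.xc g, N.P.mem⟩ : ↥H.Q) * ⟨_, N.xx_mem L (bit8 i)⟩) := by
      rw [map_mul, N.mkV_xx L (bit8 i)]
      show H.act (L.ρ i) (H.mkV ⟨_, N.xx_mem L (bit8 i)⟩) = N.P.xv * _
      rw [N.mkV_xx]
      have hb : hasBit (0 : Fin 8) i = false := by simp [hasBit]
      have h' := N.ev_step L (d := 0) (i := i) hb
      rw [zero_xor_bit i] at *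
      rw [h', N.rho_sq, N.ev_zero]
    obtain ⟨k, hk⟩ := H.mkV_eq_iff.1 e.symm
    have hk' : (L.ρ i : G) * N.xx L (bit8 i) * (L.ρ i : G)⁻¹ = H.xc g * N.xx L (bit8 i) * H.tp k := hk
    rcases bit_cases k with rfl | rfl
    · exact absurd (hk'.trans (by rw [H.tp_zero, mul_one])) h
    · exact hk'

theorem Normal3.xx_step_one (N : Normal3 H g) (L : Lifted H.π) {d : Fin 8} {i : Fin 3} (h : hasBit d i = true) :
    (L.ρ i : G) * N.xx L d * (L.ρ i : G)⁻¹ = N.xx L (d ^^^ bit8 i) * N.xx L d * H.tp (N.mb L i) := by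
  obtain ⟨hdd, hb⟩ := bit_xor_facts d i
  rw [h] at hb
  set e := d ^^^ bit8 i with he
  have hd : pe8 L.ρ d = L.ρ i * pe8 L.ρ e := by
    rw [← pe8_step L.ρ L.ρ_comm e i hb, hdd]
  have hu : pe8 L.ρ (bit8 i) = L.ρ i := by
    have := pe8_step L.ρ L.ρ_comm 0 i (by simp [hasBit])
    rw [zero_xor_bit i, pe8_zero, mul_one] at this
    exact this
  have hcg : ((pe8 L.ρ e : ↥H.C) : G) * (L.ρ i : G) = (L.ρ i : G) * ((pe8 L.ρ e : ↥H.C) : G) :=
    congrArg Subtype.val (pe8_comm L.ρ e (L.ρ i) fun j _ => L.ρ_comm i j).eq.symm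
  have key : (L.ρ i : G) * N.xx L d * (L.ρ i : G)⁻¹ =
      ((pe8 L.ρ e : ↥H.C) : G) * ((L.ρ i : G) * N.xx L (bit8 i) * (L.ρ i : G)⁻¹) * ((pe8 L.ρ e : ↥H.C) : G)⁻¹ := by
    rw [Normal3.xx, Normal3.xx, hd, hu, Subgroup.coe_mul]
    calc _ = (L.ρ i : G) * ((L.ρ i : G) * ((pe8 L.ρ e : ↥H.C) : G)) * H.xc g *
          ((L.ρ i : G) * ((L.ρ i : G) * ((pe8 L.ρ e : ↥H.C) : G)))⁻¹ := by group
      _ = (L.ρ i : G) * (((pe8 L.ρ e : ↥H.C) : G) * (L.ρ i : G)) * H.xc g *
          ((L.ρ i : G) * (((pe8 L.ρ e : ↥H.C) : G) * (L.ρ i : G)))⁻¹ := by rw [hcg]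
      _ = ((L.ρ i : G) * ((pe8 L.ρ e : ↥H.C) : G)) * ((L.ρ i : G) * H.xc g * (L.ρ i : G)⁻¹) *
          ((L.ρ i : G) * ((pe8 L.ρ e : ↥H.C) : G))⁻¹ := by group
      _ = (((pe8 L.ρ e : ↥H.C) : G) * (L.ρ i : G)) * ((L.ρ i : G) * H.xc g * (L.ρ i : G)⁻¹) *
          (((pe8 L.ρ e : ↥H.C) : G) * (L.ρ i : G))⁻¹ := by rw [hcg]
      _ = _ := by group
  rw [key, N.rho_line]
  calc ((pe8 L.ρ e : ↥H.C) : G) * (H.xc g * N.xx L (bit8 i) * H.tp (N.mb L i)) * ((pe8 L.ρ e : ↥H.C) : G)⁻¹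
      = (((pe8 L.ρ e : ↥H.C) : G) * H.xc g * ((pe8 L.ρ e : ↥H.C) : G)⁻¹) *
        (((pe8 L.ρ e : ↥H.C) : G) * N.xx L (bit8 i) * ((pe8 L.ρ e : ↥H.C) : G)⁻¹) *
        (((pe8 L.ρ e : ↥H.C) : G) * H.tp (N.mb L i) * ((pe8 L.ρ e : ↥H.C) : G)⁻¹) := by group
    _ = _ := by
      rw [Normal3.conj_tp, Normal3.xx, hu]
      congr 2
      rw [Normal3.xx, hd, Subgroup.coe_mul]
      calc _ = (((pe8 L.ρ e : ↥H.C) : G) * (L.ρ i : G)) * H.xc g * (((pe8 L.ρ e : ↥H.C) : G) * (L.ρ i : G))⁻¹ := by group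
        _ = _ := by rw [hcg]

theorem Normal3.n_rho (N : Normal3 H g) (L : Lifted H.π) (i j : Fin 3) :
    (L.n i : G) * (L.ρ j : G) = (if i = j then (L.ρ j : G) * (L.ρ j : G) else (L.ρ j : G)) * (L.n i : G) := by
  have h := congrArg Subtype.val (L.n_conj i j)
  rw [Subgroup.coe_mul, Subgroup.coe_mul, Subgroup.coe_inv, mul_inv_eq_iff_eq_mul] at h
  rw [h]
  split_ifs <;> rfl

theorem Normal3.n_x0 (N : Normal3 H g) (L : Lifted H.π) (i : Fin 3) : Commute (L.n i : G) (H.xc g) := by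
  have e : H.mkV (H.cjQ (L.n i) ⟨H.xc g, N.P.mem⟩) = H.mkV ⟨H.xc g, N.P.mem⟩ := N.n_x L i
  obtain ⟨l, hl⟩ := H.mkV_eq_iff.1 e.symm
  have hl' : (L.n i : G) * H.xc g * (L.n i : G)⁻¹ = H.xc g * H.tp l := hl
  rcases bit_cases l with rfl | rfl
  · rw [H.tp_zero, mul_one] at hl'
    exact mul_inv_eq_iff_eq_mul.1 hl'
  · exfalso
    rw [H.tp_one] at hl'
    set a := H.xc g with ha
    set r := (L.ρ i : G) with hr
    set b := N.xx L (bit8 i) with hb
    have hbe : b = r * a * r⁻¹ := by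
      have := N.xx_step L (d := 0) (i := i) (by simp [hasBit])
      rw [zero_xor_bit i, N.xx_zero] at this
      exact this.symm
    have hrt : Commute r H.t := H.mem_C.1 (L.ρ i).2
    have hnt : Commute (L.n i : G) H.t := H.mem_C.1 (L.n i).2
    have hn := N.n_rho L i i
    rw [if_pos rfl] at hn
    set n := (L.n i : G) with hnn
    -- the third element of the line, computed twice
    have h1 : n * b * n⁻¹ = r * (a * H.t * b) * r⁻¹ * (r * r⁻¹) ∨ True := Or.inr trivial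
    have hline := N.rho_line L i
    rw [← hr, ← hb] at hline
    have hnb : n * b * n⁻¹ = a * b * H.tp (N.mb L i) * H.t := by
      rw [hbe]
      calc n * (r * a * r⁻¹) * n⁻¹ = (n * r) * a * (n * r)⁻¹ := by group
        _ = r * r * n * a * (r * r * n)⁻¹ := by rw [hn]
        _ = r * (r * (n * a * n⁻¹) * r⁻¹) * r⁻¹ := by group
        _ = r * (r * (a * H.t) * r⁻¹) * r⁻¹ := by rw [hl']
        _ = r * (b * (r * H.t * r⁻¹)) * r⁻¹ := by rw [hbe]; group
        _ = r * (b * H.t) * r⁻¹ := by rw [hrt.eq, mul_inv_cancel_right]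
        _ = (r * b * r⁻¹) * (r * H.t * r⁻¹) := by group
        _ = _ := by rw [hrt.eq, mul_inv_cancel_right, hline]; simp only [hbe, ha]
    have hnn2 : n * (a * b * H.tp (N.mb L i)) * n⁻¹ = b * H.t := by
      have e1 : a * b * H.tp (N.mb L i) = r * b * r⁻¹ := hline.symm
      have hr3 : r * r * r = 1 := by
        have := congrArg Subtype.val (L.ρ_cube i)
        simpa [pow_succ, hr] using this
      rw [e1, hbe]
      calc n * (r * (r * a * r⁻¹) * r⁻¹) * n⁻¹ = (n * r) * (r * a * r⁻¹) * (n * r)⁻¹ := by group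
        _ = r * r * n * (r * a * r⁻¹) * (r * r * n)⁻¹ := by rw [hn]
        _ = r * r * (n * r) * a * (r * r * (n * r))⁻¹ := by group
        _ = r * r * (r * r * n) * a * (r * r * (r * r * n))⁻¹ := by rw [hn]
        _ = (r * r * r) * r * (n * a * n⁻¹) * ((r * r * r) * r)⁻¹ := by group
        _ = r * (a * H.t) * r⁻¹ := by rw [hr3, one_mul, hl']
        _ = _ := by rw [← mul_assoc, mul_assoc (r * a) H.t, ← hrt.inv_left.eq, ← mul_assoc]
    have e3 : n * (a * b * H.tp (N.mb L i)) * n⁻¹ =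
        (a * H.t) * (a * b * H.tp (N.mb L i) * H.t) * H.tp (N.mb L i) := by
      calc n * (a * b * H.tp (N.mb L i)) * n⁻¹
          = (n * a * n⁻¹) * (n * b * n⁻¹) * (n * H.tp (N.mb L i) * n⁻¹) := by group
        _ = _ := by rw [hl', hnb, Normal3.conj_tp]
    rw [e3] at hnn2
    have haQ : a ∈ H.Q := N.P.mem
    have e4 : a * H.t * (a * b * H.tp (N.mb L i) * H.t) * H.tp (N.mb L i) = b := by
      set z := H.tp (N.mb L i) with hz
      have htz : Commute H.t z := H.tp_comm (H.t_mem_C) _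
      have hzz : z * z = 1 := by rw [hz, ← H.tp_add, CharTwo.add_self_eq_zero, H.tp_zero]
      have hta : Commute H.t a := (H.commute_t haQ).symm
      have htb : Commute H.t b := (H.commute_t (N.xx_mem L _)).symm
      calc a * H.t * (a * b * z * H.t) * z = a * (H.t * a) * b * z * (H.t * z) := by simp only [mul_assoc]
        _ = a * a * (H.t * b) * z * (z * H.t) := by rw [hta.eq, htz.eq]; simp only [mul_assoc]
        _ = b * H.t * (z * z) * H.t := by rw [show a * a = 1 from N.P.sq, htb.eq]; simp only [mul_assoc, one_mul]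
        _ = b := by rw [hzz, mul_one, mul_assoc, H.t_sq, mul_one]
    rw [e4] at hnn2
    exact H.t_ne (left_eq_mul.1 hnn2)

theorem Normal3.n_xx (N : Normal3 H g) (L : Lifted H.π) (d : Fin 8) (i : Fin 3) :
    (hasBit d i = false → (L.n i : G) * N.xx L d * (L.n i : G)⁻¹ = N.xx L d) ∧
    (hasBit d i = true → (L.n i : G) * N.xx L d * (L.n i : G)⁻¹ =
      N.xx L (d ^^^ bit8 i) * N.xx L d * H.tp (N.mb L i)) := by
  have h0 : ∀ e : Fin 8, hasBit e i = false → (L.n i : G) * N.xx L e * (L.n i : G)⁻¹ = N.xx L e := by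
    intro e he
    have hc : Commute (L.n i) (pe8 L.ρ e) := pe8_comm L.ρ e _ fun j hj => by
      have hij : i ≠ j := fun e' => by rw [e', hj] at he; exact Bool.noConfusion he
      refine Subtype.ext ?_
      have := N.n_rho L i j
      rwa [if_neg hij] at this
    have hcg : (L.n i : G) * ((pe8 L.ρ e : ↥H.C) : G) = ((pe8 L.ρ e : ↥H.C) : G) * (L.n i : G) := congrArg Subtype.val hc.eq
    rw [Normal3.xx]
    calc (L.n i : G) * (((pe8 L.ρ e : ↥H.C) : G) * H.xc g * ((pe8 L.ρ e : ↥H.C) : G)⁻¹) * (L.n i : G)⁻¹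
        = ((L.n i : G) * ((pe8 L.ρ e : ↥H.C) : G)) * H.xc g * ((L.n i : G) * ((pe8 L.ρ e : ↥H.C) : G))⁻¹ := by group
      _ = ((pe8 L.ρ e : ↥H.C) : G) * ((L.n i : G) * H.xc g * (L.n i : G)⁻¹) * ((pe8 L.ρ e : ↥H.C) : G)⁻¹ := by rw [hcg]; group
      _ = _ := by rw [(N.n_x0 L i).eq, mul_inv_cancel_right]
  refine ⟨h0 d, fun h => ?_⟩
  obtain ⟨hdd, hb⟩ := bit_xor_facts d i
  rw [h] at hb
  have e1 := N.xx_step L hb
  rw [hdd] at e1
  rw [← N.xx_step_one L h, ← e1]
  have hn := N.n_rho L i i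
  rw [if_pos rfl] at hn
  set n := (L.n i : G)
  set r := (L.ρ i : G)
  calc n * (r * N.xx L (d ^^^ bit8 i) * r⁻¹) * n⁻¹
      = (n * r) * N.xx L (d ^^^ bit8 i) * (n * r)⁻¹ := by group
    _ = r * (r * (n * N.xx L (d ^^^ bit8 i) * n⁻¹) * r⁻¹) * r⁻¹ := by rw [hn]; group
    _ = _ := by rw [h0 _ hb]

theorem Normal3.unit_mem (N : Normal3 H g) (L : Lifted H.π) (i : Fin 3) : N.xx L (bit8 i) ∈ H.Dg g :=
  (N.P.mem_UU (a := ⟨_, N.xx_mem L _⟩)).1 (N.ev_mem_UU L (unit_facts i i).2.2.2.1)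

theorem Normal3.orth_mem (N : Normal3 H g) (L : Lifted H.π) {v : H.Vq} (h0 : H.bf N.P.xv v = 0)
    (h : ∀ i, H.bf (N.ev L (bit8 i)) v = 0) : v ∈ H.UU g := by
  obtain ⟨c, rfl⟩ := (N.basis L).2 v
  have hcoef : ∀ a : Fin 8, H.bf (N.ev L a) (∏ d, if c d then N.ev L d else 1) = if c (7 ^^^ a) then 1 else 0 := by
    intro a
    have : ∀ s : Finset (Fin 8), H.bf (N.ev L a) (∏ d ∈ s, if c d then N.ev L d else 1) =
        ∑ d ∈ s, if c d then pairV a d else 0 := by
      intro s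
      induction s using Finset.induction_on with
      | empty => rw [Finset.prod_empty, Finset.sum_empty]; exact H.sp.one_right _
      | insert d s hd ih =>
        rw [Finset.prod_insert hd, Finset.sum_insert hd, ← ih]
        show H.sp.B _ _ = _
        rw [H.sp.mul_right]
        congr 1
        split_ifs
        · exact N.bf_ev L a d
        · exact H.sp.one_right _
    rw [this, Finset.sum_eq_single (7 ^^^ a)]
    · have : ∀ a : Fin 8, pairV a (7 ^^^ a) = 1 := by decide +kernel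
      rw [this]
    · intro d _ hd
      have : ∀ a d : Fin 8, d ≠ 7 ^^^ a → pairV a d = 0 := by decide +kernel
      rw [this a d hd, ite_self]
    · simp
  have h7 : c 7 = false := by
    have e := hcoef 0
    rw [N.ev_zero, h0, show (7 : Fin 8) ^^^ 0 = 7 from rfl] at e
    cases hc : c 7
    · rfl
    · rw [hc] at e; exact absurd e (by decide)
  have hu : ∀ i, c (7 ^^^ bit8 i) = false := fun i => by
    have e := hcoef (bit8 i)
    rw [h i] at e
    cases hc : c (7 ^^^ bit8 i)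
    · rfl
    · rw [hc] at e; exact absurd e (by decide)
  refine Subgroup.prod_mem _ fun d _ => ?_
  split_ifs with hd
  · have key : ∀ d : Fin 8, d = 0 ∨ (d = 1 ∨ d = 2 ∨ d = 4) ∨ d = 7 ∨
        ∃ i : Fin 3, d = 7 ^^^ bit8 i := by decide +kernel
    rcases key d with rfl | h' | rfl | ⟨i, rfl⟩
    · rw [N.ev_zero]; exact N.P.mem_UU.2 N.P.x_mem_Dg
    · exact N.ev_mem_UU L h'
    · rw [h7] at hd; exact Bool.noConfusion hd
    · rw [hu] at hd; exact Bool.noConfusion hd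
  · exact one_mem _

/-- the corrected transposition -/
noncomputable def Normal3.uu (N : Normal3 H g) (L : Lifted H.π) (i : Fin 3) : G :=
  (L.n i : G) * (if N.mb L i = 0 then 1 else N.xx L (7 ^^^ bit8 i))

theorem Normal3.uu_mem (N : Normal3 H g) (L : Lifted H.π) (i : Fin 3) : N.uu L i ∈ H.Qg g := by
  obtain ⟨r, hr, hπ⟩ := N.lift (i == 0) (i == 1) (i == 2)
  rw [← epsW_eps3] at hπ
  have hqQ : (L.n i : G)⁻¹ * r ∈ H.Q := H.π_eq_iff.1 (by rw [L.nπ, hπ])
  set q := (L.n i : G)⁻¹ * (r : G) with hq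
  have hqx : Commute q (H.xc g) := ((N.n_x0 L i).inv_left).mul_left (N.r_x hr)
  have hx0Q : H.xc g ∈ H.Q := N.P.mem
  have hk : ∀ j, H.kap q (N.xx L (bit8 j)) = if i = j then N.mb L i else 0 := by
    intro j
    have hc := N.P.qg_comm hr (N.unit_mem L j).2
    have e : (r : G) * N.xx L (bit8 j) * (r : G)⁻¹ =
        (L.n i : G) * N.xx L (bit8 j) * (L.n i : G)⁻¹ * H.tp (H.kap q (N.xx L (bit8 j))) := by
      calc (r : G) * N.xx L (bit8 j) * (r : G)⁻¹ = (L.n i : G) * (q * N.xx L (bit8 j) * q⁻¹) * (L.n i : G)⁻¹ := by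
            rw [hq]; group
        _ = (L.n i : G) * (N.xx L (bit8 j) * H.tp (H.kap q (N.xx L (bit8 j)))) * (L.n i : G)⁻¹ := by
            rw [H.conj_eq hqQ (N.xx_mem L _)]
        _ = (L.n i : G) * N.xx L (bit8 j) * (L.n i : G)⁻¹ *
            ((L.n i : G) * H.tp (H.kap q (N.xx L (bit8 j))) * (L.n i : G)⁻¹) := by group
        _ = _ := by rw [Normal3.conj_tp]
    rw [e] at hc
    have hxne : ∀ k, H.tp k ≠ g * H.t * g⁻¹ := fun k hk => by
      rcases bit_cases k with rfl | rfl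
      · rw [H.tp_zero] at hk; exact H.t_ne (conj_eq_one_iff.1 hk.symm)
      · rw [H.tp_one] at hk; exact N.P.ne hk.symm
    have hbit := (unit_facts j i).1
    by_cases hij : i = j
    · subst hij
      rw [if_pos rfl]
      rw [decide_eq_true rfl] at hbit
      rw [(N.n_xx L _ i).2 hbit, show bit8 i ^^^ bit8 i = 0 from xor_self_eight _, N.xx_zero, mul_assoc _ (H.tp _),
        ← H.tp_add] at hc
      have hcom : H.xc g * N.xx L (bit8 i) = N.xx L (bit8 i) * H.xc g := by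
        have := H.mul_eq (N.xx_mem L (bit8 i)) hx0Q
        rw [← N.xx_zero L, N.kap_xx, N.xx_zero L] at this
        rw [pairV_bit_zero i, H.tp_zero, mul_one] at this
        exact this
      rw [hcom] at hc
      rcases hc with h | h
      · exfalso
        rw [mul_assoc] at h
        have h' := mul_eq_left.1 h
        exact hxne _ (eq_inv_of_mul_eq_one_right h' |>.trans (inv_eq_of_mul_eq_one_right N.P.sq))
      · have h' : H.tp (N.mb L i + H.kap q (N.xx L (bit8 i))) = H.tp 0 := by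
          rw [H.tp_zero]; exact mul_eq_left.1 h
        exact ((CharTwo.add_eq_zero).1 (H.tp_inj h')).symm
    · rw [if_neg hij]
      rw [decide_eq_false (fun e' : j = i => hij e'.symm)] at hbit
      rw [(N.n_xx L _ i).1 hbit] at hc
      rcases hc with h | h
      · exact H.tp_inj (by rw [H.tp_zero]; exact mul_eq_left.1 h)
      · exact absurd (mul_left_cancel h) (hxne _)
  set e : G := (if N.mb L i = 0 then 1 else N.xx L (7 ^^^ bit8 i)) with he
  have heQ : e ∈ H.Q := by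
    rw [he]; split_ifs
    · exact one_mem _
    · exact N.xx_mem L _
  have hcorr : q⁻¹ * e ∈ H.Dg g := by
    refine (N.P.mem_UU (a := ⟨_, mul_mem (inv_mem hqQ) heQ⟩)).1 (N.orth_mem L ?_ fun j => ?_)
    · rw [InQ.xv, H.bf_mk]
      show H.kap (H.xc g) (q⁻¹ * e) = 0
      rw [H.kap_mul_right hx0Q (inv_mem hqQ) heQ, H.kap_inv_right hx0Q hqQ, H.kap_eq_zero.2 hqx.symm, zero_add, he]
      split_ifs
      · exact H.kap_one _
      · rw [← N.xx_zero L, N.kap_xx]; exact (unit_facts i i).2.2.2.2.2.2.2.1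
    · rw [← N.mkV_xx, H.bf_mk]
      show H.kap (N.xx L (bit8 j)) (q⁻¹ * e) = 0
      rw [H.kap_mul_right (N.xx_mem L _) (inv_mem hqQ) heQ, H.kap_inv_right (N.xx_mem L _) hqQ,
        H.kap_symm _ q, hk, he]
      by_cases hij : i = j
      · subst hij
        rw [if_pos rfl]
        rcases bit_cases (N.mb L i) with hm | hm <;> rw [hm]
        · rw [if_pos rfl, H.kap_one, add_zero]
        · rw [if_neg (by decide), N.kap_xx, (unit_facts i i).2.2.2.2.2.1]; rfl
      · rw [if_neg hij, zero_add]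
        split_ifs
        · exact H.kap_one _
        · rw [N.kap_xx]; exact (unit_facts i j).2.2.2.2.2.2.1 hij
  have : N.uu L i = r * (q⁻¹ * e) := by rw [Normal3.uu, hq, ← he]; group
  rw [this]
  exact mul_mem hr hcorr.2

/-- elements of the two-groups commuting with two rotations are central -/
theorem Normal3.tp_of_rho (N : Normal3 H g) (L : Lifted H.π) {q : G} (hq : q ∈ H.Q)
    (h : ∀ j, Commute q (L.ρ j : G)) : ∃ k, q = H.tp k := by
  rcases N.cent_rho L 0 hq (h 0) with e | e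
  · exact ⟨0, by rw [H.tp_zero, e]⟩
  · exact ⟨1, by rw [H.tp_one, e]⟩

theorem Normal3.n_comm_tp (N : Normal3 H g) (L : Lifted H.π) (i j : Fin 3) :
    ∃ k, (L.n i : G) * L.n j = L.n j * L.n i * H.tp k := by
  set z : ↥H.C := (L.n j * L.n i)⁻¹ * (L.n i * L.n j) with hz
  have hzQ : (z : G) ∈ H.Q := (H.π_ker z).1 (by
    rw [hz, map_mul, map_inv, map_mul, map_mul, L.nπ, L.nπ, inv_mul_eq_one]
    have : ∀ i j : Fin 3, eps3 j * eps3 i = eps3 i * eps3 j := by decide +kernel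
    exact this i j)
  obtain ⟨k, hk⟩ := N.tp_of_rho L hzQ fun l => by
    refine (congrArg Subtype.val (show z * L.ρ l = L.ρ l * z from ?_))
    rw [hz, mul_assoc, inv_mul_eq_iff_eq_mul]
    have hn : ∀ a b, L.n a * L.ρ b = (if a = b then L.ρ b * L.ρ b else L.ρ b) * L.n a := fun a b =>
      mul_inv_eq_iff_eq_mul.1 (L.n_conj a b)
    have hsq : ∀ a b, L.n a * (L.ρ b * L.ρ b) = ((if a = b then L.ρ b * L.ρ b else L.ρ b) *
        (if a = b then L.ρ b * L.ρ b else L.ρ b)) * L.n a := fun a b => by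
      rw [← mul_assoc, hn, mul_assoc, hn, ← mul_assoc]
    have hboth : ∀ a b c, L.n a * (L.n b * L.ρ c) =
        (if a = c then (if b = c then L.ρ c else L.ρ c * L.ρ c) else (if b = c then L.ρ c * L.ρ c else L.ρ c)) *
          (L.n a * L.n b) := fun a b c => by
      have h4 : L.ρ c * L.ρ c * (L.ρ c * L.ρ c) = L.ρ c := by
        rw [← mul_assoc, ← pow_two, ← pow_succ, L.ρ_cube, one_mul]
      rw [hn b c, ← mul_assoc]
      by_cases hb : b = c
      · rw [if_pos hb, hsq]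
        by_cases ha : a = c
        · rw [if_pos ha, if_pos ha, if_pos hb, h4, mul_assoc]
        · rw [if_neg ha, if_neg ha, mul_assoc]
      · rw [if_neg hb, hn]
        by_cases ha : a = c
        · rw [if_pos ha, if_pos ha, if_neg hb, mul_assoc]
        · rw [if_neg ha, if_neg ha, mul_assoc]
    have swap : ∀ a b c, (if a = c then (if b = c then L.ρ c else L.ρ c * L.ρ c) else
        (if b = c then L.ρ c * L.ρ c else L.ρ c)) =
        (if b = c then (if a = c then L.ρ c else L.ρ c * L.ρ c) else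
          (if a = c then L.ρ c * L.ρ c else L.ρ c)) := fun a b c => by
      split_ifs <;> rfl
    rw [mul_assoc, hboth i j l, swap, ← mul_assoc (L.n j * L.n i), mul_assoc (L.n j) (L.n i),
      hboth j i l]
    group
  refine ⟨k, ?_⟩
  rw [← hk, hz]
  push_cast
  group

theorem Normal3.mb_const (N : Normal3 H g) (L : Lifted H.π) (i j : Fin 3) (hij : i ≠ j) :
    N.mb L i = N.mb L j := by
  obtain ⟨k, hk⟩ := N.n_comm_tp L i j
  set k3 := 7 ^^^ bit8 i ^^^ bit8 j with hk3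
  obtain ⟨-, hii, hij', -⟩ := unit_facts i j
  obtain ⟨hbij, hk3i, hsym, hk30⟩ := hij' hij
  obtain ⟨-, hjj, hji', -⟩ := unit_facts j i
  obtain ⟨hbji, -, -, -⟩ := hji' hij.symm
  have cs : ∀ (m : ZMod 2) (d : Fin 8), (if m = 0 then 1 else N.xx L d) ∈ H.Q := fun m d => by
    split_ifs
    · exact one_mem _
    · exact N.xx_mem L _
  set a : ↥H.Q := ⟨_, cs (N.mb L i) (7 ^^^ bit8 i)⟩ with ha
  set b : ↥H.Q := ⟨_, cs (N.mb L j) (7 ^^^ bit8 j)⟩ with hb
  have hav : H.mkV a = if N.mb L i = 0 then 1 else N.ev L (7 ^^^ bit8 i) := by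
    rcases bit_cases (N.mb L i) with h | h
    · rw [if_pos h]
      refine (congrArg H.mkV (Subtype.ext ?_)).trans (map_one H.mkV)
      show (if N.mb L i = 0 then (1 : G) else _) = 1
      rw [if_pos h]
    · rw [if_neg (by rw [h]; decide), ← N.mkV_xx]
      refine congrArg H.mkV (Subtype.ext ?_)
      show (if N.mb L i = 0 then (1 : G) else _) = _
      rw [if_neg (by rw [h]; decide)]
  have hbv : H.mkV b = if N.mb L j = 0 then 1 else N.ev L (7 ^^^ bit8 j) := by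
    rcases bit_cases (N.mb L j) with h | h
    · rw [if_pos h]
      refine (congrArg H.mkV (Subtype.ext ?_)).trans (map_one H.mkV)
      show (if N.mb L j = 0 then (1 : G) else _) = 1
      rw [if_pos h]
    · rw [if_neg (by rw [h]; decide), ← N.mkV_xx]
      refine congrArg H.mkV (Subtype.ext ?_)
      show (if N.mb L j = 0 then (1 : G) else _) = _
      rw [if_neg (by rw [h]; decide)]
  set p : ↥H.C := L.n i * L.n j with hp
  set z : ↥H.Q := H.cjQ (L.n i) a * H.cjQ p (b * a⁻¹) * ⟨H.tp k, H.tp_mem k⟩ * H.cjQ (L.n j) b⁻¹ with hz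
  have hcomp : N.uu L i * N.uu L j * (N.uu L i)⁻¹ * (N.uu L j)⁻¹ = (z : G) := by
    have e1 : N.uu L i = (L.n i : G) * a := rfl
    have e2 : N.uu L j = (L.n j : G) * b := rfl
    have hk' : H.tp k = ((L.n j : G) * L.n i)⁻¹ * ((L.n i : G) * L.n j) := by rw [hk]; group
    have e3 : ((L.n i : G) * L.n j) * ((L.n i : G))⁻¹ * ((L.n j : G))⁻¹ = H.tp k := by
      calc ((L.n i : G) * L.n j) * ((L.n i : G))⁻¹ * ((L.n j : G))⁻¹
          = ((L.n j : G) * L.n i) * H.tp k * (((L.n j : G) * L.n i))⁻¹ := by rw [hk]; group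
        _ = H.tp k := Normal3.conj_tp (L.n j * L.n i) k
    rw [e1, e2, hz, hp]
    push_cast
    show _ = (L.n i : G) * a * (L.n i : G)⁻¹ * (((L.n i : G) * L.n j) * ((b : G) * (a : G)⁻¹) *
      ((L.n i : G) * L.n j)⁻¹) * H.tp k * ((L.n j : G) * (b : G)⁻¹ * (L.n j : G)⁻¹)
    rw [← e3]
    group
  have hv : H.mkV z = if N.mb L i = N.mb L j then 1 else N.ev L k3 := by
    have e1 : H.act (L.n i) (N.ev L (7 ^^^ bit8 i)) = N.ev L (7 ^^^ bit8 i) := N.n_ev_zero L hii
    have e2 : H.act (L.n j) (N.ev L (7 ^^^ bit8 j)) = N.ev L (7 ^^^ bit8 j) := N.n_ev_zero L hjj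
    have e3 : H.act p (N.ev L (7 ^^^ bit8 i)) = N.ev L k3 * N.ev L (7 ^^^ bit8 i) := by
      rw [hp, H.act_mul, N.n_ev_one L hbij, map_mul, e1, ← hk3, N.n_ev_zero L hk3i]
    have e4 : H.act p (N.ev L (7 ^^^ bit8 j)) = N.ev L k3 * N.ev L (7 ^^^ bit8 j) := by
      rw [hp, H.act_mul, e2, N.n_ev_one L hbji, hsym, ← hk3]
    have ht : H.mkV ⟨H.tp k, H.tp_mem k⟩ = 1 := by
      rw [H.mkV_eq_one_iff]
      rcases bit_cases k with e | e <;> subst e
      · exact Or.inl H.tp_zero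
      · exact Or.inr H.tp_one
    rw [hz, map_mul, map_mul, map_mul, ht, mul_one, ← H.act_mk, ← H.act_mk, ← H.act_mk, map_mul H.mkV, map_inv,
      map_inv, hav, hbv, inv_eq_of_mul_eq_one_right (H.sp.sq _), inv_eq_of_mul_eq_one_right (H.sp.sq _)]
    have hsq := H.sp.sq
    have hsq' : ∀ u v : H.Vq, u * (u * v) = v := fun u v => by rw [← mul_assoc, hsq, one_mul]
    rcases bit_cases (N.mb L i) with h | h <;> rcases bit_cases (N.mb L j) with h' | h' <;> rw [h, h'] <;>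
      simp [map_mul, e1, e2, e3, e4, hsq, hsq', mul_comm, mul_left_comm]
  have hmem : (z : G) = 1 ∨ (z : G) = g * H.t * g⁻¹ := by
    rw [← hcomp]
    rcases N.P.qg_comm (N.uu_mem L i) (N.uu_mem L j) with h | h <;> rw [h]
    · left; rw [mul_inv_cancel]
    · right
      have hc : Commute (N.uu L j) (g * H.t * g⁻¹) := by
        have := (Commute.conj_iff g).2 (H.commute_t (mem_Qg.1 (N.uu_mem L j)))
        rwa [show g * (g⁻¹ * N.uu L j * g) * g⁻¹ = N.uu L j by group] at this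
      rw [hc.eq, mul_inv_cancel_right]
  by_contra hne
  rw [if_neg hne] at hv
  have hinj := (N.basis L).1
  rcases hmem with h | h
  · have hz1 : z = 1 := Subtype.ext h
    rw [hz1, map_one] at hv
    have := @hinj (fun d => decide (d = k3)) (fun _ => false) (by simp [← hv])
    exact absurd (congrFun this k3) (by simp)
  · have hzx : z = ⟨g * H.t * g⁻¹, N.P.mem⟩ := Subtype.ext h
    rw [hzx] at hv
    change N.P.xv = _ at hv
    rw [← N.ev_zero L] at hv
    have := @hinj (fun d => decide (d = k3)) (fun d => decide (d = 0)) (by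
      show (∏ d, if decide (d = k3) then N.ev L d else 1) = ∏ d, if decide (d = 0) then N.ev L d else 1
      simp only [decide_eq_true_eq, Finset.prod_ite_eq', Finset.mem_univ, if_true]
      exact hv.symm)
    have h' := congrFun this k3
    simp at h'
    exact hk30 h'

/-- The setting can be chosen with all three bits zero. -/
theorem exists_exact (H : Hyp G) {g : G} (N : Normal3 H g) (L : Lifted H.π) :
    ∃ (g' : G) (N' : Normal3 H g'), ∀ i, N'.mb L i = 0 := by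
  rcases bit_cases (N.mb L 0) with h | h
  · refine ⟨g, N, fun i => ?_⟩
    rcases eq_or_ne i 0 with rfl | hi
    · exact h
    · rw [N.mb_const L i 0 hi, h]
  · set q := N.xx L 7 with hq
    have hqQ : q ∈ H.Q := N.xx_mem L 7
    have hn : ¬ Commute q (g * H.t * g⁻¹) := fun hc => by
      have h7 := H.kap_eq_zero.2 hc
      rw [show g * H.t * g⁻¹ = N.xx L 0 from (N.xx_zero L).symm, hq, N.kap_xx] at h7
      revert h7
      decide
    obtain ⟨P', hx'⟩ := N.P.conj_Q hqQ hn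
    have hπq : H.π ⟨q, H.Q_le hqQ⟩ = 1 := (H.π_ker _).2 hqQ
    have N' : Normal3 H (q * g) := by
      refine ⟨P', fun r hr => ?_, fun i j k => ?_⟩
      · have hr' : ((⟨q, H.Q_le hqQ⟩⁻¹ * r * ⟨q, H.Q_le hqQ⟩ : ↥H.C) : G) ∈ H.Qg g := by
          refine mem_Qg.2 ?_
          have := mem_Qg.1 hr
          push_cast
          rwa [show g⁻¹ * (q⁻¹ * (r : G) * q) * g = (q * g)⁻¹ * r * (q * g) by group]
        obtain ⟨i, j, k, h'⟩ := N.img _ hr'
        exact ⟨i, j, k, by rw [← h', map_mul, map_mul, map_inv, hπq, inv_one, one_mul, mul_one]⟩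
      · obtain ⟨r, hr, h'⟩ := N.lift i j k
        refine ⟨⟨q, H.Q_le hqQ⟩ * r * ⟨q, H.Q_le hqQ⟩⁻¹, mem_Qg.2 ?_, by
          rw [map_mul, map_mul, map_inv, hπq, inv_one, one_mul, mul_one, h']⟩
        have := mem_Qg.1 hr
        push_cast
        rwa [show (q * g)⁻¹ * (q * (r : G) * q⁻¹) * (q * g) = g⁻¹ * r * g by group]
    refine ⟨q * g, N', fun i => ?_⟩
    have hmi : N.mb L i = 1 := by
      rcases eq_or_ne i 0 with rfl | hi
      · exact h
      · rw [N.mb_const L i 0 hi, h]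
    have hxc : H.xc (q * g) = H.xc g * H.t := hx'
    have hline := N.rho_line L i
    rw [hmi, H.tp_one] at hline
    have hxxi : N'.xx L (bit8 i) = N.xx L (bit8 i) * H.t := by
      rw [Normal3.xx, Normal3.xx, hxc]
      have := (H.mem_C.1 (pe8 L.ρ (bit8 i)).2).inv_left.eq
      rw [mul_assoc, mul_assoc (H.xc g), ← this]
      simp only [mul_assoc]
    rw [Normal3.mb, if_pos]
    rw [hxxi, hxc]
    have hrt := (H.mem_C.1 (L.ρ i).2).inv_left.eq
    calc (L.ρ i : G) * (N.xx L (bit8 i) * H.t) * (L.ρ i : G)⁻¹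
        = (L.ρ i : G) * N.xx L (bit8 i) * (L.ρ i : G)⁻¹ * H.t := by
          rw [mul_assoc, mul_assoc (N.xx L (bit8 i)), ← hrt]; simp only [mul_assoc]
      _ = H.xc g * N.xx L (bit8 i) * (H.t * H.t) := by rw [hline]; simp only [mul_assoc]
      _ = H.xc g * (H.t * (N.xx L (bit8 i) * H.t)) := by
          rw [H.t_sq, mul_one, ← mul_assoc H.t, ← (H.commute_t (N.xx_mem L (bit8 i))).eq, mul_assoc _ H.t H.t,
            H.t_sq, mul_one]
      _ = _ := by simp only [mul_assoc]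

theorem Normal3.n_mem (N : Normal3 H g) (L : Lifted H.π) (hm : ∀ i, N.mb L i = 0) (i : Fin 3) :
    (L.n i : G) ∈ H.Qg g := by
  have := N.uu_mem L i
  rwa [Normal3.uu, if_pos (hm i), mul_one] at this

theorem Normal3.n_sq (N : Normal3 H g) (L : Lifted H.π) (hm : ∀ i, N.mb L i = 0) (i : Fin 3) :
    (L.n i : G) * L.n i = 1 := by
  have hQ : ((L.n i * L.n i : ↥H.C) : G) ∈ H.Q := (H.π_ker _).1 (by
    rw [map_mul, L.nπ, eps3_sq])
  obtain ⟨k, hk⟩ := N.tp_of_rho L hQ fun j => by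
    have hn := N.n_rho L i j
    push_cast
    show _ * _ = _ * _
    rw [mul_assoc, hn, ← mul_assoc]
    split_ifs with hij
    · rw [← mul_assoc (L.n i : G) (L.ρ j : G) (L.ρ j : G), hn, if_pos hij,
        mul_assoc ((L.ρ j : G) * (L.ρ j : G)) (L.n i : G) (L.ρ j : G), hn, if_pos hij]
      have h3 : (L.ρ j : G) * L.ρ j * L.ρ j = 1 := by
        have := congrArg Subtype.val (L.ρ_cube j)
        simpa [pow_succ] using this
      simp only [← mul_assoc]
      rw [h3, one_mul]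
    · rw [hn, if_neg hij, mul_assoc]
  have h2 := mem_Qg.1 (N.n_mem L hm i)
  push_cast at hk
  rcases bit_cases k with rfl | rfl
  · rw [hk, H.tp_zero]
  · exfalso
    rw [H.tp_one] at hk
    have h3 : g⁻¹ * (L.n i : G) * g * (g⁻¹ * (L.n i : G) * g) = g⁻¹ * H.t * g := by
      rw [show g⁻¹ * (L.n i : G) * g * (g⁻¹ * (L.n i : G) * g) = g⁻¹ * ((L.n i : G) * L.n i) * g by group, hk]
    rcases H.sq_mem h2 with e | e <;> rw [h3] at e
    · exact H.t_ne (conj_eq_one_iff.1 (show g⁻¹ * H.t * (g⁻¹)⁻¹ = 1 by rwa [inv_inv]))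
    · refine N.P.ne ?_
      calc g * H.t * g⁻¹ = g * (g⁻¹ * H.t * g) * g⁻¹ := by rw [e]
        _ = H.t := by group

theorem Normal3.n_comm (N : Normal3 H g) (L : Lifted H.π) (hm : ∀ i, N.mb L i = 0) (i j : Fin 3) :
    Commute (L.n i : G) (L.n j) := by
  obtain ⟨k, hk⟩ := N.n_comm_tp L i j
  rcases bit_cases k with rfl | rfl
  · rw [H.tp_zero, mul_one] at hk; exact hk
  · exfalso
    rw [H.tp_one] at hk
    rcases N.P.qg_comm (N.n_mem L hm i) (N.n_mem L hm j) with h | h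
    · rw [hk, mul_assoc, ← (H.mem_C.1 (inv_mem (L.n i).2)).eq, ← mul_assoc, mul_inv_cancel_right] at h
      exact H.t_ne (mul_eq_left.1 h)
    · rw [hk, mul_assoc, ← (H.mem_C.1 (inv_mem (L.n i).2)).eq, ← mul_assoc, mul_inv_cancel_right] at h
      exact N.P.ne (mul_left_cancel h).symm

end Cfsg.Agent.Spor.OmegaEightCent
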