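import Cfsg.Agent.Lib.Spor.MclCent.Bound

/-!
Checks of listed subgroups in time linear in the length of the list, with search trees as hints.
-/

set_option autoImplicit false

namespace Cfsg.Agent.Spor.OmegaEightCent

open DCoset

/-- triples by index -/
inductive IT where
  | leaf : IT
  | node (k a b c : ℕ) (l r : IT) : IT

/-- look up -/
def IT.get : IT → ℕ → ℕ × ℕ × ℕ
  | .leaf, _ => (0, 0, 0)
  | .node k a b c l r, q => bif Nat.blt q k then l.get q else bif Nat.blt k q then r.get q else (a, b, c)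

/-- indices by value -/
inductive VT where
  | leaf : VT
  | node (v k : ℕ) (l r : VT) : VT

/-- look up -/
def VT.get : VT → ℕ → ℕ
  | .leaf, _ => 0
  | .node v k l r, q => bif Nat.blt q v then l.get q else bif Nat.blt v q then r.get q else k

/-- check every entry with its index -/
def scan (P : ℕ → ℕ × ℕ × ℕ → Bool) : List (ℕ × ℕ × ℕ) → ℕ → Bool
  | [], _ => true
  | e :: es, k => P k e && scan P es (k + 1)

theorem scan_spec {P : ℕ → ℕ × ℕ × ℕ → Bool} :
    ∀ {l : List (ℕ × ℕ × ℕ)} {n : ℕ}, scan P l n = true → ∀ k < l.length, P (n + k) (l.getD k (0, 0, 0)) = true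
  | [], _, _, k, hk => absurd hk (by simp)
  | e :: es, n, h, k, hk => by
    simp only [scan, Bool.and_eq_true] at h
    match k with
    | 0 => simpa using h.1
    | k + 1 =>
      have := scan_spec h.2 k (by simpa using hk)
      rw [List.getD_cons_succ]
      rwa [show n + (k + 1) = n + 1 + k by omega]

/-- equality of triples -/
def tBeq (x y : ℕ × ℕ × ℕ) : Bool := Nat.beq x.1 y.1 && Nat.beq x.2.1 y.2.1 && Nat.beq x.2.2 y.2.2

theorem tBeq_eq {x y : ℕ × ℕ × ℕ} (h : tBeq x y = true) : x = y := by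
  simp only [tBeq, Bool.and_eq_true, Nat.beq_eq] at h
  exact Prod.ext h.1.1 (Prod.ext h.1.2 h.2)

variable (mu : ℕ → ℕ → ℕ) (c : Cert)

/-- one entry of a listed stabilizer -/
def hStep (i : ℕ) (T : IT) (V : VT) (k : ℕ) (e : ℕ × ℕ × ℕ) : Bool :=
  tBeq (T.get k) e && Nat.beq (V.get e.2.2) k &&
    bif Nat.beq k 0 then Nat.beq e.2.2 c.one
    else Nat.blt e.1 k && Nat.blt e.2.1 c.facts.length &&
      match c.fact e.2.1 with
      | Fact.H i' h => Nat.beq i' i && Nat.beq e.2.2 (mu (T.get e.1).2.2 h)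
      | _ => false

/-- one entry of the listed centralizer -/
def dStep (T : IT) (V : VT) (k : ℕ) (e : ℕ × ℕ × ℕ) : Bool :=
  tBeq (T.get k) e && Nat.beq (V.get e.2.2) k &&
    bif Nat.beq k 0 then Nat.beq e.2.2 c.one
    else Nat.blt e.1 k && Nat.blt e.2.1 c.cg.length &&
      Nat.beq e.2.2 (mu (T.get e.1).2.2 (c.ev mu (c.cg.getD e.2.1 ([], [])).1))

theorem nodup_of_index {l : List (ℕ × ℕ × ℕ)} {V : VT}
    (h : ∀ k < l.length, V.get (l.getD k (0, 0, 0)).2.2 = k) : (Cert.vals l).Nodup := by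
  rw [Cert.vals, List.nodup_iff_injective_getElem]
  rintro ⟨a, ha⟩ ⟨b, hb⟩ e
  simp only [List.length_map] at ha hb
  simp only [List.getElem_map] at e
  have h1 := h a ha
  have h2 := h b hb
  rw [List.getD_eq_getElem _ _ ha] at h1
  rw [List.getD_eq_getElem _ _ hb] at h2
  exact Fin.ext (h1.symm.trans ((congrArg V.get e).trans h2))

theorem hOK_of {i : ℕ} {l : List (ℕ × ℕ × ℕ)} {T : IT} {V : VT} (h : scan (hStep mu c i T V) l 0 = true) :
    c.hOK mu i l = true ∧ (Cert.vals l).Nodup := by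
  have hs := fun k hk => by simpa using scan_spec h k hk
  refine ⟨?_, nodup_of_index (V := V) fun k hk => ?_⟩
  · simp only [Cert.hOK, List.all_eq_true, List.mem_range]
    intro k hk
    have e := hs k hk
    simp only [hStep, Bool.and_eq_true] at e
    obtain ⟨⟨-, -⟩, e⟩ := e
    cases hk0 : Nat.beq k 0
    · rw [hk0] at e
      simp only [cond_false, Bool.and_eq_true, Nat.blt_eq] at e ⊢
      obtain ⟨⟨h1, h2⟩, h3⟩ := e
      have e1 := hs _ (h1.trans hk)
      simp only [hStep, Bool.and_eq_true] at e1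
      refine ⟨⟨h1, h2⟩, ?_⟩
      rw [tBeq_eq e1.1.1] at h3
      exact h3
    · rw [hk0] at e
      simpa using e
  · have e := hs k hk
    simp only [hStep, Bool.and_eq_true, Nat.beq_eq] at e
    exact e.1.2

theorem dOK_of {T : IT} {V : VT} (h : scan (dStep mu c T V) c.dList 0 = true) :
    c.dOK mu = true ∧ (Cert.vals c.dList).Nodup := by
  have hs := fun k hk => by simpa using scan_spec h k hk
  refine ⟨?_, nodup_of_index (V := V) fun k hk => ?_⟩
  · simp only [Cert.dOK, List.all_eq_true, List.mem_range]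
    intro k hk
    have e := hs k hk
    simp only [dStep, Bool.and_eq_true] at e
    obtain ⟨⟨-, -⟩, e⟩ := e
    cases hk0 : Nat.beq k 0
    · rw [hk0] at e
      simp only [cond_false, Bool.and_eq_true, Nat.blt_eq] at e ⊢
      obtain ⟨⟨h1, h2⟩, h3⟩ := e
      have e1 := hs _ (h1.trans hk)
      simp only [dStep, Bool.and_eq_true] at e1
      refine ⟨⟨h1, h2⟩, ?_⟩
      rw [tBeq_eq e1.1.1] at h3
      exact h3
    · rw [hk0] at e
      simpa using e
  · have e := hs k hk
    simp only [dStep, Bool.and_eq_true, Nat.beq_eq] at e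
    exact e.1.2

/-- the sizes without the listed subgroups -/
def sizeRest (N : ℕ) : Bool :=
  Nat.beq c.hLists.length (c.tree.length + 1) &&
    ((List.range c.hLists.length).all fun i =>
      Nat.beq i 0 || Nat.beq ((c.hLists.getD i (0, [])).1 * (c.hLists.getD i (0, [])).2.length) N) &&
    Nat.beq (c.hLists.getD 0 (0, [])).1 1 && Nat.beq (c.pts.length * c.dList.length) N

theorem sizeOK_of {N : ℕ} (h : sizeRest c N = true)
    (hl : ∀ i < c.hLists.length, i ≠ 0 →
      c.hOK mu i (c.hLists.getD i (0, [])).2 = true ∧ (Cert.vals (c.hLists.getD i (0, [])).2).Nodup)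
    (hd : (Cert.vals c.dList).Nodup) : c.sizeOK mu N = true := by
  simp only [sizeRest, Bool.and_eq_true, Bool.or_eq_true, List.all_eq_true, List.mem_range, Nat.beq_eq] at h
  obtain ⟨⟨⟨h1, h2⟩, h3⟩, h4⟩ := h
  simp only [Cert.sizeOK, Bool.and_eq_true, Bool.or_eq_true, List.all_eq_true, List.mem_range, beq_iff_eq,
    Nat.beq_eq]
  refine ⟨⟨⟨⟨h1, fun i hi => ?_⟩, h3⟩, by rw [hd.dedup, Cert.vals, List.length_map]⟩, h4⟩
  rcases eq_or_ne i 0 with hi0 | hi0
  · exact Or.inl hi0
  · obtain ⟨ho, hn⟩ := hl i hi hi0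
    exact Or.inr ⟨⟨ho, by rw [hn.dedup, Cert.vals, List.length_map]⟩, (h2 i hi).resolve_left hi0⟩

end Cfsg.Agent.Spor.OmegaEightCent
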