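import Cfsg.Agent.Lib.Spor.OmegaEightCent.Exact

/-!
The relations of the centralizer, and the bound they give on the order of the group generated.
-/

set_option autoImplicit false
set_option linter.style.haveILetI false
set_option linter.unusedSectionVars false
set_option maxRecDepth 10000

namespace Cfsg.Agent.Spor.OmegaEightCent

universe u v

/-- Elements satisfying the relations of the centralizer. -/
structure Frame (Γ : Type u) [Group Γ] where
  t : Γ
  x : Fin 8 → Γ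
  ρ : Fin 3 → Γ
  n : Fin 3 → Γ
  t_sq : t * t = 1
  x_sq : ∀ d, x d * x d = 1
  t_x : ∀ d, Commute t (x d)
  t_ρ : ∀ i, Commute t (ρ i)
  t_n : ∀ i, Commute t (n i)
  x_conj : ∀ a b, x a * x b * (x a)⁻¹ = if pairV a b = 0 then x b else x b * t
  ρ_cube : ∀ i, ρ i ^ 3 = 1
  ρ_comm : ∀ i j, Commute (ρ i) (ρ j)
  ρ_x : ∀ i d, ρ i * x d * (ρ i)⁻¹ = if hasBit d i then x (d ^^^ bit8 i) * x d else x (d ^^^ bit8 i)
  n_sq : ∀ i, n i * n i = 1
  n_comm : ∀ i j, Commute (n i) (n j)
  n_ρ : ∀ i j, n i * ρ j * (n i)⁻¹ = if i = j then ρ j * ρ j else ρ j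
  n_x : ∀ i d, n i * x d * (n i)⁻¹ = if hasBit d i then x (d ^^^ bit8 i) * x d else x d

variable {Γ : Type u} [Group Γ]

/-- Adding a normalizing element whose power lies in the subgroup. -/
theorem card_sup_le [Finite Γ] (K : Subgroup Γ) (z : Γ) (p : ℕ) (hp : 0 < p) (hz : ∀ k ∈ K, z * k * z⁻¹ ∈ K)
    (hpow : z ^ p ∈ K) : Nat.card ↥(K ⊔ Subgroup.zpowers z) ≤ Nat.card K * p := by
  have hzinv : ∀ k ∈ K, z⁻¹ * k * z ∈ K := by
    intro k hk
    let f : K → K := fun a => ⟨z * a * z⁻¹, hz a a.2⟩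
    have hf : Function.Injective f := fun a b h =>
      Subtype.ext (mul_left_cancel (mul_right_cancel (congrArg Subtype.val h)))
    obtain ⟨a, ha⟩ := (Finite.injective_iff_surjective.1 hf) ⟨k, hk⟩
    have : z * a * z⁻¹ = k := congrArg Subtype.val ha
    rw [← this]
    have e : z⁻¹ * (z * (a : Γ) * z⁻¹) * z = a := by group
    rw [e]
    exact a.2
  have hnorm : Subgroup.zpowers z ≤ Subgroup.normalizer (K : Set Γ) :=
    Subgroup.zpowers_le.2 (Subgroup.mem_normalizer_iff.2 fun k => ⟨hz k, fun h => by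
      have := hzinv _ h
      rwa [show z⁻¹ * (z * k * z⁻¹) * z = k by group] at this⟩)
  let f : K × Fin p → ↥(K ⊔ Subgroup.zpowers z) := fun q =>
    ⟨q.1 * z ^ (q.2 : ℕ), mul_mem (Subgroup.mem_sup_left q.1.2)
      (Subgroup.mem_sup_right (pow_mem (Subgroup.mem_zpowers z) _))⟩
  have hf : Function.Surjective f := by
    rintro ⟨w, hw⟩
    have hw' : w ∈ ((K ⊔ Subgroup.zpowers z : Subgroup Γ) : Set Γ) := hw
    rw [Subgroup.coe_mul_of_right_le_normalizer_left K (Subgroup.zpowers z) hnorm] at hw'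
    obtain ⟨k, hk, e, he, rfl⟩ := hw'
    obtain ⟨m, rfl⟩ := mem_powers_iff_mem_zpowers.2 he
    refine ⟨⟨⟨k * (z ^ p) ^ (m / p), mul_mem hk (pow_mem hpow _)⟩, ⟨m % p, Nat.mod_lt _ hp⟩⟩, Subtype.ext ?_⟩
    show k * (z ^ p) ^ (m / p) * z ^ (m % p) = k * z ^ m
    rw [mul_assoc, ← pow_mul, ← pow_add, Nat.div_add_mod]
  refine (Nat.card_le_card_of_surjective f hf).trans ?_
  rw [Nat.card_prod, Nat.card_eq_fintype_card (α := Fin p), Fintype.card_fin]

/-- the chain of generators -/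
def Frame.gen (F : Frame Γ) (k : ℕ) : Γ :=
  if k = 0 then F.t
  else if h : k - 1 < 8 then F.x ⟨k - 1, h⟩
  else if h : k - 9 < 3 then F.ρ ⟨k - 9, h⟩
  else if h : k - 12 < 3 then F.n ⟨k - 12, h⟩
  else 1

/-- the subgroups of the chain -/
def Frame.sub (F : Frame Γ) (k : ℕ) : Subgroup Γ := Subgroup.closure (F.gen '' Set.Iio k)

theorem Frame.gen_mem (F : Frame Γ) {j k : ℕ} (h : j < k) : F.gen j ∈ F.sub k :=
  Subgroup.subset_closure ⟨j, h, rfl⟩

theorem Frame.t_mem (F : Frame Γ) {k : ℕ} (h : 0 < k) : F.t ∈ F.sub k := F.gen_mem h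

theorem Frame.x_mem (F : Frame Γ) {k : ℕ} (d : Fin 8) (h : d.val + 1 < k) : F.x d ∈ F.sub k := by
  have e : F.gen (d.val + 1) = F.x d := by simp [Frame.gen]
  exact e ▸ F.gen_mem h

theorem Frame.gen_rho (F : Frame Γ) (i : Fin 3) : F.gen (i.val + 9) = F.ρ i := by
  fin_cases i <;> simp [Frame.gen]

theorem Frame.gen_n (F : Frame Γ) (i : Fin 3) : F.gen (i.val + 12) = F.n i := by
  fin_cases i <;> simp [Frame.gen]

theorem Frame.ρ_mem (F : Frame Γ) {k : ℕ} (i : Fin 3) (h : i.val + 9 < k) : F.ρ i ∈ F.sub k :=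
  F.gen_rho i ▸ F.gen_mem h

theorem Frame.n_mem (F : Frame Γ) {k : ℕ} (i : Fin 3) (h : i.val + 12 < k) : F.n i ∈ F.sub k :=
  F.gen_n i ▸ F.gen_mem h

theorem Frame.normalizes (F : Frame Γ) {k : ℕ} (z : Γ) (h : ∀ j < k, z * F.gen j * z⁻¹ ∈ F.sub k) :
    ∀ w ∈ F.sub k, z * w * z⁻¹ ∈ F.sub k := by
  intro w hw
  induction hw using Subgroup.closure_induction with
  | mem w hw =>
    obtain ⟨j, hj, rfl⟩ := hw
    exact h j hj
  | one => rw [mul_one, mul_inv_cancel]; exact one_mem _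
  | mul a b _ _ ha hb =>
    rw [show z * (a * b) * z⁻¹ = z * a * z⁻¹ * (z * b * z⁻¹) by group]
    exact mul_mem ha hb
  | inv a _ ha =>
    rw [show z * a⁻¹ * z⁻¹ = (z * a * z⁻¹)⁻¹ by group]
    exact inv_mem ha

theorem Frame.sub_succ (F : Frame Γ) (k : ℕ) : F.sub (k + 1) = F.sub k ⊔ Subgroup.zpowers (F.gen k) := by
  rw [Frame.sub, Frame.sub, Subgroup.zpowers_eq_closure, ← Subgroup.closure_union]
  congr 1
  ext w
  constructor
  · rintro ⟨j, hj, rfl⟩
    rcases Nat.lt_succ_iff_lt_or_eq.1 hj with h | rfl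
    · exact Or.inl ⟨j, h, rfl⟩
    · exact Or.inr rfl
  · rintro (⟨j, hj, rfl⟩ | h)
    · exact ⟨j, Nat.lt_succ_of_lt hj, rfl⟩
    · exact ⟨k, Nat.lt_succ_self k, (Set.mem_singleton_iff.1 h).symm⟩

theorem Frame.conj_gen (F : Frame Γ) {j : ℕ} {z : Γ} (K : Subgroup Γ) (ht : z * F.t * z⁻¹ ∈ K)
    (hx : ∀ d : Fin 8, d.val + 1 = j → z * F.x d * z⁻¹ ∈ K) (hr : ∀ i : Fin 3, i.val + 9 = j → z * F.ρ i * z⁻¹ ∈ K)
    (hn : ∀ i : Fin 3, i.val + 12 = j → z * F.n i * z⁻¹ ∈ K) : z * F.gen j * z⁻¹ ∈ K := by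
  rw [Frame.gen]
  split_ifs with h0 h1 h2 h3
  · exact ht
  · exact hx _ (by show j - 1 + 1 = j; omega)
  · exact hr _ (by show j - 9 + 9 = j; omega)
  · exact hn _ (by show j - 12 + 12 = j; omega)
  · rw [mul_one, mul_inv_cancel]; exact one_mem _

theorem commute_conj {z w : Γ} (h : Commute w z) : z * w * z⁻¹ = w := by
  rw [← h.eq, mul_inv_cancel_right]

theorem Frame.xpart (F : Frame Γ) {k : ℕ} (hk : 9 ≤ k) (d : Fin 8) : F.x d ∈ F.sub k :=
  F.x_mem d (by omega)

theorem Frame.card_le [Finite Γ] (F : Frame Γ) : Nat.card ↥(F.sub 15) ≤ 110592 := by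
  have e1 : Nat.card ↥(F.sub 1) ≤ 2 := by
    have h0 : F.sub 0 = ⊥ := by
      rw [Frame.sub, show F.gen '' Set.Iio 0 = ∅ by simp]
      exact Subgroup.closure_empty
    have h := card_sup_le (F.sub 0) F.t 2 two_pos (fun w hw => by
      rw [h0, Subgroup.mem_bot] at hw ⊢
      rw [hw, mul_one, mul_inv_cancel]) (by rw [pow_two, F.t_sq]; exact one_mem _)
    rw [F.sub_succ]
    rw [h0, Subgroup.card_bot, one_mul] at h
    rw [h0]
    exact h
  have ex : ∀ d : ℕ, d ≤ 8 → Nat.card ↥(F.sub (d + 1)) ≤ 2 ^ (d + 1) := by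
    intro d
    induction d with
    | zero => exact fun _ => e1
    | succ d ih =>
      intro hd
      have eg : F.gen (d + 1) = F.x ⟨d, by omega⟩ := by
        simp [Frame.gen, show d < 8 by omega]
      rw [F.sub_succ, eg]
      refine (card_sup_le _ _ 2 two_pos (F.normalizes _ fun j hj => ?_) ?_).trans ?_
      · refine F.conj_gen _ ?_ (fun e he => ?_) (fun i hi => by omega) (fun i hi => by omega)
        · rw [commute_conj (F.t_x _)]; exact F.t_mem (Nat.succ_pos d)
        · rw [F.x_conj]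
          split_ifs
          · exact F.x_mem e (by omega)
          · exact mul_mem (F.x_mem e (by omega)) (F.t_mem (Nat.succ_pos d))
      · rw [pow_two, F.x_sq]; exact one_mem _
      · rw [pow_succ _ (d + 1)]
        exact Nat.mul_le_mul_right 2 (ih (by omega))
  have er : ∀ i : ℕ, i ≤ 3 → Nat.card ↥(F.sub (i + 9)) ≤ 512 * 3 ^ i := by
    intro i
    induction i with
    | zero => intro _; simpa using ex 8 le_rfl
    | succ i ih =>
      intro hi
      have eg : F.gen (i + 9) = F.ρ ⟨i, by omega⟩ := F.gen_rho ⟨i, by omega⟩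
      rw [show i + 1 + 9 = (i + 9) + 1 by omega, F.sub_succ, eg]
      refine (card_sup_le _ _ 3 (by norm_num) (F.normalizes _ fun j hj => ?_) ?_).trans ?_
      · refine F.conj_gen _ ?_ (fun e _ => ?_) (fun l hl => ?_) (fun l hl => by omega)
        · rw [commute_conj (F.t_ρ _)]; exact F.t_mem (by omega)
        · rw [F.ρ_x]
          split_ifs
          · exact mul_mem (F.xpart (by omega) _) (F.xpart (by omega) _)
          · exact F.xpart (by omega) _
        · rw [commute_conj (F.ρ_comm _ _)]; exact F.ρ_mem l (by omega)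
      · rw [F.ρ_cube]; exact one_mem _
      · rw [pow_succ, ← mul_assoc]
        exact Nat.mul_le_mul_right 3 (ih (by omega))
  have en : ∀ i : ℕ, i ≤ 3 → Nat.card ↥(F.sub (i + 12)) ≤ 13824 * 2 ^ i := by
    intro i
    induction i with
    | zero => intro _; simpa using er 3 le_rfl
    | succ i ih =>
      intro hi
      have eg : F.gen (i + 12) = F.n ⟨i, by omega⟩ := F.gen_n ⟨i, by omega⟩
      rw [show i + 1 + 12 = (i + 12) + 1 by omega, F.sub_succ, eg]
      refine (card_sup_le _ _ 2 two_pos (F.normalizes _ fun j hj => ?_) ?_).trans ?_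
      · refine F.conj_gen _ ?_ (fun e _ => ?_) (fun l _ => ?_) (fun l hl => ?_)
        · rw [commute_conj (F.t_n _)]; exact F.t_mem (by omega)
        · rw [F.n_x]
          split_ifs
          · exact mul_mem (F.xpart (by omega) _) (F.xpart (by omega) _)
          · exact F.xpart (by omega) _
        · rw [F.n_ρ]
          split_ifs
          · exact mul_mem (F.ρ_mem l (by omega)) (F.ρ_mem l (by omega))
          · exact F.ρ_mem l (by omega)
        · rw [commute_conj (F.n_comm _ _)]; exact F.n_mem l (by omega)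
      · rw [pow_two, F.n_sq]; exact one_mem _
      · rw [pow_succ, ← mul_assoc]
        exact Nat.mul_le_mul_right 2 (ih (by omega))
  simpa using en 3 le_rfl

/-- the product of two frames -/
def Frame.prod {Δ : Type v} [Group Δ] (F : Frame Γ) (F' : Frame Δ) : Frame (Γ × Δ) where
  t := (F.t, F'.t)
  x d := (F.x d, F'.x d)
  ρ i := (F.ρ i, F'.ρ i)
  n i := (F.n i, F'.n i)
  t_sq := Prod.ext F.t_sq F'.t_sq
  x_sq d := Prod.ext (F.x_sq d) (F'.x_sq d)
  t_x d := Prod.ext (F.t_x d).eq (F'.t_x d).eq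
  t_ρ i := Prod.ext (F.t_ρ i).eq (F'.t_ρ i).eq
  t_n i := Prod.ext (F.t_n i).eq (F'.t_n i).eq
  x_conj a b := by
    refine Prod.ext ((F.x_conj a b).trans ?_) ((F'.x_conj a b).trans ?_) <;> split_ifs <;> rfl
  ρ_cube i := Prod.ext (F.ρ_cube i) (F'.ρ_cube i)
  ρ_comm i j := Prod.ext (F.ρ_comm i j).eq (F'.ρ_comm i j).eq
  ρ_x i d := by
    refine Prod.ext ((F.ρ_x i d).trans ?_) ((F'.ρ_x i d).trans ?_) <;> split_ifs <;> rfl
  n_sq i := Prod.ext (F.n_sq i) (F'.n_sq i)
  n_comm i j := Prod.ext (F.n_comm i j).eq (F'.n_comm i j).eq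
  n_ρ i j := by
    refine Prod.ext ((F.n_ρ i j).trans ?_) ((F'.n_ρ i j).trans ?_) <;> split_ifs <;> rfl
  n_x i d := by
    refine Prod.ext ((F.n_x i d).trans ?_) ((F'.n_x i d).trans ?_) <;> split_ifs <;> rfl

variable {G : Type u} [Group G] [Finite G] {H : Hyp G} {g : G}

/-- the frame in the group -/
def Normal3.frame (N : Normal3 H g) (L : Lifted H.π) (hm : ∀ i, N.mb L i = 0) : Frame G where
  t := H.t
  x := N.xx L
  ρ i := L.ρ i
  n i := L.n i
  t_sq := H.t_sq
  x_sq := N.xx_sq L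
  t_x d := (H.commute_t (N.xx_mem L d)).symm
  t_ρ i := (H.mem_C.1 (L.ρ i).2).symm
  t_n i := (H.mem_C.1 (L.n i).2).symm
  x_conj a b := by
    rw [H.conj_eq (N.xx_mem L a) (N.xx_mem L b), N.kap_xx]
    split_ifs with h
    · rw [h, H.tp_zero, mul_one]
    · rw [(bit_cases _).resolve_left h, H.tp_one]
  ρ_cube i := by
    have := congrArg Subtype.val (L.ρ_cube i)
    rwa [SubmonoidClass.coe_pow, OneMemClass.coe_one] at this
  ρ_comm i j := congrArg Subtype.val (L.ρ_comm i j).eq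
  ρ_x i d := by
    cases h : hasBit d i
    · exact N.xx_step L h
    · rw [N.xx_step_one L h, hm, H.tp_zero, mul_one, if_pos rfl]
  n_sq i := N.n_sq L hm i
  n_comm := N.n_comm L hm
  n_ρ i j := by
    rw [N.n_rho L i j, mul_inv_cancel_right]
  n_x i d := by
    cases h : hasBit d i
    · exact (N.n_xx L d i).1 h
    · rw [(N.n_xx L d i).2 h, hm, H.tp_zero, mul_one, if_pos rfl]

theorem Normal3.sub_eq_C (N : Normal3 H g) (L : Lifted H.π) (hm : ∀ i, N.mb L i = 0) :
    (N.frame L hm).sub 15 = H.C := by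
  set F := N.frame L hm with hF
  refine le_antisymm ?_ fun c hc => ?_
  · rw [Frame.sub, Subgroup.closure_le]
    rintro _ ⟨j, -, rfl⟩
    rw [Frame.gen]
    split_ifs
    · exact H.t_mem_C
    · exact H.Q_le (N.xx_mem L _)
    · exact (L.ρ _).2
    · exact (L.n _).2
    · exact one_mem _
  · have hQ : ∀ q ∈ H.Q, q ∈ F.sub 15 := by
      intro q hq
      obtain ⟨c, hc'⟩ := (N.basis L).2 (H.mkV ⟨q, hq⟩)
      have key : ∀ s : Finset (Fin 8), ∃ y : ↥H.Q, (y : G) ∈ F.sub 15 ∧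
          H.mkV y = ∏ d ∈ s, if c d then N.ev L d else 1 := by
        intro s
        induction s using Finset.induction_on with
        | empty => exact ⟨1, one_mem _, by rw [map_one, Finset.prod_empty]⟩
        | insert d s hd ih =>
          obtain ⟨y, hy, hye⟩ := ih
          rw [Finset.prod_insert hd]
          cases hcd : c d
          · exact ⟨y, hy, by simp [hye]⟩
          · refine ⟨⟨_, N.xx_mem L d⟩ * y, mul_mem (F.x_mem d (by omega)) hy, ?_⟩
            rw [map_mul, N.mkV_xx, hye, if_pos rfl]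
      obtain ⟨y, hy, hye⟩ := key Finset.univ
      obtain ⟨k, hk⟩ := H.mkV_eq_iff.1 (hye.trans hc')
      have hk' : q = (y : G) * H.tp k := hk
      rw [hk']
      refine mul_mem hy ?_
      rcases bit_cases k with e | e <;> rw [e]
      · rw [H.tp_zero]; exact one_mem _
      · rw [H.tp_one]; exact F.t_mem (by omega)
    -- the image of the subgroup is everything
    have himg : ∀ s : S3c, ∃ z : ↥H.C, (z : G) ∈ F.sub 15 ∧ H.π z = s := by
      let S : Subgroup S3c := ((F.sub 15).subgroupOf H.C).map H.π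
      have hmem : ∀ z : ↥H.C, (z : G) ∈ F.sub 15 → H.π z ∈ S := fun z hz => ⟨z, Subgroup.mem_subgroupOf.2 hz, rfl⟩
      have hr : ∀ i, rot3 i ∈ S := fun i => L.ρπ i ▸ hmem _ (F.ρ_mem i (by omega))
      have he : ∀ i, eps3 i ∈ S := fun i => L.nπ i ▸ hmem _ (F.n_mem i (by omega))
      intro s
      have h3 : ∀ p : Equiv.Perm (Fin 3), ∃ (a : Fin 3) (b : Bool),
          p = finRotate 3 ^ (a : ℕ) * (bif b then sw3 else 1) := by decide +kernel
      obtain ⟨a1, b1, h1⟩ := h3 s.1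
      obtain ⟨a2, b2, h2⟩ := h3 s.2.1
      obtain ⟨a3, b3, h3⟩ := h3 s.2.2
      have hs : s = rot3 0 ^ (a1 : ℕ) * rot3 1 ^ (a2 : ℕ) * rot3 2 ^ (a3 : ℕ) * epsW b1 b2 b3 := by
        rw [rot_gen_aux]; exact Prod.ext h1 (Prod.ext h2 h3)
      have hw : ∀ i j k, epsW i j k =
          (bif i then eps3 0 else 1) * (bif j then eps3 1 else 1) * (bif k then eps3 2 else 1) := by decide +kernel
      have hsS : s ∈ S := by
        rw [hs, hw]
        refine mul_mem (mul_mem (mul_mem (pow_mem (hr 0) _) (pow_mem (hr 1) _)) (pow_mem (hr 2) _))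
          (mul_mem (mul_mem ?_ ?_) ?_)
        · cases b1; exacts [one_mem _, he 0]
        · cases b2; exacts [one_mem _, he 1]
        · cases b3; exacts [one_mem _, he 2]
      obtain ⟨z, hz, rfl⟩ := hsS
      exact ⟨z, Subgroup.mem_subgroupOf.1 hz, rfl⟩
    obtain ⟨z, hz, hzπ⟩ := himg (H.π ⟨c, hc⟩)
    have h2 : (z : G)⁻¹ * c ∈ H.Q := H.π_eq_iff.1 hzπ
    have := mul_mem hz (hQ _ h2)
    rwa [mul_inv_cancel_left] at this

theorem Hyp.card_C (H : Hyp G) : Nat.card H.C = 110592 := by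
  have h := H.π.ker.card_mul_index
  have hker : H.π.ker = H.Q.subgroupOf H.C := by
    ext c
    rw [MonoidHom.mem_ker, H.π_ker, Subgroup.mem_subgroupOf]
  rw [Subgroup.index_ker, MonoidHom.range_eq_top.2 H.π_surj, Subgroup.card_top, hker,
    Nat.card_congr (Subgroup.subgroupOfEquivOfLe H.Q_le).toEquiv, H.Q_card,
    show Nat.card S3c = 216 by simp [Nat.card_eq_fintype_card, Fintype.card_prod, Fintype.card_perm,
      Nat.factorial]] at h
  exact h.symm

/-- The centralizer maps onto every frame. -/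
theorem exists_hom (N : Normal3 H g) (L : Lifted H.π) (hm : ∀ i, N.mb L i = 0) {A : Type v} [Group A] [Finite A]
    (F : Frame A) (hgen : F.sub 15 = ⊤) (ht : F.t ≠ 1) :
    ∃ φ : A →* G, Function.Injective φ ∧ φ.range = H.C ∧ φ F.t = H.t ∧ (∀ d, φ (F.x d) = N.xx L d) ∧
      (∀ i, φ (F.ρ i) = L.ρ i) ∧ ∀ i, φ (F.n i) = L.n i := by
  set FG := N.frame L hm with hFG
  set P := FG.prod F with hP
  have hgenP : ∀ k, P.gen k = (FG.gen k, F.gen k) := fun k => by
    rw [Frame.gen, Frame.gen, Frame.gen]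
    split_ifs <;> rfl
  let p1 : ↥(P.sub 15) →* G := (MonoidHom.fst G A).comp (P.sub 15).subtype
  let p2 : ↥(P.sub 15) →* A := (MonoidHom.snd G A).comp (P.sub 15).subtype
  have hr1 : p1.range = H.C := by
    rw [← N.sub_eq_C L hm, MonoidHom.range_comp, Subgroup.range_subtype, Frame.sub, MonoidHom.map_closure,
      ← hFG, Frame.sub, Set.image_image]
    simp only [hgenP, MonoidHom.coe_fst]
  have hr2 : p2.range = ⊤ := by
    rw [← hgen, MonoidHom.range_comp, Subgroup.range_subtype, Frame.sub, MonoidHom.map_closure, Frame.sub,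
      Set.image_image]
    simp only [hgenP, MonoidHom.coe_snd]
  have hle := P.card_le
  have hinj1 : Function.Injective p1 := by
    rw [← MonoidHom.ker_eq_bot_iff, ← Subgroup.card_eq_one]
    have h := p1.ker.card_mul_index
    rw [Subgroup.index_ker, hr1, H.card_C] at h
    have hpos : 0 < Nat.card p1.ker := Nat.card_pos
    by_contra hne
    have h2 := Nat.mul_le_mul_right 110592 (show 2 ≤ Nat.card p1.ker by omega)
    omega
  have hinj2 : Function.Injective p2 := by
    rw [← MonoidHom.ker_eq_bot_iff, Subgroup.eq_bot_iff_forall]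
    intro l hl
    by_contra hl1
    set N2 := p2.ker.map p1 with hN2
    have hl' : p1 l ∈ N2 := ⟨l, hl, rfl⟩
    have hne : p1 l ≠ 1 := fun h => hl1 (hinj1 (h.trans (map_one p1).symm))
    have hnorm : ∀ c ∈ H.C, ∀ w ∈ N2, c * w * c⁻¹ ∈ N2 := by
      intro c hc w hw
      rw [← hr1] at hc
      obtain ⟨c', rfl⟩ := hc
      obtain ⟨w', hw', rfl⟩ := hw
      exact ⟨c' * w' * c'⁻¹, (MonoidHom.normal_ker p2).conj_mem _ hw' _, by rw [map_mul, map_mul, map_inv]⟩
    have htN : H.t ∈ N2 := by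
      have hlC : p1 l ∈ H.C := hr1 ▸ ⟨l, rfl⟩
      by_cases hcent : ∀ q ∈ H.Q, p1 l * q = q * p1 l
      · rcases H.self_cent _ hcent with e | e
        · exact absurd e hne
        · exact e ▸ hl'
      · simp only [not_forall] at hcent
        obtain ⟨q, hq, hql⟩ := hcent
        set w := p1 l * q * (p1 l)⁻¹ * q⁻¹ with hw
        have hwN : w ∈ N2 := by
          rw [hw, show p1 l * q * (p1 l)⁻¹ * q⁻¹ = p1 l * (q * (p1 l)⁻¹ * q⁻¹) by group]
          exact mul_mem hl' (hnorm q (H.Q_le hq) _ (inv_mem hl'))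
        have hwQ : w ∈ H.Q := mul_mem (H.conj_mem hlC hq) (inv_mem hq)
        have hw1 : w ≠ 1 := fun h => hql (mul_inv_eq_iff_eq_mul.1 (mul_inv_eq_one.1 h))
        by_cases hwt : w = H.t
        · exact hwt ▸ hwN
        · obtain ⟨r, hr, hrw⟩ := H.exists_noncommute hwQ hw1 hwt
          have hconj : r * w * r⁻¹ = w * H.t := by
            rw [hrw, mul_assoc, ← (H.commute_t (inv_mem hr)).eq, ← mul_assoc, mul_inv_cancel_right]
          have := mul_mem (inv_mem hwN) (hnorm r (H.Q_le hr) w hwN)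
          rwa [hconj, inv_mul_cancel_left] at this
    obtain ⟨l0, hl0, hl0t⟩ := htN
    have hTmem : P.t ∈ P.sub 15 := P.t_mem (by omega)
    have hTeq : l0 = ⟨P.t, hTmem⟩ := hinj1 hl0t
    rw [hTeq] at hl0
    exact ht hl0
  let e2 : ↥(P.sub 15) ≃* A := MulEquiv.ofBijective p2 ⟨hinj2, MonoidHom.range_eq_top.1 hr2⟩
  have hval : ∀ (w : G × A) (hw : w ∈ P.sub 15), p1 (e2.symm w.2) = w.1 := fun w hw => by
    have : e2.symm w.2 = ⟨w, hw⟩ := by rw [MulEquiv.symm_apply_eq]; rfl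
    rw [this]; rfl
  refine ⟨p1.comp e2.symm.toMonoidHom, hinj1.comp e2.symm.injective, ?_, hval P.t (P.t_mem (by omega)),
    fun d => hval (P.x d) (P.x_mem d (by omega)), fun i => hval (P.ρ i) (P.ρ_mem i (by omega)),
    fun i => hval (P.n i) (P.n_mem i (by omega))⟩
  rw [MonoidHom.range_comp, MonoidHom.range_eq_top.2 e2.symm.surjective, ← MonoidHom.range_eq_map, hr1]

end Cfsg.Agent.Spor.OmegaEightCent
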