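import Cfsg.Agent.Lib.Spor.OmegaEightCent.ModelGroup
import Cfsg.Agent.Lib.Spor.OmegaEightCent.ClassChecks

/-!
The classes of involutions of the model, from the checks.
-/

set_option autoImplicit false
set_option linter.style.haveILetI false
set_option linter.unusedSectionVars false
set_option maxRecDepth 100000
set_option maxHeartbeats 1000000

namespace Cfsg.Agent.Spor.OmegaEightCent

open DCoset

attribute [local irreducible] oCert mu qelL qelI qelV sylL sylI sylV orbL orbI orbV ocI invL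

/-- code of an element of the model -/
noncomputable def kc (k : ↥KM) : ℕ := code ((k : GLo) : Matrix Co Co (ZMod 2))

theorem kc_mul (a b : ↥KM) : kc (a * b) = mu (kc a) (kc b) := by
  show code (((a * b : ↥KM) : GLo) : Matrix Co Co (ZMod 2)) = _
  rw [Subgroup.coe_mul, Units.val_mul, code_mul]
  rfl

theorem kc_inj {a b : ↥KM} (h : kc a = kc b) : a = b := Subtype.ext (code_inj h)

theorem kc_one : kc 1 = oCert.one := code_one

theorem kc_incl (a : ↥AM) : kc (Subgroup.inclusion AM_le a) = RA.cd a := rfl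

theorem kc_wel (w : List ℕ) : kc (Subgroup.inclusion AM_le (RA.wel w)) = oCert.ev mu w := RA.cd_wel w

theorem kc_inv {a : ↥KM} {v : ℕ} (hv : v < 2 ^ 64) (h : mu (kc a) v = oCert.one) : kc a⁻¹ = v := by
  have hm : ((a : GLo) : Matrix Co Co (ZMod 2)) * mat v = 1 := by
    rw [← mat_code ((a : GLo) : Matrix Co Co (ZMod 2)), ← mat_mu, show mu (code _) v = oCert.one from h, mat_one]
  have : (((a⁻¹ : ↥KM) : GLo) : Matrix Co Co (ZMod 2)) = mat v := by
    rw [Subgroup.coe_inv]
    exact Units.inv_eq_of_mul_eq_one_right hm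
  show code (((a⁻¹ : ↥KM) : GLo) : Matrix Co Co (ZMod 2)) = v
  rw [this, code_mat hv]

theorem allGi_lt : (allGi.all fun v => Nat.blt v (2 ^ 64)) = true := by decide +kernel

theorem scan0 {P : ℕ → ℕ × ℕ × ℕ → Bool} {l : List (ℕ × ℕ × ℕ)} (h : scan P l 0 = true) (k : ℕ)
    (hk : k < l.length) : P k (l.getD k (0, 0, 0)) = true := by
  have := scan_spec h k hk
  rwa [Nat.zero_add] at this

theorem gen8 (g : ℕ) (hg : g < 8) :
    ∃ c : ↥KM, kc c = allG.getD g 0 ∧ kc c⁻¹ = allGi.getD g 0 := by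
  obtain ⟨c, hc⟩ := gen_all g hg
  have hinv := allG_inv
  simp only [List.all_eq_true, List.mem_range, Nat.beq_eq] at hinv
  have hlt := allGi_lt
  simp only [List.all_eq_true, Nat.blt_eq] at hlt
  have hlen : g < allGi.length := by
    have : allGi.length = 8 := rfl
    omega
  refine ⟨c, hc, kc_inv (hlt _ ?_) ?_⟩
  · rw [List.getD_eq_getElem _ _ hlen]; exact List.getElem_mem hlen
  · rw [show kc c = allG.getD g 0 from hc]; exact hinv g hg

/-- induction over the eight generators -/
theorem KM_induction [Finite ↥KM] {P : ↥KM → Prop} (h1 : P 1)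
    (hm : ∀ (a c : ↥KM) (g : ℕ), g < 8 → kc c = allG.getD g 0 → P a → P (c * a)) : ∀ a, P a := by
  intro a
  have ha : a ∈ Subgroup.closure (Set.range sysK.φ ∪ {sysK.σ}) := by rw [KM_eq]; trivial
  have hle : Subgroup.closure (Set.range sysK.φ ∪ {sysK.σ}) ≤
      Subgroup.closure {c : ↥KM | ∃ g < 8, kc c = allG.getD g 0} := by
    rw [Subgroup.closure_le]
    rintro _ (⟨b, rfl⟩ | hb)
    · have hb : b ∈ Subgroup.closure (Set.range fun k : Fin oCert.gens.length => RA.gen k) := by
        rw [RA.gen_top]; trivial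
      have := Subgroup.mem_map_of_mem (Subgroup.inclusion AM_le) hb
      rw [MonoidHom.map_closure] at this
      refine (Subgroup.closure_le _).2 ?_ this
      rintro _ ⟨_, ⟨k, rfl⟩, rfl⟩
      have hk : k.val < 7 := by
        have := k.2
        have := tau_checks.2.2.2
        omega
      refine Subgroup.subset_closure ⟨k.val, by omega, ?_⟩
      show RA.cd (gA k.val) = _
      rw [show RA.cd (gA k.val) = genL.getD k.val oCert.one from
          (RA.cd_gen k.val).trans (congrArg (fun l => List.getD l k.val oCert.one) (by with_unfolding_all rfl)),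
        allG, List.getD_append _ _ _ _ (by exact hk), List.getD_eq_getElem _ _ (by exact hk),
        List.getD_eq_getElem _ _ (by exact hk)]
    · obtain rfl := Set.mem_singleton_iff.1 hb
      exact Subgroup.subset_closure ⟨7, by norm_num, code_tau⟩
  have ha' := hle ha
  rw [← Subgroup.mem_toSubmonoid, Subgroup.closure_toSubmonoid_of_finite] at ha'
  clear ha
  induction ha' using Submonoid.closure_induction_left with
  | one => exact h1
  | mul_left c hc y _ ih =>
    obtain ⟨g, hg, hgc⟩ := hc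
    exact hm y c g hg hgc ih

/-- membership of a list, unfolded -/
theorem inList_iff {T : IT} {V : VT} {n v : ℕ} :
    inList T V n v = true ↔ V.get v < n ∧ (T.get (V.get v)).2.2 = v := by
  simp only [inList, Bool.and_eq_true, Nat.blt_eq, Nat.beq_eq]

theorem orb_spec (k : ℕ) (hk : k < 1575) :
    orbC k = (orbL.getD k (0, 0, 0)).2.2 ∧ orbV.get (orbC k) = k := by
  have hl : k < orbL.length := by rw [orb_len]; exact hk
  have h := scan0 orb_scan k hl
  simp only [orbStep, Bool.and_eq_true, Nat.beq_eq] at h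
  have e : orbC k = (orbL.getD k (0, 0, 0)).2.2 := by rw [orbC, tBeq_eq h.1.1.1]
  exact ⟨e, e ▸ h.1.1.2⟩

/-- the orbit entries with their conjugators -/
theorem orb_elem (k : ℕ) (hk : k < 1575) : ∃ g : ↥KM, kc g = (ocI.get k).1 ∧ kc g⁻¹ = (ocI.get k).2.1 ∧
    kc (g * tK * g⁻¹) = orbC k := by
  induction k using Nat.strong_induction_on with
  | _ k ih =>
    have hl : k < orbL.length := by rw [orb_len]; exact hk
    have h := scan0 oc_scan k hl
    simp only [ocStep, Bool.and_eq_true] at h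
    obtain ⟨⟨h1, h2⟩, -⟩ := h
    have hval : ∀ g : ↥KM, kc g = (ocI.get k).1 → kc g⁻¹ = (ocI.get k).2.1 → kc (g * tK * g⁻¹) = orbC k := by
      intro g hg hgi
      rw [(orb_spec k hk).1, Nat.eq_of_beq_eq_true h2, kc_mul, kc_mul, hg, hgi, tC_eq, tK]
      rw [show kc (Subgroup.inclusion AM_le MF.t) = oCert.ev mu tW from kc_wel tW]
    rcases Nat.eq_zero_or_pos k with rfl | hk0
    · simp only [Nat.beq_refl, cond_true, Bool.and_eq_true, Nat.beq_eq] at h1
      have e1 : kc (1 : ↥KM) = (ocI.get 0).1 := kc_one.trans h1.1.symm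
      have e2 : kc (1 : ↥KM)⁻¹ = (ocI.get 0).2.1 := by rw [inv_one, kc_one]; exact h1.2.symm
      exact ⟨1, e1, e2, hval 1 e1 e2⟩
    · rw [show Nat.beq k 0 = false from Bool.eq_false_iff.2 fun e => hk0.ne' (Nat.eq_of_beq_eq_true e)] at h1
      simp only [cond_false, Bool.and_eq_true, Nat.blt_eq, Nat.beq_eq] at h1
      obtain ⟨⟨⟨hp, hg⟩, hc⟩, hci⟩ := h1
      obtain ⟨g, e1, e2, -⟩ := ih _ hp (hp.trans hk)
      obtain ⟨c, d1, d2⟩ := gen8 _ hg
      have f1 : kc (c * g) = (ocI.get k).1 := by rw [kc_mul, d1, e1, hc]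
      have f2 : kc (c * g)⁻¹ = (ocI.get k).2.1 := by rw [mul_inv_rev, kc_mul, d2, e2, hci]
      exact ⟨c * g, f1, f2, hval _ f1 f2⟩

/-- every conjugate of the central involution is listed -/
theorem orb_complete [Finite ↥KM] (g : ↥KM) : ∃ k < 1575, kc (g * tK * g⁻¹) = orbC k := by
  suffices h : inT (kc (g * tK * g⁻¹)) = true by
    obtain ⟨h1, h2⟩ := inList_iff.1 h
    exact ⟨_, h1, h2.symm⟩
  revert g
  refine KM_induction ?_ fun a c g hg hc ha => ?_
  · obtain ⟨g, hg, -, he⟩ := orb_elem 0 (by norm_num)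
    have h0 : g = 1 := kc_inj (by
      have h := scan0 oc_scan 0 (by rw [orb_len]; norm_num)
      simp only [ocStep, Nat.beq_refl, cond_true, Bool.and_eq_true, Nat.beq_eq] at h
      rw [hg, kc_one, h.1.1.1])
    subst h0
    refine inList_iff.2 ?_
    rw [he, (orb_spec 0 (by norm_num)).2]
    exact ⟨by norm_num, rfl⟩
  · obtain ⟨h1, h2⟩ := inList_iff.1 ha
    have hl : orbV.get (kc (a * tK * a⁻¹)) < orbL.length := by rw [orb_len]; exact h1
    have h := scan0 oc_scan _ hl
    simp only [ocStep, Bool.and_eq_true, List.all_eq_true, List.mem_range] at h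
    have h3 := h.2 g hg
    rw [← (orb_spec _ h1).1, show orbC (orbV.get (kc (a * tK * a⁻¹))) = kc (a * tK * a⁻¹) from h2] at h3
    obtain ⟨c', d1, d2⟩ := gen8 g hg
    obtain rfl : c = c' := kc_inj (hc.trans d1.symm)
    rwa [show c * a * tK * (c * a)⁻¹ = c * (a * tK * a⁻¹) * c⁻¹ by group, kc_mul, kc_mul c, hc, d2]

theorem inT_sound {s : ↥KM} (h : inT (kc s) = true) : ∃ g : ↥KM, g * tK * g⁻¹ = s := by
  obtain ⟨h1, h2⟩ := inList_iff.1 h
  obtain ⟨g, -, -, hg⟩ := orb_elem _ h1
  exact ⟨g, kc_inj (hg.trans h2)⟩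

theorem inT_complete [Finite ↥KM] (g : ↥KM) : inT (kc (g * tK * g⁻¹)) = true := by
  obtain ⟨k, hk, e⟩ := orb_complete g
  refine inList_iff.2 ?_
  rw [e, (orb_spec k hk).2]
  exact ⟨hk, rfl⟩

section Closed

variable {ws : List (List ℕ)} {gw : List ℕ} {l : List (ℕ × ℕ × ℕ)} {T : IT} {V : VT} {n : ℕ}

theorem closed_list (hgw : gw = ws.map (oCert.ev mu)) (hn : l.length = n) (hn0 : 0 < n)
    (h : scan (closStep gw T V n) l 0 = true) [Finite ↥AM] :
    (∀ a ∈ Subgroup.closure {a | ∃ w ∈ ws, RA.wel w = a}, inList T V n (RA.cd a) = true) ∧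
    (∀ k < n, ∃ a ∈ Subgroup.closure {a | ∃ w ∈ ws, RA.wel w = a}, RA.cd a = (l.getD k (0, 0, 0)).2.2) ∧
    (∀ v, inList T V n v = true → ∃ a ∈ Subgroup.closure {a | ∃ w ∈ ws, RA.wel w = a}, RA.cd a = v) ∧
    Nat.card ↥(Subgroup.closure {a | ∃ w ∈ ws, RA.wel w = a}) = n := by
  classical
  set K := Subgroup.closure {a | ∃ w ∈ ws, RA.wel w = a} with hK
  have hs : ∀ k < n, closStep gw T V n k (l.getD k (0, 0, 0)) = true := fun k hk => scan0 h k (hn ▸ hk)
  simp only [closStep, Bool.and_eq_true, List.all_eq_true, Nat.beq_eq] at hs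
  have hT : ∀ k < n, T.get k = l.getD k (0, 0, 0) ∧ V.get (l.getD k (0, 0, 0)).2.2 = k := fun k hk =>
    ⟨tBeq_eq (hs k hk).1.1, (hs k hk).1.2⟩
  have hrow : ∀ k < n, ∃ a ∈ K, RA.cd a = (l.getD k (0, 0, 0)).2.2 := by
    intro k
    induction k using Nat.strong_induction_on with
    | _ k ih =>
      intro hk
      obtain ⟨-, e, -⟩ := hs k hk
      rcases Nat.eq_zero_or_pos k with rfl | hk0
      · simp only [Nat.beq_refl, cond_true, Nat.beq_eq] at e
        exact ⟨1, K.one_mem, by rw [RA.cd_one, e]⟩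
      · rw [show Nat.beq k 0 = false from Bool.eq_false_iff.2 fun e => hk0.ne' (Nat.eq_of_beq_eq_true e)] at e
        simp only [cond_false, Bool.and_eq_true, Nat.blt_eq, Nat.beq_eq] at e
        obtain ⟨⟨h1, h2⟩, h3⟩ := e
        obtain ⟨a, ha, hca⟩ := ih _ h1 (h1.trans hk)
        rw [(hT _ (h1.trans hk)).1, ← hca] at h3
        set g := (l.getD k (0, 0, 0)).2.1
        have hg : g < ws.length := by rwa [hgw, List.length_map] at h2
        refine ⟨a * RA.wel ws[g], K.mul_mem ha (Subgroup.subset_closure ⟨_, List.getElem_mem hg, rfl⟩), ?_⟩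
        rw [RA.cd_mul, RA.cd_wel, h3, List.getD_eq_getElem _ _ h2]
        simp [hgw]
  have hsound : ∀ v, inList T V n v = true → ∃ a ∈ K, RA.cd a = v := by
    intro v hv
    obtain ⟨h1, h2⟩ := inList_iff.1 hv
    obtain ⟨a, ha, e⟩ := hrow _ h1
    exact ⟨a, ha, by rw [e, ← (hT _ h1).1, h2]⟩
  have hcomp : ∀ a ∈ K, inList T V n (RA.cd a) = true := by
    intro a ha
    have ha' := ha
    rw [hK, ← Subgroup.mem_toSubmonoid, Subgroup.closure_toSubmonoid_of_finite] at ha'
    induction ha' using Submonoid.closure_induction_right with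
    | one =>
      refine inList_iff.2 ?_
      obtain ⟨-, e, -⟩ := hs 0 hn0
      simp only [Nat.beq_refl, cond_true, Nat.beq_eq] at e
      have hT0 := hT 0 hn0
      rw [RA.cd_one, ← e, hT0.2, hT0.1]
      exact ⟨hn0, rfl⟩
    | mul_right x hx y hy ih =>
      obtain ⟨w, hw, rfl⟩ := hy
      obtain ⟨h1, h2⟩ := inList_iff.1 (ih (by rw [hK, ← Subgroup.mem_toSubmonoid, Subgroup.closure_toSubmonoid_of_finite]; exact hx))
      have := (hs _ h1).2.2 (oCert.ev mu w) (hgw ▸ List.mem_map.2 ⟨w, hw, rfl⟩)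
      rw [← (hT _ h1).1, h2] at this
      rwa [RA.cd_mul, RA.cd_wel]
  refine ⟨hcomp, hrow, hsound, le_antisymm ?_ ?_⟩
  · let f : ↥K → Fin n := fun a => ⟨V.get (RA.cd (a : ↥AM)), (inList_iff.1 (hcomp a a.2)).1⟩
    have hf : Function.Injective f := fun a b e => by
      have ea := (inList_iff.1 (hcomp a a.2)).2
      have eb := (inList_iff.1 (hcomp b b.2)).2
      rw [show V.get (RA.cd (a : ↥AM)) = V.get (RA.cd (b : ↥AM)) from congrArg Fin.val e, eb] at ea
      exact Subtype.ext (RA.eq_of_cd ea.symm)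
    simpa using Nat.card_le_card_of_injective f hf
  · choose a ha hca using hrow
    let f : Fin n → ↥K := fun k => ⟨a k k.2, ha k k.2⟩
    have hf : Function.Injective f := fun i j e => by
      have h1 := (hT i i.2).2
      have h2 := (hT j j.2).2
      rw [← hca i i.2, show a i i.2 = a j j.2 from congrArg Subtype.val e, hca j j.2, h2] at h1
      exact Fin.ext h1.symm
    simpa using Nat.card_le_card_of_injective f hf

end Closed

/-- the extraspecial group in the model -/
noncomputable def QA : Subgroup ↥AM := Subgroup.closure {a | ∃ w ∈ qGens, RA.wel w = a}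

theorem QA_facts [Finite ↥AM] : Nat.card ↥QA = 512 ∧ ∀ a, a ∈ QA ↔ inQ (RA.cd a) = true := by
  obtain ⟨h1, -, h3, h4⟩ := closed_list qC_eq (Nat.eq_of_beq_eq_true qel_len) (by norm_num) qel_scan
  refine ⟨h4, fun a => ⟨fun ha => h1 a ha, fun ha => ?_⟩⟩
  obtain ⟨b, hb, e⟩ := h3 _ ha
  rwa [← RA.eq_of_cd e]

/-- the representatives of the four other classes -/
noncomputable def uA (j : ℕ) : ↥AM := RA.wel (uW.getD j [])

theorem uA_cd {j : ℕ} (hj : j < 4) : RA.cd (uA j) = uC j := by
  have h := uC_eq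
  simp only [List.all_eq_true, List.mem_range, Nat.beq_eq] at h
  rw [uA, RA.cd_wel, h j hj]

/-- the Sylow two-subgroup of the model -/
noncomputable def SA : Subgroup ↥AM := Subgroup.closure {a | ∃ w ∈ sGens, RA.wel w = a}

/-- **Every involution of the model is conjugate to one of the five representatives.** -/
theorem involution_classes (hA : Nat.card ↥AM = 110592) (s : ↥KM) (hs : s * s = 1) (hs1 : s ≠ 1) :
    (∃ g : ↥KM, g * tK * g⁻¹ = s) ∨ ∃ j < 4, ∃ g : ↥KM, g * Subgroup.inclusion AM_le (uA j) * g⁻¹ = s := by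
  classical
  haveI : Finite ↥AM := Nat.finite_of_card_ne_zero (by rw [hA]; norm_num)
  haveI : Finite ↥KM := Nat.finite_of_card_ne_zero (by rw [card_KM hA]; norm_num)
  haveI : Fact (Nat.Prime 2) := ⟨Nat.prime_two⟩
  obtain ⟨hcomp, -, -, hcard⟩ := closed_list sC_eq (Nat.eq_of_beq_eq_true syl_len) (by norm_num) syl_scan
  set P0 : Subgroup ↥KM := SA.map (Subgroup.inclusion AM_le) with hP0
  have hP0c : Nat.card ↥P0 = 4096 := by
    rw [hP0, Subgroup.card_map_of_injective (Subgroup.inclusion_injective AM_le)]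
    exact hcard
  have hfac : (Nat.card ↥KM).factorization 2 = 12 := by
    rw [card_KM hA, Nat.factorization_def _ Nat.prime_two, show (174182400 : ℕ) = 2 ^ 12 * 42525 by norm_num,
      padicValNat.mul (by norm_num) (by norm_num), padicValNat.prime_pow,
      padicValNat.eq_zero_of_not_dvd (by norm_num)]
  let P : Sylow 2 ↥KM := Sylow.ofCard P0 (by rw [hP0c, hfac]; norm_num)
  have hpg : IsPGroup 2 (Subgroup.zpowers s) := by
    refine IsPGroup.of_card (n := 1) ?_
    rw [Nat.card_zpowers, pow_one]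
    exact orderOf_eq_prime (by rw [pow_two, hs]) hs1
  obtain ⟨Q, hQ⟩ := hpg.exists_le_sylow
  obtain ⟨g, hg⟩ := MulAction.exists_smul_eq ↥KM Q P
  have hmem : g * s * g⁻¹ ∈ P0 := by
    have h1 : s ∈ (Q : Subgroup ↥KM) := hQ (Subgroup.mem_zpowers s)
    have h2 : g * s * g⁻¹ ∈ ((g • Q : Sylow 2 ↥KM) : Subgroup ↥KM) := by
      rw [Sylow.coe_subgroup_smul]
      exact ⟨s, h1, rfl⟩
    rwa [hg] at h2
  obtain ⟨a, ha, hae⟩ := hmem
  obtain ⟨h1, h2⟩ := inList_iff.1 (hcomp a ha)
  have hl : sylV.get (RA.cd a) < sylL.length := by rw [Nat.eq_of_beq_eq_true syl_len]; exact h1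
  have hrow : (sylL.getD (sylV.get (RA.cd a)) (0, 0, 0)).2.2 = RA.cd a := by
    have h := scan0 syl_scan _ hl
    simp only [closStep, Bool.and_eq_true] at h
    rw [← tBeq_eq h.1.1, h2]
  have hmem' : (sylL.getD (sylV.get (RA.cd a)) (0, 0, 0)) ∈ sylL := by
    rw [List.getD_eq_getElem _ _ hl]; exact List.getElem_mem hl
  have hc := List.all_eq_true.1 inv_complete _ hmem'
  simp only [Bool.or_eq_true, Bool.not_eq_true', Nat.beq_eq, List.any_eq_true, hrow] at hc
  rcases hc with (hc | hc) | ⟨⟨v, j, W⟩, hW, hv⟩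
  · exfalso
    refine hs1 ?_
    have h0 : a = 1 := RA.eq_of_cd (hc.trans RA.cd_one.symm)
    rw [h0, map_one] at hae
    exact conj_eq_one_iff.1 hae.symm
  · exfalso
    refine Bool.eq_false_iff.1 hc ?_
    rw [Nat.beq_eq, ← RA.cd_mul, ← RA.cd_one]
    refine congrArg RA.cd (Subgroup.inclusion_injective AM_le ?_)
    rw [map_mul, map_one, hae]
    calc g * s * g⁻¹ * (g * s * g⁻¹) = g * (s * s) * g⁻¹ := by group
      _ = 1 := by rw [hs]; group
  · have hi := List.all_eq_true.1 inv_check _ hW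
    simp only [invStep, Bool.and_eq_true, Nat.blt_eq, List.all_eq_true, Nat.beq_eq] at hi
    obtain ⟨⟨hj, hwl⟩, he⟩ := hi
    obtain rfl : v = RA.cd a := hv
    obtain ⟨w, hw⟩ : ∃ w : ↥KM, kc w = ev8 W := by
      suffices ∀ (r : ↥KM), ∃ w : ↥KM, kc w = W.foldl (fun r k => mu r (allG.getD k oCert.one)) (kc r) by
        have := this 1
        rwa [kc_one] at this
      clear he hW
      induction W with
      | nil => intro r; exact ⟨r, rfl⟩
      | cons k W ih =>
        intro r
        obtain ⟨c, hc, -⟩ := gen8 k (hwl k List.mem_cons_self)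
        obtain ⟨w, hw⟩ := ih (fun x hx => hwl x (List.mem_cons_of_mem k hx)) (r * c)
        refine ⟨w, hw.trans ?_⟩
        rw [List.foldl_cons, kc_mul, hc]
        congr 2
        have hk := hwl k List.mem_cons_self
        have hk' : k < allG.length := by
          have : allG.length = 8 := rfl
          omega
        rw [List.getD_eq_getElem _ _ hk', List.getD_eq_getElem _ _ hk']
    rw [← hw, ← kc_incl, ← kc_mul] at he
    match j, hj with
    | 0, _ =>
      have e : w * Subgroup.inclusion AM_le a = tK * w := by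
        refine kc_inj ?_
        rw [he, kc_mul]
        exact congrArg (mu · (kc w)) (kc_wel tW).symm
      refine Or.inl ⟨g⁻¹ * w⁻¹, ?_⟩
      calc g⁻¹ * w⁻¹ * tK * (g⁻¹ * w⁻¹)⁻¹ = g⁻¹ * w⁻¹ * (tK * w) * g := by group
        _ = g⁻¹ * Subgroup.inclusion AM_le a * g := by rw [← e]; group
        _ = s := by rw [hae]; group
    | i + 1, hi =>
      have e : w * Subgroup.inclusion AM_le a = Subgroup.inclusion AM_le (uA i) * w := by
        refine kc_inj ?_
        rw [he, kc_mul]
        exact congrArg (mu · (kc w)) (uA_cd (by omega)).symm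
      refine Or.inr ⟨i, by omega, g⁻¹ * w⁻¹, ?_⟩
      calc g⁻¹ * w⁻¹ * Subgroup.inclusion AM_le (uA i) * (g⁻¹ * w⁻¹)⁻¹
          = g⁻¹ * w⁻¹ * (Subgroup.inclusion AM_le (uA i) * w) * g := by group
        _ = g⁻¹ * Subgroup.inclusion AM_le a * g := by rw [← e]; group
        _ = s := by rw [hae]; group

end Cfsg.Agent.Spor.OmegaEightCent
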