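import Cfsg.Agent.Lib.Spor.OmegaEightCent.Shape

/-!
The centralizer of a pair of conjugates, one lying in the extraspecial group of the other, has order 2048.
-/

set_option autoImplicit false
set_option linter.style.haveILetI false
set_option linter.unusedSectionVars false
set_option maxRecDepth 10000

namespace Cfsg.Agent.Spor.OmegaEightCent

universe u

/-- the group generated by the three transpositions is self-normalizing -/
theorem epsW_self_norm : ∀ s : S3c, (∀ i j k, ∃ i' j' k', s * epsW i j k * s⁻¹ = epsW i' j' k') →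
    ∃ i j k, s = epsW i j k := by
  decide +kernel

theorem epsW_inj : ∀ i j k i' j' k', epsW i j k = epsW i' j' k' → i = i' ∧ j = j' ∧ k = k' := by
  decide +kernel

variable {G : Type u} [Group G] [Finite G] {H : Hyp G} {g : G}

/-- The centralizer of the pair has order 2048. -/
theorem InQ.card_pair (P : InQ H g) :
    Nat.card ↥(Subgroup.centralizer ({H.t} : Set G) ⊓ Subgroup.centralizer ({g * H.t * g⁻¹} : Set G)) = 2048 := by
  obtain ⟨H', ht, N⟩ := exists_normal3 H P
  rw [← ht]
  clear P ht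
  set x := g * H'.t * g⁻¹ with hx
  set K : Subgroup G := H'.C ⊓ Subgroup.centralizer ({x} : Set G) with hK
  let p : ↥K →* S3c := H'.π.comp (Subgroup.inclusion inf_le_left)
  have hcx : ∀ z ∈ K, Commute z x := fun z hz => Subgroup.mem_centralizer_singleton_iff.1 hz.2
  have hrange : ∀ s, s ∈ p.range ↔ ∃ i j k, s = epsW i j k := by
    intro s
    constructor
    · rintro ⟨z, rfl⟩
      refine epsW_self_norm _ fun i j k => ?_
      obtain ⟨r, hr, hrπ⟩ := N.lift i j k
      set z' : ↥H'.C := Subgroup.inclusion inf_le_left z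
      have hmem : ((z' * r * z'⁻¹ : ↥H'.C) : G) ∈ H'.Qg g := by
        refine mem_Qg.2 ?_
        have hzg : g⁻¹ * (z : G) * g ∈ H'.C := by
          rw [H'.mem_C]
          have h := (Commute.conj_iff g⁻¹).2 (hcx z z.2)
          rwa [inv_inv, hx, show g⁻¹ * (g * H'.t * g⁻¹) * g = H'.t by group] at h
        have := H'.conj_mem hzg (mem_Qg.1 hr)
        push_cast
        rwa [show g⁻¹ * (z : G) * g * (g⁻¹ * (r : G) * g) * (g⁻¹ * (z : G) * g)⁻¹ =
          g⁻¹ * ((z : G) * r * (z : G)⁻¹) * g by group] at this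
      obtain ⟨i', j', k', h'⟩ := N.img _ hmem
      exact ⟨i', j', k', by rw [← h', map_mul, map_mul, map_inv, hrπ]; rfl⟩
    · rintro ⟨i, j, k, rfl⟩
      obtain ⟨r, hr, hrπ⟩ := N.lift i j k
      have hrK : (r : G) ∈ K := by
        refine ⟨r.2, Subgroup.mem_centralizer_singleton_iff.2 ?_⟩
        have h := (Commute.conj_iff g).2 (H'.commute_t (mem_Qg.1 hr))
        rw [show g * (g⁻¹ * (r : G) * g) * g⁻¹ = r by group] at h
        exact h.eq
      exact ⟨⟨r, hrK⟩, hrπ⟩
  have hr8 : Nat.card p.range = 8 := by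
    let f : Bool × Bool × Bool → ↥p.range := fun w => ⟨epsW w.1 w.2.1 w.2.2, (hrange _).2 ⟨_, _, _, rfl⟩⟩
    have hf : Function.Bijective f := by
      refine ⟨fun a b e => ?_, fun ⟨s, hs⟩ => ?_⟩
      · obtain ⟨h1, h2, h3⟩ := epsW_inj _ _ _ _ _ _ (congrArg Subtype.val e)
        exact Prod.ext h1 (Prod.ext h2 h3)
      · obtain ⟨i, j, k, rfl⟩ := (hrange s).1 hs
        exact ⟨(i, j, k), rfl⟩
    rw [← Nat.card_congr (Equiv.ofBijective f hf)]
    simp
  have hker : Nat.card p.ker = 256 := by
    have e : p.ker = N.P.cent.subgroupOf K := by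
      ext z
      rw [MonoidHom.mem_ker, Subgroup.mem_subgroupOf, N.P.mem_cent]
      exact (H'.π_ker _).trans ⟨fun h => ⟨h, hcx z z.2⟩, fun h => h.1⟩
    rw [e, Nat.card_congr (Subgroup.subgroupOfEquivOfLe (show N.P.cent ≤ K from
      inf_le_inf_right _ H'.Q_le)).toEquiv, N.P.cent_card]
  have h := p.ker.card_mul_index
  rw [Subgroup.index_ker, hker, hr8] at h
  exact h.symm

end Cfsg.Agent.Spor.OmegaEightCent
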