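import Cfsg.Agent.Lib.Spor.OmegaEightCent.Rels
import Cfsg.Agent.Lib.Spor.OmegaEightCent.ModelClasses
import Cfsg.Agent.Lib.Spor.OmegaEightCent.PairCent
import Cfsg.Agent.Lib.Spor.OmegaEightCent.Embedded

/-!
The image of the model controls the conjugates of the central involution and contains the centralizer of each of its
involutions, so it is the whole group.
-/

set_option autoImplicit false
set_option linter.style.haveILetI false
set_option linter.unusedSectionVars false
set_option maxRecDepth 100000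
set_option maxHeartbeats 1000000

namespace Cfsg.Agent.Spor.OmegaEightCent

open DCoset

attribute [local irreducible] oCert mu qelL qelI qelV sylL sylI sylV orbL orbI orbV ocI invL

universe u

variable {G : Type u} [Group G] [Finite G] {H : Hyp G}

theorem Setup.finiteA (S : Setup H) : Finite ↥AM := Nat.finite_of_card_ne_zero (by rw [S.cardA]; norm_num)

theorem Setup.finiteK (S : Setup H) : Finite ↥KM :=
  Nat.finite_of_card_ne_zero (by rw [card_KM S.cardA]; norm_num)

/-- the extraspecial group is the image of the one of the model -/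
theorem Setup.mem_Q (S : Setup H) (a : ↥AM) : S.φ a ∈ H.Q ↔ inQ (RA.cd a) = true := by
  haveI := S.finiteA
  obtain ⟨hc, hiff⟩ := QA_facts
  have hle : QA.map S.φ ≤ H.Q := by
    rw [QA, MonoidHom.map_closure, Subgroup.closure_le]
    rintro _ ⟨_, ⟨w, hw, rfl⟩, rfl⟩
    simp only [qGens, List.mem_cons, List.not_mem_nil, or_false] at hw
    rcases hw with rfl | rfl | rfl | rfl | rfl | rfl | rfl | rfl | rfl
    · rw [S.φt]; exact H.t_mem
    all_goals exact S.φxQ _
  have heq : QA.map S.φ = H.Q :=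
    Subgroup.eq_of_le_of_card_ge hle (by rw [H.Q_card, Subgroup.card_map_of_injective S.inj, hc])
  rw [← hiff, ← heq, Subgroup.mem_map]
  exact ⟨fun ⟨b, hb, e⟩ => S.inj e ▸ hb, fun h => ⟨a, h, rfl⟩⟩

theorem uA_ne {j : ℕ} (hj : j < 4) :
    inT (uC j) = false ∧ uC j ≠ oCert.one ∧ inQ (uC j) = true ∧ mu (uC j) (uC j) = oCert.one := by
  have h := List.all_eq_true.1 ab_check j (List.mem_range.2 hj)
  simp only [abCheck, Bool.and_eq_true, Bool.not_eq_true', List.all_eq_true, Nat.beq_eq] at h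
  obtain ⟨⟨⟨⟨⟨⟨⟨⟨⟨⟨hq, -⟩, -⟩, -⟩, -⟩, hsq⟩, -⟩, -⟩, -⟩, hT⟩, h1⟩ := h
  exact ⟨hT, fun e => (Bool.eq_false_iff.1 h1) (by rw [Nat.beq_eq, e]), hq, hsq⟩

/-- the four representatives are not conjugate to `t` -/
theorem Setup.u_not_conj (S : Setup H) {j : ℕ} (hj : j < 4) (g : G) : g * H.t * g⁻¹ ≠ S.φ (uA j) := by
  classical
  haveI := S.finiteA
  haveI := S.finiteK
  intro e
  obtain ⟨hT, -, hQ, -⟩ := uA_ne hj
  have hut : S.φ (uA j) ≠ H.t := by
    rw [← S.φt]
    intro e'
    have : kc (Subgroup.inclusion AM_le (uA j)) = kc ((1 : ↥KM) * tK * (1 : ↥KM)⁻¹) := by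
      rw [one_mul, inv_one, mul_one, S.inj e']
      rfl
    have h := inT_complete (1 : ↥KM)
    rw [← this, kc_incl, uA_cd hj, hT] at h
    exact Bool.false_ne_true h
  have P : InQ H g := ⟨by rw [e, S.mem_Q, uA_cd hj]; exact hQ, by rw [e]; exact hut⟩
  have hcard := P.card_pair
  rw [e] at hcard
  set K : Subgroup ↥AM := Subgroup.centralizer {uA j}
  have heq : Subgroup.centralizer ({H.t} : Set G) ⊓ Subgroup.centralizer ({S.φ (uA j)} : Set G) = K.map S.φ := by
    ext z
    rw [Subgroup.mem_inf, Subgroup.mem_map, Subgroup.mem_centralizer_singleton_iff,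
      Subgroup.mem_centralizer_singleton_iff]
    constructor
    · rintro ⟨h1, h2⟩
      obtain ⟨a, rfl⟩ := S.mem h1
      exact ⟨a, Subgroup.mem_centralizer_singleton_iff.2 (S.inj (by rw [map_mul, map_mul]; exact h2)), rfl⟩
    · rintro ⟨a, ha, rfl⟩
      exact ⟨(S.comm_t a).eq, by rw [← map_mul, ← map_mul, Subgroup.mem_centralizer_singleton_iff.1 ha]⟩
  rw [heq, Subgroup.card_map_of_injective S.inj] at hcard
  by_cases h3 : j < 3
  · have h := List.all_eq_true.1 r3_check j (List.mem_range.2 h3)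
    simp only [Bool.and_eq_true, Bool.not_eq_true', Nat.beq_eq] at h
    obtain ⟨⟨hr1, hr3⟩, hrc⟩ := h
    set r := RA.wel (uR.getD j []) with hr
    have hrv : RA.cd r = oCert.ev mu (uR.getD j []) := RA.cd_wel _
    have hrK : r ∈ K := Subgroup.mem_centralizer_singleton_iff.2 (RA.eq_of_cd (by
      rw [RA.cd_mul, RA.cd_mul, hrv, uA_cd hj]; exact hrc))
    have ho : orderOf r = 3 := by
      haveI : Fact (Nat.Prime 3) := ⟨Nat.prime_three⟩
      refine orderOf_eq_prime (RA.eq_of_cd ?_) fun e => ?_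
      · rw [pow_three, RA.cd_mul, RA.cd_mul, hrv, RA.cd_one]; exact hr3
      · refine Bool.eq_false_iff.1 hr1 ?_
        rw [Nat.beq_eq, ← hrv, e, RA.cd_one]
    have := Subgroup.orderOf_dvd_natCard K hrK
    rw [ho, hcard] at this
    norm_num at this
  · obtain rfl : j = 3 := by omega
    have h := uo_check
    simp only [Bool.and_eq_true, beq_iff_eq, Nat.beq_eq, List.all_eq_true, Nat.blt_eq] at h
    obtain ⟨⟨hlen, hnd⟩, hall⟩ := h
    let f : Fin uO.length → ↥AM ⧸ K := fun k => QuotientGroup.mk (RA.wel uO[k])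
    have hval : ∀ k : Fin uO.length, uOC[(k : ℕ)]'(by simp [uOC]) =
        RA.cd (RA.wel uO[k] * uA 3 * (RA.wel uO[k])⁻¹) := by
      intro k
      have hw : mu (oCert.ev mu uO[k]) (oCert.ev mu (winv uO[k])) = oCert.one :=
        (hall _ (List.getElem_mem _)).2
      have hinv : (RA.wel uO[k])⁻¹ = RA.wel (winv uO[k]) := inv_eq_of_mul_eq_one_right (RA.eq_of_cd (by
        rw [RA.cd_mul, RA.cd_wel, RA.cd_wel, RA.cd_one]; exact hw))
      rw [hinv, RA.cd_mul, RA.cd_mul, RA.cd_wel, RA.cd_wel, uA_cd hj]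
      simp [uOC]
    have hndp : uOC.Nodup := (List.dedup_sublist uOC).eq_of_length hnd ▸ List.nodup_dedup _
    have hf : Function.Injective f := fun a b e => by
      rw [QuotientGroup.eq, Subgroup.mem_centralizer_singleton_iff] at e
      have e' : RA.wel uO[a] * uA 3 * (RA.wel uO[a])⁻¹ = RA.wel uO[b] * uA 3 * (RA.wel uO[b])⁻¹ := by
        calc RA.wel uO[a] * uA 3 * (RA.wel uO[a])⁻¹
            = RA.wel uO[a] * (uA 3 * ((RA.wel uO[a])⁻¹ * RA.wel uO[b])) * (RA.wel uO[b])⁻¹ := by group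
          _ = RA.wel uO[a] * ((RA.wel uO[a])⁻¹ * RA.wel uO[b] * uA 3) * (RA.wel uO[b])⁻¹ := by rw [← e]
          _ = _ := by group
      exact Fin.ext ((hndp.getElem_inj_iff).1 ((hval a).trans ((congrArg RA.cd e').trans (hval b).symm)))
    have hle := Nat.card_le_card_of_injective f hf
    rw [Nat.card_fin, hlen] at hle
    have hmul := K.card_mul_index
    rw [hcard, S.cardA, Subgroup.index_eq_card] at hmul
    omega

/-- **The whole group is the model.** -/
theorem Setup.iso (S : Setup H) :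
    Nonempty (G ≃* Cfsg.Omega (ZMod 2) (Cfsg.quadFormPlus 4 (ZMod 2))) := by
  classical
  haveI := S.finiteA
  haveI := S.finiteK
  obtain ⟨f, hf, hfa⟩ := S.exists_model
  set M := f.range with hM
  set t := H.t
  have hft : f tK = t := (hfa _).trans S.φt
  have htM : t ∈ M := ⟨tK, hft⟩
  have hC : ∀ g : G, Commute g t → g ∈ M := fun g hg => by
    obtain ⟨a, rfl⟩ := S.mem hg
    exact ⟨_, hfa a⟩
  have hconj : ∀ k : ↥KM, f k * t * (f k)⁻¹ = f (k * tK * k⁻¹) := fun k => by
    rw [map_mul, map_mul, map_inv, hft]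
  have hu : ∀ j, j < 4 → ∀ g : G, g * t * g⁻¹ ≠ f (Subgroup.inclusion AM_le (uA j)) := fun j hj g => by
    rw [hfa]; exact S.u_not_conj hj g
  have hin : ∀ g : G, g * t * g⁻¹ ∈ M → g ∈ M := by
    rintro g ⟨s, hs⟩
    have hss : s * s = 1 := hf (by
      rw [map_mul, hs, map_one]
      calc g * t * g⁻¹ * (g * t * g⁻¹) = g * (t * t) * g⁻¹ := by group
        _ = 1 := by rw [H.t_sq]; group)
    have hs1 : s ≠ 1 := fun e => H.t_ne (conj_eq_one_iff.1 (by rw [← hs, e, map_one]))
    rcases involution_classes S.cardA s hss hs1 with ⟨k, hk⟩ | ⟨j, hj, k, hk⟩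
    · have h : Commute ((f k)⁻¹ * g) t := by
        show (f k)⁻¹ * g * t = t * ((f k)⁻¹ * g)
        calc (f k)⁻¹ * g * t = (f k)⁻¹ * (g * t * g⁻¹) * g := by group
          _ = _ := by rw [← hs, ← hk, ← hconj]; group
      have := mul_mem (show f k ∈ M from ⟨k, rfl⟩) (hC _ h)
      rwa [mul_inv_cancel_left] at this
    · exfalso
      refine hu j hj ((f k)⁻¹ * g) ?_
      calc (f k)⁻¹ * g * t * ((f k)⁻¹ * g)⁻¹ = (f k)⁻¹ * (g * t * g⁻¹) * f k := by group
        _ = _ := by rw [← hs, ← hk, map_mul, map_mul, map_inv]; group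
  -- the four centralizers
  have hcu : ∀ j, j < 4 → ∀ g : G, Commute g (f (Subgroup.inclusion AM_le (uA j))) → g ∈ M := by
    intro j hj
    set uK := Subgroup.inclusion AM_le (uA j) with huK
    set uu := f uK
    let Y : Set G := {s | ∃ g, g * t * g⁻¹ = s ∧ g⁻¹ * uu * g ∈ H.Q}
    have hab := List.all_eq_true.1 ab_check j (List.mem_range.2 hj)
    simp only [abCheck, okProd, Bool.and_eq_true, Bool.or_eq_true, Bool.not_eq_true', List.all_eq_true,
      Nat.blt_eq, Nat.beq_eq] at hab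
    obtain ⟨⟨⟨⟨⟨⟨⟨⟨⟨⟨-, hlen⟩, hz⟩, hzD⟩, hD⟩, -⟩, hzu⟩, hA⟩, hB⟩, -⟩, -⟩ := hab
    have hdc : ∀ k < 1575, inQ (mu (mu (ocI.get k).2.1 (uC j)) (ocI.get k).1) = true →
        (uD.getD j []).elem k = true := by
      intro k hk h
      have hall : dCheck j = true := by
        have : j = 0 ∨ j = 1 ∨ j = 2 ∨ j = 3 := by omega
        rcases this with rfl | rfl | rfl | rfl
        exacts [d_check_zero, d_check_one, d_check_two, d_check_three]
      have := List.all_eq_true.1 hall k (List.mem_range.2 hk)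
      simp only [Bool.or_eq_true, Bool.not_eq_true'] at this
      exact this.resolve_left fun e => by rw [h] at e; exact Bool.noConfusion e
    have helem : ∀ k < 1575, ∀ g' : ↥KM, kc g' = (ocI.get k).1 → kc g'⁻¹ = (ocI.get k).2.1 →
        (kc (g'⁻¹ * uK * g') = mu (mu (ocI.get k).2.1 (uC j)) (ocI.get k).1) := by
      intro k _ g' e1 e2
      rw [kc_mul, kc_mul, e1, e2, huK, kc_incl, uA_cd hj]
    -- members of Y inside are listed
    have hYD : ∀ s : ↥KM, f s ∈ Y → ∃ k, k ∈ uD.getD j [] ∧ kc s = orbC k := by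
      rintro s ⟨g, hg, hgQ⟩
      have hgM : g ∈ M := hin g (by rw [hg]; exact ⟨s, rfl⟩)
      obtain ⟨m, rfl⟩ := hgM
      obtain ⟨k, hk, hke⟩ := orb_complete m
      obtain ⟨g', e1, e2, e3⟩ := orb_elem k hk
      have hs : s = m * tK * m⁻¹ := hf (by rw [← hconj, hg])
      refine ⟨k, List.mem_of_elem_eq_true (hdc k hk ?_), by rw [hs, hke]⟩
      have hc : Commute (g'⁻¹ * m) tK := by
        have e : g' * tK * g'⁻¹ = m * tK * m⁻¹ := kc_inj (e3.trans hke.symm)
        show g'⁻¹ * m * tK = tK * (g'⁻¹ * m)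
        calc g'⁻¹ * m * tK = g'⁻¹ * (m * tK * m⁻¹) * m := by group
          _ = _ := by rw [← e]; group
      have hcC : f (g'⁻¹ * m) ∈ H.C := by
        have := hc.map f
        rw [hft] at this
        exact H.mem_C.2 this
      have hq := H.conj_mem hcC hgQ
      rw [show f (g'⁻¹ * m) * ((f m)⁻¹ * uu * f m) * (f (g'⁻¹ * m))⁻¹ = f (g'⁻¹ * uK * g') by
        simp only [map_mul, map_inv]; group; rfl] at hq
      obtain ⟨a, ha⟩ := S.mem (H.commute_t hq)
      have he : Subgroup.inclusion AM_le a = g'⁻¹ * uK * g' := hf ((hfa a).trans ha)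
      rw [← helem k hk g' e1 e2, ← he, kc_incl, ← S.mem_Q, ha]
      exact hq
    have hDY : ∀ p ∈ uD.getD j [], ∃ s : ↥KM, f s ∈ Y ∧ kc s = orbC p := by
      intro p hp
      obtain ⟨hp1, hp2⟩ := hD p hp
      obtain ⟨g', e1, e2, e3⟩ := orb_elem p hp1
      refine ⟨g' * tK * g'⁻¹, ⟨f g', hconj g', ?_⟩, e3⟩
      rw [← helem p hp1 g' e1 e2] at hp2
      obtain ⟨h1, h2⟩ := inList_iff.1 hp2
      obtain ⟨a, -, ha⟩ := (closed_list qC_eq (Nat.eq_of_beq_eq_true qel_len) (by norm_num) qel_scan).2.2.1 _ hp2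
      have he : Subgroup.inclusion AM_le a = g'⁻¹ * uK * g' := kc_inj (by rw [kc_incl, ha])
      have := (S.mem_Q a).2 (by rw [ha]; exact hp2)
      rw [← hfa, he] at this
      simpa only [map_mul, map_inv] using this
    have htor : ∀ s : ↥KM, inT (kc s) = true → ∃ g, g * t * g⁻¹ = f s := fun s h => by
      obtain ⟨k, rfl⟩ := inT_sound h
      exact ⟨f k, hconj k⟩
    have huv : kc uK = uC j := by rw [huK, kc_incl, uA_cd hj]
    obtain ⟨g', e1, e2, e3⟩ := orb_elem _ hz
    set zK := g' * tK * g'⁻¹ with hzK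
    refine cent_le_of_pair M t uu Y H.t_sq hin hC ⟨uK, rfl⟩ ?_ ?_ ?_ ?_ (z := f zK) ⟨f g', hconj g'⟩ ⟨zK, rfl⟩
      ?_ ?_ ?_
    · rintro s ⟨g, rfl, hg⟩
      refine ⟨⟨g, rfl⟩, ?_⟩
      have h := (Commute.conj_iff g).2 (H.commute_t hg)
      rw [show g * (g⁻¹ * uu * g) * g⁻¹ = uu by group] at h
      exact h.symm
    · rintro s ⟨g, rfl, hg⟩ h hh
      refine ⟨h * g, by group, ?_⟩
      rwa [show (h * g)⁻¹ * uu * (h * g) = g⁻¹ * (h⁻¹ * (uu * h)) * g by group, ← hh.eq, inv_mul_cancel_left]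
    · obtain ⟨s, hs, -⟩ := hDY _ (List.getElem_mem (l := uD.getD j []) (n := 0) hlen)
      exact ⟨f s, hs, ⟨s, rfl⟩⟩
    · rintro d hd d' hd' ⟨s, rfl⟩ ⟨s', rfl⟩ hc hne
      obtain ⟨p, hp, hps⟩ := hYD s hd
      obtain ⟨r, hr, hrs⟩ := hYD s' hd'
      rcases hA p hp r hr with h | h
      · rcases h with h | h
        · exact absurd (by rw [kc_inj (hps.trans ((congrArg orbC h).trans hrs.symm))]) hne
        · exfalso
          refine Bool.eq_false_iff.1 h ?_
          rw [Nat.beq_eq, ← hps, ← hrs, ← kc_mul, ← kc_mul]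
          exact congrArg kc (hf (by rw [map_mul, map_mul]; exact hc.eq))
      · rw [← hps, ← hrs, ← huv, ← kc_mul, ← kc_mul] at h
        rcases h with h | h
        · exact Or.inl (map_mul f s s' ▸ htor _ h)
        · exact Or.inr (by rw [← map_mul, ← map_mul]; exact htor _ h)
    · show f zK * f uK = f uK * f zK
      rw [← map_mul f zK uK, ← map_mul f uK zK]
      refine congrArg f (kc_inj ?_)
      rw [kc_mul zK uK, kc_mul uK zK, huv, e3]
      exact hzu
    · intro hY
      obtain ⟨k, hk, hke⟩ := hYD zK hY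
      have hk1 := (hD k hk).1
      have : uZ.getD j 0 = k := by
        rw [← (orb_spec _ hz).2, ← e3, hke, (orb_spec k hk1).2]
      rw [this, List.elem_eq_mem, decide_eq_false_iff_not] at hzD
      exact hzD hk
    · rintro d hd ⟨s, rfl⟩ hc
      obtain ⟨p, hp, hps⟩ := hYD s hd
      rcases hB p hp with h | h
      · exfalso
        refine Bool.eq_false_iff.1 h ?_
        rw [Nat.beq_eq, ← hps, ← e3, ← kc_mul, ← kc_mul]
        exact congrArg kc (hf (by rw [map_mul f zK s, map_mul f s zK]; exact hc.eq))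
      · rw [← hps, ← e3, ← huv, ← kc_mul, ← kc_mul] at h
        rcases h with h | h
        · exact Or.inl (map_mul f zK s ▸ htor _ h)
        · exact Or.inr (by rw [← map_mul, ← map_mul]; exact htor _ h)
  have hall : ∀ w ∈ M, w * w = 1 → w ≠ 1 → ∀ g : G, Commute g w → g ∈ M := by
    rintro w ⟨s, rfl⟩ hw hw1 g hg
    have hss : s * s = 1 := hf (by rw [map_mul, hw, map_one])
    have key : ∀ (k c : ↥KM), k * c * k⁻¹ = s → (∀ g : G, Commute g (f c) → g ∈ M) → g ∈ M := by
      rintro k c rfl hc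
      have h := (Commute.conj_iff (f k)⁻¹).2 hg
      rw [inv_inv, show (f k)⁻¹ * f (k * c * k⁻¹) * f k = f c by rw [map_mul, map_mul, map_inv]; group] at h
      have := mul_mem (mul_mem (show f k ∈ M from ⟨k, rfl⟩) (hc _ h)) (inv_mem (show f k ∈ M from ⟨k, rfl⟩))
      rwa [show f k * ((f k)⁻¹ * g * f k) * (f k)⁻¹ = g by group] at this
    rcases involution_classes S.cardA s hss (fun e => hw1 (by rw [e, map_one])) with ⟨k, hk⟩ | ⟨j, hj, k, hk⟩
    · exact key k _ hk fun g h => hC g (hft ▸ h)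
    · exact key k _ hk (hcu j hj)
  obtain ⟨-, hu1, -, husq⟩ := uA_ne (j := 0) (by norm_num)
  have htop : M = ⊤ := eq_top_of_cents M t (f (Subgroup.inclusion AM_le (uA 0))) H.t_sq hin ⟨_, rfl⟩
    (by rw [← map_mul, ← map_one f, ← map_mul, show uA 0 * uA 0 = 1 from RA.eq_of_cd (by
      rw [RA.cd_mul, uA_cd (by norm_num), RA.cd_one]; exact husq), map_one])
    (hu 0 (by norm_num)) hall
    (fun e => hu1 (by
      have h : uA 0 = 1 := Subgroup.inclusion_injective AM_le (hf (by rw [e, map_one, map_one]))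
      rw [← uA_cd (j := 0) (by norm_num), h, RA.cd_one]))
  obtain ⟨e⟩ := (model_iso S.cardA).2
  exact ⟨((MulEquiv.ofBijective f ⟨hf, MonoidHom.range_eq_top.1 htop⟩).symm).trans e⟩

end Cfsg.Agent.Spor.OmegaEightCent
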