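import Cfsg.Agent.Lib.Spor.OmegaEightCent.Sthree

/-!
Lifts of the three symmetric groups: three commuting elements of order three and three elements normalizing the group
they generate.
-/

set_option autoImplicit false
set_option linter.style.haveILetI false
set_option linter.unusedSectionVars false
set_option maxRecDepth 10000

namespace Cfsg.Agent.Spor.OmegaEightCent

universe u

/-- a transposition -/
def sw3 : Equiv.Perm (Fin 3) := Equiv.swap 0 1

/-- the `i`-th coordinate -/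
def inj3 (i : Fin 3) (a : Equiv.Perm (Fin 3)) : S3c :=
  if i = 0 then (a, 1, 1) else if i = 1 then (1, a, 1) else (1, 1, a)

/-- the three rotations -/
def rot3 (i : Fin 3) : S3c := inj3 i (finRotate 3)

/-- the three transpositions -/
def eps3 (i : Fin 3) : S3c := inj3 i sw3

/-- a product of transpositions -/
def epsW (i j k : Bool) : S3c := (bif i then sw3 else 1, bif j then sw3 else 1, bif k then sw3 else 1)

theorem rot3_comm : ∀ i j : Fin 3, rot3 i * rot3 j = rot3 j * rot3 i := by decide +kernel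

theorem rot3_cube : ∀ i : Fin 3, rot3 i ^ 3 = 1 := by decide +kernel

theorem eps3_rot3 : ∀ i j : Fin 3,
    eps3 i * rot3 j * (eps3 i)⁻¹ = (if i = j then rot3 j * rot3 j else rot3 j) := by decide +kernel

theorem epsW_eps3 : ∀ i : Fin 3, eps3 i = epsW (i == 0) (i == 1) (i == 2) := by decide +kernel

theorem rot_powers : ∀ a : Equiv.Perm (Fin 3), a ^ 27 = 1 →
    a = 1 ∨ a = finRotate 3 ∨ a = finRotate 3 * finRotate 3 := by decide +kernel

theorem conj_to_sw3 : ∀ a : Equiv.Perm (Fin 3), a * a = 1 → a ≠ 1 → ∃ k, k * a * k⁻¹ = sw3 := by decide +kernel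

theorem sign_ker : ∀ a : Equiv.Perm (Fin 3), Equiv.Perm.sign a = 1 →
    a = 1 ∨ a = finRotate 3 ∨ a = finRotate 3 * finRotate 3 := by decide +kernel

theorem sign_rot : Equiv.Perm.sign (finRotate 3) = 1 := by decide +kernel

/-- the three signs -/
def sgn3 : S3c →* ℤˣ × ℤˣ × ℤˣ := Equiv.Perm.sign.prodMap (Equiv.Perm.sign.prodMap Equiv.Perm.sign)

theorem rot_gen_aux : ∀ a b c : Fin 3,
    rot3 0 ^ (a : ℕ) * rot3 1 ^ (b : ℕ) * rot3 2 ^ (c : ℕ) =
      (finRotate 3 ^ (a : ℕ), finRotate 3 ^ (b : ℕ), finRotate 3 ^ (c : ℕ)) := by decide +kernel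

theorem rot_gen {s : S3c} (h1 : s.1 = 1 ∨ s.1 = finRotate 3 ∨ s.1 = finRotate 3 * finRotate 3)
    (h2 : s.2.1 = 1 ∨ s.2.1 = finRotate 3 ∨ s.2.1 = finRotate 3 * finRotate 3)
    (h3 : s.2.2 = 1 ∨ s.2.2 = finRotate 3 ∨ s.2.2 = finRotate 3 * finRotate 3) :
    ∃ a b c : Fin 3, s = rot3 0 ^ (a : ℕ) * rot3 1 ^ (b : ℕ) * rot3 2 ^ (c : ℕ) := by
  have key : ∀ p : Equiv.Perm (Fin 3), p = 1 ∨ p = finRotate 3 ∨ p = finRotate 3 * finRotate 3 →
      ∃ a : Fin 3, p = finRotate 3 ^ (a : ℕ) := fun p hp => by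
    rcases hp with rfl | rfl | rfl
    · exact ⟨0, by simp⟩
    · exact ⟨1, by simp⟩
    · exact ⟨2, by simp [pow_two]⟩
  obtain ⟨a, ha⟩ := key _ h1
  obtain ⟨b, hb⟩ := key _ h2
  obtain ⟨c, hc⟩ := key _ h3
  exact ⟨a, b, c, by rw [rot_gen_aux, ← ha, ← hb, ← hc]⟩

variable {C : Type u} [Group C] [Finite C] (π : C →* S3c)

/-- lifts of the rotations and transpositions -/
structure Lifted where
  ρ : Fin 3 → C
  n : Fin 3 → C
  ρπ : ∀ i, π (ρ i) = rot3 i
  ρ_cube : ∀ i, ρ i ^ 3 = 1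
  ρ_comm : ∀ i j, Commute (ρ i) (ρ j)
  nπ : ∀ i, π (n i) = eps3 i
  n_conj : ∀ i j, n i * ρ j * (n i)⁻¹ = if i = j then ρ j * ρ j else ρ j

/-- The lifts exist when the kernel is a two-group. -/
theorem exists_lifted (hsurj : Function.Surjective π) (hker : Nat.card π.ker = 512) : Nonempty (Lifted π) := by
  classical
  haveI : Fact (Nat.Prime 3) := ⟨Nat.prime_three⟩
  have hC : Nat.card C = 512 * 216 := by
    have h := π.ker.card_mul_index
    rw [Subgroup.index_ker, hker, MonoidHom.range_eq_top.2 hsurj, Subgroup.card_top,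
      show Nat.card S3c = 216 by simp [Nat.card_eq_fintype_card, Fintype.card_prod, Fintype.card_perm,
        Nat.factorial]] at h
    exact h.symm
  obtain ⟨P⟩ : Nonempty (Sylow 3 C) := inferInstance
  have hP : Nat.card (P : Subgroup C) = 27 := by
    rw [P.card_eq_multiplicity, hC,
      show (512 * 216 : ℕ).factorization 3 = 3 by
        rw [Nat.factorization_def _ Nat.prime_three, show (512 * 216 : ℕ) = 3 ^ 3 * 4096 by norm_num,
          padicValNat.mul (by norm_num) (by norm_num), padicValNat.prime_pow,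
          padicValNat.eq_zero_of_not_dvd (by norm_num)]]
    norm_num
  have hinj : ∀ p ∈ (P : Subgroup C), π p = 1 → p = 1 := by
    intro p hp h
    have h1 : orderOf p ∣ 27 := hP ▸ Subgroup.orderOf_dvd_natCard _ hp
    have h2 : orderOf p ∣ 512 := hker ▸ Subgroup.orderOf_dvd_natCard _ (MonoidHom.mem_ker.2 h)
    exact orderOf_eq_one_iff.1 (Nat.dvd_one.1 ((Nat.dvd_gcd h1 h2).trans (by norm_num)))
  have himg : ∀ p ∈ (P : Subgroup C), ∃ a b c : Fin 3,
      π p = rot3 0 ^ (a : ℕ) * rot3 1 ^ (b : ℕ) * rot3 2 ^ (c : ℕ) := by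
    intro p hp
    have h : (π p) ^ 27 = 1 := by
      rw [← map_pow, ← hP]
      have := pow_card_eq_one' (x := (⟨p, hp⟩ : ↥(P : Subgroup C)))
      have h' := congrArg Subtype.val this
      rw [SubmonoidClass.coe_pow, OneMemClass.coe_one] at h'
      rw [h', map_one]
    exact rot_gen (rot_powers _ (congrArg Prod.fst h)) (rot_powers _ (congrArg (fun z => z.2.1) h))
      (rot_powers _ (congrArg (fun z => z.2.2) h))
  have hsur : ∀ i, ∃ p ∈ (P : Subgroup C), π p = rot3 i := by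
    intro i
    choose a b c habc using himg
    let f : ↥(P : Subgroup C) → Fin 3 × Fin 3 × Fin 3 := fun p => (a p p.2, b p p.2, c p p.2)
    have hf : Function.Injective f := fun p q h => by
      have h' : π (p : C) = π (q : C) := by
        rw [habc p p.2, habc q q.2]
        simp only [f, Prod.mk.injEq] at h
        rw [h.1, h.2.1, h.2.2]
      have := hinj _ (mul_mem p.2 (inv_mem q.2)) (by rw [map_mul, map_inv, h', mul_inv_cancel])
      exact Subtype.ext (mul_inv_eq_one.1 this)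
    have hb : Function.Bijective f := (Nat.bijective_iff_injective_and_card f).2 ⟨hf, by
      rw [hP]; simp [Nat.card_eq_fintype_card]⟩
    obtain ⟨p, hp⟩ := hb.2 (if i = 0 then 1 else 0, if i = 1 then 1 else 0, if i = 2 then 1 else 0)
    refine ⟨p, p.2, ?_⟩
    simp only [f, Prod.mk.injEq] at hp
    rw [habc p p.2, hp.1, hp.2.1, hp.2.2]
    fin_cases i <;> simp
  choose ρ hρP hρ using hsur
  have hexact : ∀ p ∈ (P : Subgroup C), ∀ q ∈ (P : Subgroup C), π p = π q → p = q := fun p hp q hq h =>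
    mul_inv_eq_one.1 (hinj _ (mul_mem hp (inv_mem hq)) (by rw [map_mul, map_inv, h, mul_inv_cancel]))
  let K : Subgroup C := (sgn3.comp π).ker
  have hPK : (P : Subgroup C) ≤ K := fun p hp => by
    obtain ⟨a, b, c, h⟩ := himg p hp
    rw [MonoidHom.mem_ker, MonoidHom.comp_apply, h, rot_gen_aux]
    simp [sgn3, sign_rot]
  let PK : Sylow 3 K := P.subtype hPK
  have htop := Sylow.normalizer_sup_eq_top (N := K) PK
  have hmapP : ((PK : Subgroup K).map K.subtype) = (P : Subgroup C) := by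
    rw [Sylow.coe_subtype, Subgroup.subgroupOf_map_subtype, inf_eq_left.2 hPK]
  rw [hmapP] at htop
  have hn : ∀ i, ∃ n : C, π n = eps3 i ∧ n ∈ Subgroup.normalizer ((P : Subgroup C) : Set C) := by
    intro i
    obtain ⟨c, hc⟩ := hsurj (eps3 i)
    obtain ⟨m, hm, k, hk, rfl⟩ := Subgroup.mem_sup_of_normal_right.1 (htop.ge (Subgroup.mem_top c))
    have hk' : sgn3 (π k) = 1 := hk
    simp only [sgn3, MonoidHom.coe_prodMap, Prod.map, Prod.mk_eq_one] at hk'
    obtain ⟨a, b, d, hkd⟩ := rot_gen (sign_ker _ hk'.1) (sign_ker _ hk'.2.1) (sign_ker _ hk'.2.2)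
    refine ⟨m * (ρ 0 ^ (a : ℕ) * ρ 1 ^ (b : ℕ) * ρ 2 ^ (d : ℕ)), ?_, mul_mem hm (Subgroup.le_normalizer
      (mul_mem (mul_mem (pow_mem (hρP 0) _) (pow_mem (hρP 1) _)) (pow_mem (hρP 2) _)))⟩
    rw [map_mul, map_mul, map_mul, map_pow, map_pow, map_pow, hρ, hρ, hρ, ← hkd, ← map_mul, hc]
  choose n hnπ hnN using hn
  refine ⟨⟨ρ, n, hρ, fun i => ?_, fun i j => ?_, hnπ, fun i j => ?_⟩⟩
  · exact hexact _ (pow_mem (hρP i) 3) _ (one_mem _) (by rw [map_pow, hρ, rot3_cube, map_one])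
  · exact hexact _ (mul_mem (hρP i) (hρP j)) _ (mul_mem (hρP j) (hρP i)) (by
      rw [map_mul, map_mul, hρ, hρ, rot3_comm])
  · refine hexact _ ((Subgroup.mem_normalizer_iff.1 (hnN i) _).1 (hρP j)) _ ?_ ?_
    · split_ifs
      · exact mul_mem (hρP j) (hρP j)
      · exact hρP j
    · rw [map_mul, map_mul, map_inv, hnπ, hρ, eps3_rot3]
      split_ifs
      · rw [map_mul, hρ]
      · rw [hρ]

end Cfsg.Agent.Spor.OmegaEightCent
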