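import Cfsg.Agent.Lib.Spor.OmegaEightCent.OrbitChecks
import Cfsg.Agent.Lib.Spor.OmegaEightCent.QData
import Cfsg.Agent.Lib.Spor.OmegaEightCent.SylowData
import Cfsg.Agent.Lib.Spor.OmegaEightCent.ClassData

/-!
Checks of membership of listed sets.
-/

set_option autoImplicit false
set_option maxRecDepth 100000
set_option maxHeartbeats 0

namespace Cfsg.Agent.Spor.OmegaEightCent

open DCoset

/-- membership of a listed set -/
def inList (T : IT) (V : VT) (n v : ℕ) : Bool := Nat.blt (V.get v) n && Nat.beq (T.get (V.get v)).2.2 v

/-- membership of the extraspecial group -/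
def inQ (v : ℕ) : Bool := inList qelI qelV 512 v

/-- membership of the orbit of the central involution -/
def inT (v : ℕ) : Bool := inList orbI orbV 1575 v

/-- generators of the extraspecial group -/
def qGens : List (List ℕ) := [tW, xW 0, xW 1, xW 2, xW 3, xW 4, xW 5, xW 6, xW 7]

/-- generators of a Sylow two-subgroup -/
def sGens : List (List ℕ) := [xW 0, xW 1, xW 2, xW 3, xW 4, xW 5, xW 6, xW 7, [4], [5], [6]]

/-- codes of the generators of the extraspecial group -/
def qC : List ℕ := [0x8040211208040201, 0x8041201408040201, 0x8042241008040201, 0x8140201808040201,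
  0x8240281008040201, 0x8040209009040201, 0x8040a0100a040201, 0x8040205008050201, 0x8040601008060201]

/-- codes of the generators of the Sylow subgroup -/
def sC : List ℕ := [0x8041201408040201, 0x8042241008040201, 0x8140201808040201, 0x8240281008040201,
  0x8040209009040201, 0x8040a0100a040201, 0x8040205008050201, 0x8040601008060201, 0x8040203008040301,
  0x80c020100c040201, 0x8448201008040201]

theorem qC_eq : qC = qGens.map (oCert.ev mu) := by decide +kernel
theorem sC_eq : sC = sGens.map (oCert.ev mu) := by decide +kernel

/-- code of the central involution -/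
def tC : ℕ := 0x8040211208040201

theorem tC_eq : tC = oCert.ev mu tW := by decide +kernel

/-- one entry of a list closed under right multiplication -/
def closStep (gw : List ℕ) (T : IT) (V : VT) (n k : ℕ) (e : ℕ × ℕ × ℕ) : Bool :=
  tBeq (T.get k) e && Nat.beq (V.get e.2.2) k &&
    ((bif Nat.beq k 0 then Nat.beq e.2.2 oCert.one
      else Nat.blt e.1 k && Nat.blt e.2.1 gw.length && Nat.beq e.2.2 (mu (T.get e.1).2.2 (gw.getD e.2.1 0))) &&
    gw.all fun g => inList T V n (mu e.2.2 g))

end Cfsg.Agent.Spor.OmegaEightCent
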