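import Cfsg.Agent.Lib.Spor.OmegaEightCent.Image
import Cfsg.Agent.Lib.Char.ZStar
import Cfsg.Prelude.Def_TwoFusion

/-!
An involution centralizer of the shape of the one in the orthogonal group of plus type in dimension eight over two
elements: either the involution is central modulo the odd core, or the group is that orthogonal group.
-/

set_option autoImplicit false
set_option linter.style.haveILetI false

namespace Cfsg.Agent.Spor.OmegaEightCent

universe u

variable {G : Type u} [Group G] [Finite G]

theorem central_or_iso (H : Hyp G) :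
    (∀ g : G, g * H.t * g⁻¹ * H.t⁻¹ ∈ Cfsg.oddCore G) ∨
      Nonempty (G ≃* Cfsg.Omega (ZMod 2) (Cfsg.quadFormPlus 4 (ZMod 2))) := by
  classical
  by_cases hw : H.Weak
  · left
    intro g
    have hz : Cfsg.IsIsolatedInvolution H.t :=
      ⟨orderOf_eq_prime (p := 2) (by rw [pow_two, H.t_sq]) H.t_ne, fun g hg => isolated_of_weak hw g hg⟩
    have h := inv_mem (Cfsg.Agent.Char.zStar_isolated hz g)
    rwa [show (H.t * g * H.t⁻¹ * g⁻¹)⁻¹ = g * H.t * g⁻¹ * H.t⁻¹ by group] at h
  · right
    simp only [Hyp.Weak, not_forall] at hw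
    obtain ⟨g, hg, hne⟩ := hw
    obtain ⟨H', -, N⟩ := exists_normal3 H (g := g) ⟨hg, hne⟩
    have hker : Nat.card H'.π.ker = 512 := by
      have e : H'.π.ker = H'.Q.subgroupOf H'.C := by
        ext c
        rw [MonoidHom.mem_ker, H'.π_ker, Subgroup.mem_subgroupOf]
      rw [e, Nat.card_congr (Subgroup.subgroupOfEquivOfLe H'.Q_le).toEquiv, H'.Q_card]
    obtain ⟨L⟩ := exists_lifted H'.π H'.π_surj hker
    obtain ⟨g', N', hm⟩ := exists_exact H' N L
    obtain ⟨L', q, K⟩ := exists_linked N' L hm
    obtain ⟨S⟩ := exists_setup N' L' K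
    exact S.iso

end Cfsg.Agent.Spor.OmegaEightCent
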