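import Cfsg.Agent.Lib.Spor.OmegaEightCent.Codes
import Cfsg.Prelude.Def_Classical

/-!
The matrices of the codes.
-/

set_option autoImplicit false
set_option maxHeartbeats 1000000

namespace Cfsg.Agent.Spor.OmegaEightCent

/-- the coordinates -/
abbrev Co : Type := Fin 4 ⊕ Fin 4

/-- bit of a coordinate -/
def cpos : Co → ℕ
  | .inl k => k
  | .inr k => 4 + k

theorem cpos_lt (i : Co) : cpos i < 8 := by cases i <;> simp [cpos] <;> omega

theorem cpos_surj {k : ℕ} (hk : k < 8) : ∃ i : Co, cpos i = k := by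
  by_cases h : k < 4
  · exact ⟨.inl ⟨k, h⟩, rfl⟩
  · exact ⟨.inr ⟨k - 4, by omega⟩, by simp only [cpos]; omega⟩

/-- a bit as a scalar -/
def bz (b : Bool) : ZMod 2 := bif b then 1 else 0

theorem bz_xor (a b : Bool) : bz (a ^^ b) = bz a + bz b := by cases a <;> cases b <;> decide
theorem bz_and (a b : Bool) : bz (a && b) = bz a * bz b := by cases a <;> cases b <;> decide
theorem bz_inj {a b : Bool} (h : bz a = bz b) : a = b := by cases a <;> cases b <;> simp_all [bz]

/-- the matrix of a code -/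
def mat (a : ℕ) : Matrix Co Co (ZMod 2) := fun i j => bz (Nat.testBit a (8 * cpos j + cpos i))

/-- the vector of a byte -/
def vecB (v : ℕ) : Co → ZMod 2 := fun i => bz (Nat.testBit v (cpos i))

theorem colIf_bit (a k : ℕ) (b : Bool) {i : ℕ} (hi : i < 8) :
    Nat.testBit (colIf a b k) i = (b && Nat.testBit a (8 * k + i)) := by
  cases b
  · simp [colIf]
  · show Nat.testBit ((a >>> (8 * k)) &&& 255) i = _
    rw [Nat.testBit_and, Nat.testBit_shiftRight, show (255 : ℕ) = 2 ^ 8 - 1 by norm_num,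
      Nat.testBit_two_pow_sub_one]
    simp [hi]

theorem colIf_lt (a k : ℕ) (b : Bool) : colIf a b k < 2 ^ 8 := by
  cases b
  · simp [colIf]
  · exact lt_of_le_of_lt Nat.and_le_right (by norm_num)

theorem apC_lt (a v : ℕ) : apC a v < 2 ^ 8 := by
  have c : ∀ k b, colIf a b k < 2 ^ 8 := fun k b => colIf_lt a k b
  exact Nat.xor_lt_two_pow
    (Nat.xor_lt_two_pow (Nat.xor_lt_two_pow (c _ _) (c _ _)) (Nat.xor_lt_two_pow (c _ _) (c _ _)))
    (Nat.xor_lt_two_pow (Nat.xor_lt_two_pow (c _ _) (c _ _)) (Nat.xor_lt_two_pow (c _ _) (c _ _)))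

theorem apC_bit (a v : ℕ) (i : Co) :
    bz (Nat.testBit (apC a v) (cpos i)) = (mat a).mulVec (vecB v) i := by
  have hi := cpos_lt i
  simp only [apC, show ∀ x y, Nat.xor x y = x ^^^ y from fun _ _ => rfl, Nat.testBit_xor, colIf_bit _ _ _ hi, bz_xor,
    bz_and]
  simp only [Matrix.mulVec, dotProduct, Fintype.sum_sum_type, Fin.sum_univ_four, mat, vecB, cpos, Fin.val_zero,
    Fin.val_one, Fin.val_two, show ((3 : Fin 4) : ℕ) = 3 from rfl]
  ring

theorem vecB_apC (a v : ℕ) : vecB (apC a v) = (mat a).mulVec (vecB v) := funext (apC_bit a v)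

theorem colP_bit (a b j k : ℕ) (hk : k < 8) :
    ∀ i, i < 8 → Nat.testBit (colP a b j) (8 * k + i) = (decide (j = k) && Nat.testBit (apC a (b >>> (8 * j))) i) := by
  intro i hi
  show Nat.testBit (apC a (b >>> (8 * j)) <<< (8 * j)) (8 * k + i) = _
  rw [Nat.testBit_shiftLeft]
  rcases lt_trichotomy j k with h | h | h
  · rw [Nat.testBit_eq_false_of_lt (lt_of_lt_of_le (apC_lt _ _) (Nat.pow_le_pow_right (by norm_num) (by omega)))]
    simp [h.ne]
  · subst h; simp
  · simp [h.ne', show ¬ 8 * j ≤ 8 * k + i by omega]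

theorem mat_mu (a b : ℕ) : mat (mu a b) = mat a * mat b := by
  ext i j
  have hj := cpos_lt j
  have e : Nat.testBit (mu a b) (8 * cpos j + cpos i) =
      Nat.testBit (apC a (b >>> (8 * cpos j))) (cpos i) := by
    simp only [mu, show ∀ x y, Nat.lor x y = x ||| y from fun _ _ => rfl, Nat.testBit_or,
      colP_bit a b _ _ hj _ (cpos_lt i)]
    generalize cpos j = k at hj ⊢
    interval_cases k <;> simp
  show bz _ = _
  rw [e, apC_bit, Matrix.mul_apply, Matrix.mulVec, dotProduct]
  exact Finset.sum_congr rfl fun l _ => by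
    show mat a i l * bz _ = mat a i l * bz _
    rw [Nat.testBit_shiftRight]

theorem colP_lt (a b : ℕ) {j : ℕ} (hj : j < 8) : colP a b j < 2 ^ 64 := by
  show apC a (b >>> (8 * j)) <<< (8 * j) < 2 ^ 64
  rw [Nat.shiftLeft_eq]
  calc _ < 2 ^ 8 * 2 ^ (8 * j) := Nat.mul_lt_mul_of_pos_right (apC_lt _ _) (by positivity)
    _ = 2 ^ (8 + 8 * j) := (pow_add 2 8 (8 * j)).symm
    _ ≤ 2 ^ 64 := Nat.pow_le_pow_right (by norm_num) (by omega)

theorem mu_lt (a b : ℕ) : mu a b < 2 ^ 64 :=
  Nat.or_lt_two_pow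
    (Nat.or_lt_two_pow (Nat.or_lt_two_pow (colP_lt a b (by norm_num)) (colP_lt a b (by norm_num)))
      (Nat.or_lt_two_pow (colP_lt a b (by norm_num)) (colP_lt a b (by norm_num))))
    (Nat.or_lt_two_pow (Nat.or_lt_two_pow (colP_lt a b (by norm_num)) (colP_lt a b (by norm_num)))
      (Nat.or_lt_two_pow (colP_lt a b (by norm_num)) (colP_lt a b (by norm_num))))

/-- the code of a matrix -/
noncomputable def code (M : Matrix Co Co (ZMod 2)) : ℕ :=
  Nat.ofBits fun k : Fin 64 => decide (M (Function.invFun cpos (k.val % 8)) (Function.invFun cpos (k.val / 8)) = 1)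

theorem code_lt (M : Matrix Co Co (ZMod 2)) : code M < 2 ^ 64 := Nat.ofBits_lt_two_pow _

theorem cpos_inj : Function.Injective cpos := by decide

theorem code_bit (M : Matrix Co Co (ZMod 2)) (i j : Co) :
    Nat.testBit (code M) (8 * cpos j + cpos i) = decide (M i j = 1) := by
  have := cpos_lt i; have := cpos_lt j
  rw [code, Nat.testBit_ofBits_lt _ _ (by omega)]
  simp only [show (8 * cpos j + cpos i) % 8 = cpos i by omega, show (8 * cpos j + cpos i) / 8 = cpos j by omega,
    Function.leftInverse_invFun cpos_inj _]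

theorem mat_code (M : Matrix Co Co (ZMod 2)) : mat (code M) = M := by
  ext i j
  show bz _ = _
  rw [code_bit]
  generalize M i j = z
  revert z
  decide

theorem mat_inj {a b : ℕ} (ha : a < 2 ^ 64) (hb : b < 2 ^ 64) (h : mat a = mat b) : a = b := by
  refine Nat.eq_of_testBit_eq fun k => ?_
  by_cases hk : k < 64
  · obtain ⟨i, hi⟩ := cpos_surj (k := k % 8) (Nat.mod_lt _ (by norm_num))
    obtain ⟨j, hj⟩ := cpos_surj (k := k / 8) (by omega)
    have := bz_inj (congrFun (congrFun h i) j)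
    rwa [hi, hj, Nat.div_add_mod] at this
  · rw [Nat.testBit_eq_false_of_lt (lt_of_lt_of_le ha (Nat.pow_le_pow_right (by norm_num) (by omega))),
      Nat.testBit_eq_false_of_lt (lt_of_lt_of_le hb (Nat.pow_le_pow_right (by norm_num) (by omega)))]

theorem code_mul (M N : Matrix Co Co (ZMod 2)) : code (M * N) = mu (code M) (code N) :=
  mat_inj (code_lt _) (mu_lt _ _) (by rw [mat_code, mat_mu, mat_code, mat_code])

theorem code_mat {a : ℕ} (ha : a < 2 ^ 64) : code (mat a) = a := mat_inj (code_lt _) ha (mat_code _)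

end Cfsg.Agent.Spor.OmegaEightCent
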