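import Cfsg.Agent.Lib.Spor.OmegaEightCent.Mat
import Cfsg.Agent.Lib.Spor.OmegaEightCent.CertData
import Cfsg.Agent.Lib.Spor.OmegaEightCent.Frame
import Cfsg.Agent.Lib.Spor.MclCent.Sound

/-!
The model: the centralizer of an involution inside the orthogonal group of plus type in dimension eight, with the
element which moves it.
-/

set_option autoImplicit false
set_option maxRecDepth 100000
set_option maxHeartbeats 1000000

namespace Cfsg.Agent.Spor.OmegaEightCent

open DCoset

/-- inverses of the generators -/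
def ginvL : List ℕ :=
  [0x8041201408040201, 0x8040302008040103, 0xc0802010040c0201, 0x408201048840201, 0x8040203008040301,
    0x80c020100c040201, 0x8448201008040201]

/-- the moving involution -/
def tauC : ℕ := 0x8020401008020401

theorem gen_checks : ∀ k : Fin 7, (genL.getD k 0 < 2 ^ 64) ∧
    mu (genL.getD k 0) (ginvL.getD k 0) = oCert.one ∧ mu (ginvL.getD k 0) (genL.getD k 0) = oCert.one := by
  decide +kernel

theorem tau_checks : tauC < 2 ^ 64 ∧ mu tauC tauC = oCert.one ∧ oCert.one < 2 ^ 64 ∧ oCert.gens.length = 7 := by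
  decide +kernel

theorem mat_one : mat oCert.one = 1 := by decide +kernel

theorem code_one : code (1 : Matrix Co Co (ZMod 2)) = oCert.one := by
  rw [← mat_one, code_mat tau_checks.2.2.1]

theorem mat_of_mu {a b : ℕ} (h : mu a b = oCert.one) : mat a * mat b = 1 := by rw [← mat_mu, h, mat_one]

/-- the ambient group -/
abbrev GLo : Type := GL Co (ZMod 2)

/-- the generators -/
def gU (k : Fin 7) : GLo :=
  ⟨mat (genL.getD k 0), mat (ginvL.getD k 0), mat_of_mu (gen_checks k).2.1, mat_of_mu (gen_checks k).2.2⟩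

/-- the moving involution -/
def tauU : GLo := ⟨mat tauC, mat tauC, mat_of_mu tau_checks.2.1, mat_of_mu tau_checks.2.1⟩

/-- the centralizer in the model -/
def AM : Subgroup GLo := Subgroup.closure (Set.range gU)

/-- the model -/
def KM : Subgroup GLo := Subgroup.closure (Set.range gU ∪ {tauU})

theorem AM_le : AM ≤ KM := Subgroup.closure_mono Set.subset_union_left

/-- generators as elements of the centralizer -/
def gA (k : ℕ) : ↥AM := if h : k < 7 then ⟨gU ⟨k, h⟩, Subgroup.subset_closure ⟨_, rfl⟩⟩ else 1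

/-- the representation by codes -/
noncomputable def RA : Rep ↥AM mu oCert where
  cd a := code ((a : GLo) : Matrix Co Co (ZMod 2))
  cd_mul a b := by
    show code ((((a * b : ↥AM) : GLo) : Matrix Co Co (ZMod 2))) = _
    rw [Subgroup.coe_mul, Units.val_mul, code_mul]
  cd_one := code_one
  cd_inj a b h := Subtype.ext (Units.ext (by
    have := congrArg mat h
    rwa [mat_code, mat_code] at this))
  gen := gA
  cd_gen k := by
    by_cases h : k < 7
    · rw [gA, dif_pos h]
      show code (mat (genL.getD k 0)) = oCert.gens.getD k oCert.one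
      rw [code_mat (gen_checks ⟨k, h⟩).1]
      show genL.getD k 0 = genL.getD k _
      rw [List.getD_eq_getElem _ _ (by exact h), List.getD_eq_getElem _ _ (by exact h)]
    · rw [gA, dif_neg h]
      show code 1 = oCert.gens.getD k oCert.one
      rw [List.getD_eq_default _ _ (by rw [tau_checks.2.2.2]; omega), code_one]
  gen_top := by
    refine eq_top_iff.2 fun a _ => ?_
    have key : ∀ x (hx : x ∈ AM),
        (⟨x, hx⟩ : ↥AM) ∈ Subgroup.closure (Set.range fun k : Fin oCert.gens.length => gA k) := by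
      intro x hx
      induction hx using Subgroup.closure_induction with
      | mem y hy =>
        obtain ⟨k, rfl⟩ := hy
        refine Subgroup.subset_closure ⟨⟨k.val, by rw [tau_checks.2.2.2]; exact k.2⟩, ?_⟩
        show gA k.val = _
        rw [gA, dif_pos k.2]
      | one => exact one_mem _
      | mul x y hx hy ih1 ih2 => exact mul_mem ih1 ih2
      | inv x hx ih => exact inv_mem ih
    exact key a.1 a.2

theorem wel_eq {v w : List ℕ} (h : oCert.ev mu v = oCert.ev mu w) : RA.wel v = RA.wel w :=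
  RA.eq_of_cd (by rw [RA.cd_wel, RA.cd_wel, h])

theorem wel_append (v w : List ℕ) : RA.wel (v ++ w) = RA.wel v * RA.wel w := by
  simp only [Rep.wel, List.foldl_append]
  generalize List.foldl (fun r k => r * RA.gen k) 1 v = p
  induction w using List.reverseRecOn with
  | nil => simp
  | append_singleton w a ih => rw [List.foldl_append, List.foldl_append]; simp [ih, mul_assoc]

/-- word of `t` -/
def tW : List ℕ := [0, 1, 0, 2, 0, 3, 0, 1, 0, 2, 0, 3, 0, 1, 0, 2, 0, 3]

/-- words of the eight involutions -/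
def xW (d : Fin 8) : List ℕ :=
  ([[0], [1, 0, 1, 1], [2, 0, 2, 2], [1, 2, 0, 1, 1, 2, 2], [3, 0, 3, 3], [1, 3, 0, 1, 1, 3, 3],
    [2, 3, 0, 2, 2, 3, 3], [1, 2, 3, 0, 1, 1, 2, 2, 3, 3]] : List (List ℕ)).getD d []

/-- the checks of the relations of the centralizer -/
theorem frame_checks :
    oCert.ev mu (tW ++ tW) = oCert.ev mu [] ∧
    (∀ d, oCert.ev mu (xW d ++ xW d) = oCert.ev mu []) ∧
    (∀ d, oCert.ev mu (tW ++ xW d) = oCert.ev mu (xW d ++ tW)) ∧
    (∀ i : Fin 3, oCert.ev mu (tW ++ [i.val + 1]) = oCert.ev mu ([i.val + 1] ++ tW) ∧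
      oCert.ev mu (tW ++ [i.val + 4]) = oCert.ev mu ([i.val + 4] ++ tW) ∧
      oCert.ev mu ([i.val + 1] ++ [i.val + 1] ++ [i.val + 1]) = oCert.ev mu [] ∧
      oCert.ev mu ([i.val + 4] ++ [i.val + 4]) = oCert.ev mu []) ∧
    (∀ a b, oCert.ev mu (xW a ++ xW b) =
      oCert.ev mu (if pairV a b = 0 then xW b ++ xW a else xW b ++ tW ++ xW a)) ∧
    (∀ i j : Fin 3, oCert.ev mu ([i.val + 1] ++ [j.val + 1]) = oCert.ev mu ([j.val + 1] ++ [i.val + 1]) ∧
      oCert.ev mu ([i.val + 4] ++ [j.val + 4]) = oCert.ev mu ([j.val + 4] ++ [i.val + 4]) ∧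
      oCert.ev mu ([i.val + 4] ++ [j.val + 1]) =
        oCert.ev mu (if i = j then [j.val + 1] ++ [j.val + 1] ++ [i.val + 4] else [j.val + 1] ++ [i.val + 4])) ∧
    (∀ (i : Fin 3) d, oCert.ev mu ([i.val + 1] ++ xW d) = oCert.ev mu
        (if hasBit d i then xW (d ^^^ bit8 i) ++ xW d ++ [i.val + 1] else xW (d ^^^ bit8 i) ++ [i.val + 1]) ∧
      oCert.ev mu ([i.val + 4] ++ xW d) = oCert.ev mu
        (if hasBit d i then xW (d ^^^ bit8 i) ++ xW d ++ [i.val + 4] else xW d ++ [i.val + 4])) ∧
    oCert.ev mu tW ≠ oCert.ev mu [] := by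
  decide +kernel

/-- the frame of the model -/
noncomputable def MF : Frame ↥AM where
  t := RA.wel tW
  x d := RA.wel (xW d)
  ρ i := RA.wel [i.val + 1]
  n i := RA.wel [i.val + 4]
  t_sq := by rw [← wel_append, wel_eq frame_checks.1]; rfl
  x_sq d := by rw [← wel_append, wel_eq (frame_checks.2.1 d)]; rfl
  t_x d := by
    show _ * _ = _ * _
    rw [← wel_append, ← wel_append, wel_eq (frame_checks.2.2.1 d)]
  t_ρ i := by
    show _ * _ = _ * _
    rw [← wel_append, ← wel_append, wel_eq (frame_checks.2.2.2.1 i).1]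
  t_n i := by
    show _ * _ = _ * _
    rw [← wel_append, ← wel_append, wel_eq (frame_checks.2.2.2.1 i).2.1]
  x_conj a b := by
    rw [mul_inv_eq_iff_eq_mul, ← wel_append, wel_eq (frame_checks.2.2.2.2.1 a b)]
    split_ifs <;> simp only [wel_append]
  ρ_cube i := by
    rw [pow_three, ← mul_assoc, ← wel_append, ← wel_append, wel_eq (frame_checks.2.2.2.1 i).2.2.1]; rfl
  ρ_comm i j := by
    show _ * _ = _ * _
    rw [← wel_append, ← wel_append, wel_eq (frame_checks.2.2.2.2.2.1 i j).1]
  ρ_x i d := by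
    rw [mul_inv_eq_iff_eq_mul, ← wel_append, wel_eq (frame_checks.2.2.2.2.2.2.1 i d).1]
    split_ifs <;> simp only [wel_append]
  n_sq i := by rw [← wel_append, wel_eq (frame_checks.2.2.2.1 i).2.2.2]; rfl
  n_comm i j := by
    show _ * _ = _ * _
    rw [← wel_append, ← wel_append, wel_eq (frame_checks.2.2.2.2.2.1 i j).2.1]
  n_ρ i j := by
    rw [mul_inv_eq_iff_eq_mul, ← wel_append, wel_eq (frame_checks.2.2.2.2.2.1 i j).2.2]
    split_ifs <;> simp only [wel_append]
  n_x i d := by
    rw [mul_inv_eq_iff_eq_mul, ← wel_append, wel_eq (frame_checks.2.2.2.2.2.2.1 i d).2]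
    split_ifs <;> simp only [wel_append]

theorem MF_t_ne : MF.t ≠ 1 := fun h => frame_checks.2.2.2.2.2.2.2 (by
  have := congrArg RA.cd h
  show oCert.ev mu tW = oCert.one
  rwa [show RA.cd MF.t = oCert.ev mu tW from RA.cd_wel _, RA.cd_one] at this)

/-- conjugation by the moving involution is as recorded -/
theorem twist_checks : ∀ w ∈ oCert.cg,
    mu (oCert.ev mu w.1) tauC = mu tauC (oCert.ev mu w.2) := by decide +kernel

theorem rel_checks : ∀ zs ∈ oCert.rels,
    (zs.foldr (fun z r => mu (mu (oCert.ev mu z.1) tauC) r) oCert.one) = oCert.one := by decide +kernel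

theorem wel_code (w : List ℕ) :
    code ((RA.wel w : GLo) : Matrix Co Co (ZMod 2)) = oCert.ev mu w := RA.cd_wel w

theorem code_tau : code ((tauU : GLo) : Matrix Co Co (ZMod 2)) = tauC := code_mat tau_checks.1

theorem code_inj {a b : GLo} (h : code (a : Matrix Co Co (ZMod 2)) = code (b : Matrix Co Co (ZMod 2))) : a = b :=
  Units.ext (by rw [← mat_code (a : Matrix Co Co (ZMod 2)), h, mat_code])

/-- the relations hold in the model -/
noncomputable def sysK : Sys RA ↥KM where
  φ := Subgroup.inclusion AM_le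
  σ := ⟨tauU, Subgroup.subset_closure (Or.inr rfl)⟩
  sq := Subtype.ext (Units.ext (mat_of_mu tau_checks.2.1))
  twist w hw := Subtype.ext (code_inj (by
    show code (((RA.wel w.1 : GLo) * tauU : GLo) : Matrix Co Co (ZMod 2)) =
      code ((tauU * (RA.wel w.2 : GLo) : GLo) : Matrix Co Co (ZMod 2))
    rw [Units.val_mul, Units.val_mul, code_mul, code_mul, wel_code, wel_code, code_tau]
    exact twist_checks w hw))
  rel zs hzs := Subtype.ext (code_inj (by
    rw [show code (((1 : ↥KM) : GLo) : Matrix Co Co (ZMod 2)) = oCert.one from code_one, ← rel_checks zs hzs]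
    clear hzs
    induction zs with
    | nil => exact code_one
    | cons z zs ih =>
      rw [List.map_cons, List.prod_cons, List.foldr_cons, Subgroup.coe_mul, Units.val_mul, code_mul, ih,
        Subgroup.coe_mul, Units.val_mul, code_mul, code_tau]
      rw [show code (((Subgroup.inclusion AM_le (RA.wel z.1) : ↥KM) : GLo) : Matrix Co Co (ZMod 2)) =
        oCert.ev mu z.1 from wel_code _]))

end Cfsg.Agent.Spor.OmegaEightCent
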