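import Cfsg.Agent.Lib.Spor.OmegaEightCent.OrbitChecks
import Cfsg.Agent.Lib.Spor.OmegaEightCent.CertChecks
import Cfsg.Agent.Lib.Classical.OrthPSimple
import Cfsg.Agent.Lib.Classical.OrthOrders

/-!
The model is the simple orthogonal group of plus type in dimension eight over two elements.
-/

set_option autoImplicit false
set_option maxRecDepth 100000
set_option maxHeartbeats 1000000
set_option linter.style.haveILetI false

namespace Cfsg.Agent.Spor.OmegaEightCent

open DCoset

theorem MF_top : MF.sub 15 = ⊤ := by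
  rw [eq_top_iff, ← RA.gen_top, Subgroup.closure_le]
  rintro _ ⟨⟨k, hk⟩, rfl⟩
  have h7 : k < 7 := by simpa [tau_checks.2.2.2] using hk
  have hw : RA.gen k = RA.wel [k] := by simp [Rep.wel]
  show RA.gen k ∈ MF.sub 15
  rw [hw]
  interval_cases k
  · exact MF.x_mem 0 (by decide)
  · exact MF.ρ_mem 0 (by decide)
  · exact MF.ρ_mem 1 (by decide)
  · exact MF.ρ_mem 2 (by decide)
  · exact MF.n_mem 0 (by decide)
  · exact MF.n_mem 1 (by decide)
  · exact MF.n_mem 2 (by decide)

/-- the central involution of the centralizer, in the model -/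
noncomputable def tK : ↥KM := Subgroup.inclusion AM_le MF.t

theorem gen_all (k : ℕ) (hk : k < 8) :
    ∃ g : ↥KM, code (((g : ↥KM) : GLo) : Matrix Co Co (ZMod 2)) = allG.getD k 0 := by
  by_cases h : k < 7
  · refine ⟨⟨gU ⟨k, h⟩, AM_le (Subgroup.subset_closure ⟨_, rfl⟩)⟩, ?_⟩
    show code (mat _) = _
    rw [code_mat (gen_checks ⟨k, h⟩).1, allG, List.getD_append _ _ _ _ (by exact h)]
  · obtain rfl : k = 7 := by omega
    exact ⟨⟨tauU, Subgroup.subset_closure (Or.inr rfl)⟩, code_tau⟩

theorem orbit_count : 1575 ≤ (Subgroup.centralizer ({tK} : Set ↥KM)).index := by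
  classical
  have hs : ∀ k < orbL.length, orbStep k (orbL.getD k (0, 0, 0)) = true := fun k hk => by
    simpa using scan_spec orb_scan k hk
  have key : ∀ k < orbL.length, ∃ g : ↥KM,
      code (((g * tK * g⁻¹ : ↥KM) : GLo) : Matrix Co Co (ZMod 2)) = (orbL.getD k (0, 0, 0)).2.2 := by
    intro k
    induction k using Nat.strong_induction_on with
    | _ k ih =>
      intro hk
      have e := hs k hk
      simp only [orbStep, Bool.and_eq_true, Nat.blt_eq] at e
      obtain ⟨⟨⟨-, -⟩, hlt⟩, e⟩ := e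
      rcases Nat.eq_zero_or_pos k with rfl | hk0
      · simp only [Nat.beq_refl, cond_true, Nat.beq_eq] at e
        refine ⟨1, ?_⟩
        rw [one_mul, inv_one, mul_one, e]
        exact RA.cd_wel tW
      · rw [show Nat.beq k 0 = false from Bool.eq_false_iff.2 fun e => hk0.ne' (Nat.eq_of_beq_eq_true e)] at e
        simp only [cond_false, Bool.and_eq_true, Nat.blt_eq, Nat.beq_eq] at e
        obtain ⟨⟨h1, h2⟩, h3⟩ := e
        obtain ⟨g, hg⟩ := ih _ h1 (h1.trans hk)
        have e1 := hs _ (h1.trans hk)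
        simp only [orbStep, Bool.and_eq_true] at e1
        rw [tBeq_eq e1.1.1.1] at h3
        obtain ⟨c, hc⟩ := gen_all _ h2
        refine ⟨c * g, ?_⟩
        set w := (orbL.getD k (0, 0, 0)).2.2
        rw [show c * g * tK * (c * g)⁻¹ = c * (g * tK * g⁻¹) * c⁻¹ by group]
        set P := g * tK * g⁻¹
        have hmat : mat w * ((c : GLo) : Matrix Co Co (ZMod 2)) =
            ((c : GLo) : Matrix Co Co (ZMod 2)) * ((P : GLo) : Matrix Co Co (ZMod 2)) := by
          rw [← mat_code ((c : GLo) : Matrix Co Co (ZMod 2)), ← mat_code ((P : GLo) : Matrix Co Co (ZMod 2)), hc, hg,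
            ← mat_mu, ← mat_mu, h3]
        have : (((c * P * c⁻¹ : ↥KM) : GLo) : Matrix Co Co (ZMod 2)) = mat w := by
          rw [Subgroup.coe_mul, Subgroup.coe_mul, Subgroup.coe_inv, Units.val_mul, Units.val_mul, ← hmat,
            mul_assoc, ← Units.val_mul, mul_inv_cancel, Units.val_one, mul_one]
        rw [this, code_mat hlt]
  choose g hg using key
  rw [Subgroup.index_eq_card]
  let f : Fin orbL.length → ↥KM ⧸ Subgroup.centralizer ({tK} : Set ↥KM) := fun k => QuotientGroup.mk (g k k.2)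
  have hf : Function.Injective f := fun a b e => by
    rw [QuotientGroup.eq, Subgroup.mem_centralizer_singleton_iff] at e
    have e' : g a a.2 * tK * (g a a.2)⁻¹ = g b b.2 * tK * (g b b.2)⁻¹ := by
      calc g a a.2 * tK * (g a a.2)⁻¹ = g a a.2 * (tK * ((g a a.2)⁻¹ * g b b.2)) * (g b b.2)⁻¹ := by group
        _ = g a a.2 * ((g a a.2)⁻¹ * g b b.2 * tK) * (g b b.2)⁻¹ := by rw [← e]
        _ = _ := by group
    have hv : (orbL.getD a (0, 0, 0)).2.2 = (orbL.getD b (0, 0, 0)).2.2 := by rw [← hg a a.2, ← hg b b.2, e']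
    have ha := hs a a.2
    have hb := hs b b.2
    simp only [orbStep, Bool.and_eq_true, Nat.beq_eq] at ha hb
    exact Fin.ext (ha.1.1.2.symm.trans ((congrArg orbV.get hv).trans hb.1.1.2))
  simpa [orb_len] using Nat.card_le_card_of_injective f hf

theorem Frame.commute_gen {Γ : Type*} [Group Γ] (F : Frame Γ) {z : Γ} (hz : z ∈ F.sub 15) : Commute z F.t := by
  induction hz using Subgroup.closure_induction with
  | mem y hy =>
    obtain ⟨j, -, rfl⟩ := hy
    rw [Frame.gen]
    split_ifs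
    exacts [Commute.refl _, (F.t_x _).symm, (F.t_ρ _).symm, (F.t_n _).symm, Commute.one_left _]
  | one => exact Commute.one_left _
  | mul x y _ _ hx hy => exact hx.mul_left hy
  | inv x _ hx => exact hx.inv_left

theorem AM_centralizes : (Subgroup.inclusion AM_le).range ≤ Subgroup.centralizer ({tK} : Set ↥KM) := by
  rintro _ ⟨a, rfl⟩
  exact Subgroup.mem_centralizer_singleton_iff.2
    ((MF.commute_gen (MF_top ▸ Subgroup.mem_top a)).map (Subgroup.inclusion AM_le)).eq

theorem KM_eq : Subgroup.closure (Set.range sysK.φ ∪ {sysK.σ}) = ⊤ := by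
  refine eq_top_iff.2 fun ⟨x, hx⟩ h => ?_
  clear h
  induction hx using Subgroup.closure_induction with
  | mem y hy =>
    refine Subgroup.subset_closure ?_
    rcases hy with ⟨k, rfl⟩ | hy
    · exact Or.inl ⟨⟨gU k, Subgroup.subset_closure ⟨k, rfl⟩⟩, rfl⟩
    · obtain rfl := Set.mem_singleton_iff.1 hy
      exact Or.inr rfl
  | one => exact one_mem _
  | mul a b ha hb iha ihb => exact mul_mem iha ihb
  | inv a ha iha => exact inv_mem iha

theorem card_KM (hA : Nat.card ↥AM = 110592) : Nat.card ↥KM = 174182400 := by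
  refine le_antisymm ?_ ?_
  · have h := card_le sysK cert_ok hA pts_nodup
    rw [KM_eq, Subgroup.card_top, show oCert.total = 1575 from beq_iff_eq.1 cert_total] at h
    exact h.trans_eq (by norm_num)
  · have h := (Subgroup.centralizer ({tK} : Set ↥KM)).card_mul_index
    have h1 : 110592 ≤ Nat.card ↥(Subgroup.centralizer ({tK} : Set ↥KM)) := by
      rw [← hA]
      refine le_trans (le_of_eq ?_) (Subgroup.card_le_of_le AM_centralizes)
      exact (Nat.card_congr (MonoidHom.ofInjective (Subgroup.inclusion_injective AM_le)).toEquiv)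
    rw [← h]
    calc 174182400 = 110592 * 1575 := by norm_num
      _ ≤ _ := Nat.mul_le_mul h1 orbit_count

/-- the quadratic form on a byte -/
def qB (v : ℕ) : Bool :=
  xor (xor (Nat.testBit v 0 && Nat.testBit v 4) (Nat.testBit v 1 && Nat.testBit v 5))
    (xor (Nat.testBit v 2 && Nat.testBit v 6) (Nat.testBit v 3 && Nat.testBit v 7))

theorem q_vec (v : ℕ) : Cfsg.quadFormPlus 4 (ZMod 2) (vecB v) = bz (qB v) := by
  simp only [Cfsg.quadFormPlus, Fin.sum_univ_four, vecB, cpos, qB, bz_xor, bz_and, Fin.val_zero, Fin.val_one,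
    Fin.val_two, show ((3 : Fin 4) : ℕ) = 3 from rfl]
  ring

theorem vecB_surj (u : Co → ZMod 2) : ∃ v < 256, vecB v = u := by
  refine ⟨Nat.ofBits fun k : Fin 8 => decide (u (Function.invFun cpos k.val) = 1), Nat.ofBits_lt_two_pow _, ?_⟩
  funext i
  show bz _ = _
  rw [Nat.testBit_ofBits_lt _ _ (cpos_lt i)]
  simp only [Function.leftInverse_invFun cpos_inj i]
  generalize u i = z
  revert z
  decide

theorem iso_checks :
    ((allG.all fun g => (List.range 256).all fun v => qB (apC g v) == qB v)) = true := by decide +kernel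

theorem KM_le : KM ≤ Cfsg.isometryGroup (ZMod 2) (Cfsg.quadFormPlus 4 (ZMod 2)) := by
  have h : ∀ (c : GLo) (w : ℕ), (c : Matrix Co Co (ZMod 2)) = mat w → w ∈ allG →
      c ∈ Cfsg.isometryGroup (ZMod 2) (Cfsg.quadFormPlus 4 (ZMod 2)) := by
    intro c w hcw hw u _
    obtain ⟨v, hv, rfl⟩ := vecB_surj u
    show Cfsg.quadFormPlus 4 (ZMod 2) ((c : Matrix Co Co (ZMod 2)).mulVec (vecB v)) =
      Cfsg.quadFormPlus 4 (ZMod 2) (vecB v)
    rw [hcw, ← vecB_apC, q_vec, q_vec]
    have := iso_checks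
    simp only [List.all_eq_true, List.mem_range, beq_iff_eq] at this
    rw [this w hw v hv]
  rw [KM, Subgroup.closure_le]
  rintro _ (⟨k, rfl⟩ | hy)
  · refine h _ (genL.getD k 0) rfl (List.mem_append_left _ ?_)
    rw [List.getD_eq_getElem _ _ (by exact k.2)]
    exact List.getElem_mem _
  · obtain rfl := Set.mem_singleton_iff.1 hy
    exact h _ tauC rfl (List.mem_append_right _ (List.mem_singleton.2 rfl))

/-- **The model is the orthogonal group**, and it is simple. -/
theorem model_iso (hA : Nat.card ↥AM = 110592) :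
    IsSimpleGroup ↥KM ∧ Nonempty (↥KM ≃* Cfsg.Omega (ZMod 2) (Cfsg.quadFormPlus 4 (ZMod 2))) := by
  set O := Cfsg.isometryGroup (ZMod 2) (Cfsg.quadFormPlus 4 (ZMod 2)) with hO
  have hOc : Nat.card ↥O = 348364800 := by
    rw [hO, Classical.OCount.card_plus 4]
    decide +kernel
  set K' := KM.subgroupOf O
  have hK : Nat.card ↥K' = 174182400 := by
    rw [Nat.card_congr (Subgroup.subgroupOfEquivOfLe KM_le).toEquiv, card_KM hA]
  haveI : Finite ↥O := Nat.finite_of_card_ne_zero (by rw [hOc]; norm_num)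
  have hidx : K'.index = 2 := by
    have h := K'.card_mul_index
    rw [hK, hOc] at h
    omega
  haveI := Subgroup.normal_of_index_eq_two hidx
  have hle : Cfsg.Omega (ZMod 2) (Cfsg.quadFormPlus 4 (ZMod 2)) ≤ K' := by
    refine Subgroup.Normal.quotient_commutative_iff_commutator_le.1 ⟨?_⟩
    haveI : Fact (Nat.Prime 2) := ⟨Nat.prime_two⟩
    haveI : IsCyclic (↥O ⧸ K') := isCyclic_of_prime_card (p := 2) (by rw [← Subgroup.index_eq_card, hidx])
    exact ⟨fun a b => IsCyclic.commGroup.mul_comm a b⟩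
  have hΩ : (Cfsg.Omega (ZMod 2) (Cfsg.quadFormPlus 4 (ZMod 2))).index = 2 := by
    rw [← Cfsg.Agent.Classical.OOmega.coe_plus 4]
    exact Cfsg.Agent.Classical.OOmega.index_omega_two (Cfsg.Agent.Classical.OOmega.formOf_pnd
      Cfsg.Agent.Classical.OOmega.pnd_empty) (by simp) (Or.inr (by simp))
  have hΩc : Nat.card ↥(Cfsg.Omega (ZMod 2) (Cfsg.quadFormPlus 4 (ZMod 2))) = 174182400 := by
    have h := (Cfsg.Omega (ZMod 2) (Cfsg.quadFormPlus 4 (ZMod 2))).card_mul_index
    change Nat.card _ * _ = Nat.card ↥O at h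
    rw [hΩ, hOc] at h
    omega
  have heq : Cfsg.Omega (ZMod 2) (Cfsg.quadFormPlus 4 (ZMod 2)) = K' :=
    Subgroup.eq_of_le_of_card_ge hle (by rw [hK, hΩc])
  have e : ↥KM ≃* ↥(Cfsg.Omega (ZMod 2) (Cfsg.quadFormPlus 4 (ZMod 2))) :=
    (Subgroup.subgroupOfEquivOfLe KM_le).symm.trans (MulEquiv.subgroupCongr heq.symm)
  refine ⟨?_, ⟨e⟩⟩
  have hP : Nat.card (Cfsg.POmega (ZMod 2) (Cfsg.quadFormPlus 4 (ZMod 2))) = 174182400 := by
    have h := Cfsg.Agent.Classical.OOmega.card_POmega_plus (F := ZMod 2) (m := 4) (by norm_num)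
    norm_num [Finset.prod_range_succ, ZMod.card] at h
    exact h
  haveI : IsSimpleGroup (Cfsg.POmega (ZMod 2) (Cfsg.quadFormPlus 4 (ZMod 2))) := by
    rw [← Cfsg.Agent.Classical.OOmega.coe_plus 4]
    exact Cfsg.Agent.Classical.OOmega.simple_standard Cfsg.Agent.Classical.OOmega.pnd_empty (by norm_num)
  haveI : Finite ↥(Cfsg.Omega (ZMod 2) (Cfsg.quadFormPlus 4 (ZMod 2))) :=
    Nat.finite_of_card_ne_zero (by rw [hΩc]; norm_num)
  set Z := Subgroup.center ↥(Cfsg.Omega (ZMod 2) (Cfsg.quadFormPlus 4 (ZMod 2)))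
  have hbij : Function.Bijective (QuotientGroup.mk' Z) :=
    (Nat.bijective_iff_surjective_and_card _).2 ⟨QuotientGroup.mk'_surjective Z, by rw [hΩc]; exact hP.symm⟩
  exact (e.trans (MulEquiv.ofBijective _ hbij)).isSimpleGroup

end Cfsg.Agent.Spor.OmegaEightCent
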