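import Cfsg.Agent.Lib.Spor.OmegaEightCent.Model
import Cfsg.Agent.Lib.Spor.OmegaEightCent.OrbitData

/-! The check of the orbit of the central involution in the model. -/

set_option autoImplicit false
set_option maxRecDepth 100000
set_option maxHeartbeats 0

namespace Cfsg.Agent.Spor.OmegaEightCent

open DCoset

/-- the eight generators of the model -/
def allG : List ℕ := genL ++ [tauC]

/-- one entry -/
def orbStep (k : ℕ) (e : ℕ × ℕ × ℕ) : Bool :=
  tBeq (orbI.get k) e && Nat.beq (orbV.get e.2.2) k && Nat.blt e.2.2 (2 ^ 64) &&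
    bif Nat.beq k 0 then Nat.beq e.2.2 (oCert.ev mu tW)
    else Nat.blt e.1 k && Nat.blt e.2.1 8 &&
      Nat.beq (mu (allG.getD e.2.1 0) (orbI.get e.1).2.2) (mu e.2.2 (allG.getD e.2.1 0))

theorem orb_scan : scan orbStep orbL 0 = true := by decide +kernel

theorem orb_len : orbL.length = 1575 := by decide +kernel

end Cfsg.Agent.Spor.OmegaEightCent
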