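import Cfsg.Agent.Lib.Spor.OmegaEightCent.Weak

/-!
A second conjugate in the extraspecial group: the two extraspecial groups meet in an elementary abelian group of
order 32, and the centralizer of each involution in the group of the other covers a Sylow two-subgroup of the
product of three symmetric groups.
-/

set_option autoImplicit false
set_option linter.style.haveILetI false
set_option linter.unusedSectionVars false

namespace Cfsg.Agent.Spor.OmegaEightCent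

universe u

variable {G : Type u} [Group G]

/-- A conjugate of `t` in `Q`, other than `t`. -/
structure InQ (H : Hyp G) (g : G) : Prop where
  mem : g * H.t * g⁻¹ ∈ H.Q
  ne : g * H.t * g⁻¹ ≠ H.t

variable (H : Hyp G) (g : G)

/-- the other extraspecial group -/
def Hyp.Qg : Subgroup G := H.Q.map (MulAut.conj g).toMonoidHom

/-- the intersection -/
def Hyp.Dg : Subgroup G := H.Q ⊓ H.Qg g

variable {H} {g}

theorem mem_Qg {a : G} : a ∈ H.Qg g ↔ g⁻¹ * a * g ∈ H.Q := by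
  rw [Hyp.Qg, Subgroup.mem_map]
  constructor
  · rintro ⟨b, hb, rfl⟩
    show g⁻¹ * (g * b * g⁻¹) * g ∈ H.Q
    rwa [show g⁻¹ * (g * b * g⁻¹) * g = b by group]
  · intro h
    exact ⟨_, h, by show g * (g⁻¹ * a * g) * g⁻¹ = a; group⟩

variable [Finite G]

theorem InQ.sq (P : InQ H g) : g * H.t * g⁻¹ * (g * H.t * g⁻¹) = 1 := by
  have := H.t_sq
  calc g * H.t * g⁻¹ * (g * H.t * g⁻¹) = g * (H.t * H.t) * g⁻¹ := by group
    _ = 1 := by rw [H.t_sq]; group

/-- the centralizer of the conjugate in `Q` -/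
def InQ.cent (_P : InQ H g) : Subgroup G := H.Q ⊓ Subgroup.centralizer ({g * H.t * g⁻¹} : Set G)

theorem InQ.mem_cent (P : InQ H g) {a : G} : a ∈ P.cent ↔ a ∈ H.Q ∧ Commute a (g * H.t * g⁻¹) := by
  rw [InQ.cent, Subgroup.mem_inf, Subgroup.mem_centralizer_singleton_iff]
  rfl

theorem InQ.cent_card (P : InQ H g) : Nat.card P.cent = 256 := by
  set x : ↥H.Q := ⟨g * H.t * g⁻¹, P.mem⟩ with hx
  have h := Solv.ExtTwo.card_centralizer H.ext (x := x)
    (fun h => P.ne (by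
      have h' : g * H.t * g⁻¹ = 1 := congrArg Subtype.val h
      exact absurd (conj_eq_one_iff.1 h') H.t_ne))
    (fun h => P.ne (congrArg Subtype.val h))
  have h2 := (Subgroup.centralizer ({x} : Set ↥H.Q)).card_mul_index
  rw [h, H.Q_card] at h2
  have e : P.cent = (Subgroup.centralizer ({x} : Set ↥H.Q)).map H.Q.subtype := by
    ext a
    rw [P.mem_cent, Subgroup.mem_map]
    constructor
    · rintro ⟨ha, hc⟩
      exact ⟨⟨a, ha⟩, Subgroup.mem_centralizer_singleton_iff.2 (Subtype.ext hc.eq), rfl⟩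
    · rintro ⟨b, hb, rfl⟩
      exact ⟨b.2, congrArg Subtype.val (Subgroup.mem_centralizer_singleton_iff.1 hb)⟩
  rw [e, Subgroup.card_map_of_injective H.Q.subtype_injective]
  omega

theorem InQ.cent_mem_C (P : InQ H g) {a : G} (ha : a ∈ P.cent) : g⁻¹ * a * g ∈ H.C := by
  rw [H.mem_C]
  have h := (Commute.conj_iff g⁻¹).2 (P.mem_cent.1 ha).2
  rwa [inv_inv, show g⁻¹ * (g * H.t * g⁻¹) * g = H.t by group] at h

/-- the image of the centralizer, moved back -/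
def InQ.ψ (P : InQ H g) : ↥P.cent →* S3c where
  toFun a := H.π ⟨g⁻¹ * a * g, P.cent_mem_C a.2⟩
  map_one' := by
    convert map_one H.π using 2
    exact Subtype.ext (by simp)
  map_mul' a b := by
    rw [← map_mul]
    exact congrArg H.π (Subtype.ext (by simp [mul_assoc]))

theorem InQ.ψ_eq_one (P : InQ H g) {a : ↥P.cent} : P.ψ a = 1 ↔ (a : G) ∈ H.Qg g :=
  (H.π_ker _).trans mem_Qg.symm

theorem InQ.ψ_sq (P : InQ H g) (a : ↥P.cent) : P.ψ a * P.ψ a = 1 := by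
  refine sq_one_of_pow_four ?_
  rw [← map_pow]
  have h4 : a ^ 4 = 1 := by
    refine Subtype.ext ?_
    rw [SubmonoidClass.coe_pow, OneMemClass.coe_one, pow_succ, pow_succ, pow_two, mul_assoc]
    rcases H.sq_mem (P.mem_cent.1 a.2).1 with h | h <;> rw [h]
    · rw [one_mul]
    · rw [H.t_sq]
  rw [h4, map_one]

theorem InQ.ψ_comm (P : InQ H g) (a b : ↥P.cent) : P.ψ a * P.ψ b = P.ψ b * P.ψ a := by
  have h := P.ψ_sq (a * b)
  rw [map_mul] at h
  calc P.ψ a * P.ψ b = (P.ψ a * P.ψ b)⁻¹ := eq_inv_of_mul_eq_one_left h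
    _ = (P.ψ b)⁻¹ * (P.ψ a)⁻¹ := mul_inv_rev _ _
    _ = _ := by rw [inv_eq_of_mul_eq_one_right (P.ψ_sq a), inv_eq_of_mul_eq_one_right (P.ψ_sq b)]

/-- the involution `t` lies in the other extraspecial group -/
theorem InQ.t_mem (P : InQ H g) : H.t ∈ H.Qg g := by
  by_contra hno
  have hc : ∀ a ∈ P.cent, ∀ b ∈ P.cent, Commute a b := by
    intro a ha b hb
    rcases H.comm_mem (P.mem_cent.1 ha).1 (P.mem_cent.1 hb).1 with h | h
    · exact h.symm
    · refine absurd (P.ψ_eq_one (a := ⟨H.t, P.mem_cent.2 ⟨H.t_mem, (H.commute_t P.mem).symm⟩⟩) |>.1 ?_) hno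
      have e : (⟨b, hb⟩ : ↥P.cent) * ⟨a, ha⟩ =
          ⟨a, ha⟩ * ⟨b, hb⟩ * ⟨H.t, P.mem_cent.2 ⟨H.t_mem, (H.commute_t P.mem).symm⟩⟩ := Subtype.ext h
      have e' := congrArg P.ψ e
      rw [map_mul, map_mul, map_mul, P.ψ_comm ⟨a, ha⟩ ⟨b, hb⟩] at e'
      exact left_eq_mul.1 e'
  have := Nat.le_of_dvd (by norm_num) (abelian_card (B := P.cent) inf_le_left hc)
  rw [P.cent_card] at this
  omega

theorem InQ.inv (P : InQ H g) : InQ H g⁻¹ := by
  refine ⟨?_, fun h => P.ne ?_⟩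
  · rw [inv_inv]; exact mem_Qg.1 P.t_mem
  · rw [inv_inv] at h
    nth_rewrite 1 [← h]
    group

theorem InQ.t_mem_Dg (P : InQ H g) : H.t ∈ H.Dg g := ⟨H.t_mem, P.t_mem⟩

theorem InQ.x_mem_Dg (P : InQ H g) : g * H.t * g⁻¹ ∈ H.Dg g :=
  ⟨P.mem, mem_Qg.2 (by rw [show g⁻¹ * (g * H.t * g⁻¹) * g = H.t by group]; exact H.t_mem)⟩

theorem InQ.Dg_le (P : InQ H g) : H.Dg g ≤ P.cent := fun a ha => by
  refine P.mem_cent.2 ⟨ha.1, ?_⟩
  have h := (Commute.conj_iff g).2 (H.commute_t (mem_Qg.1 ha.2))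
  rwa [show g * (g⁻¹ * a * g) * g⁻¹ = a by group] at h

/-- The intersection is elementary abelian. -/
theorem InQ.Dg_elementary (P : InQ H g) :
    (∀ a ∈ H.Dg g, a * a = 1) ∧ ∀ a ∈ H.Dg g, ∀ b ∈ H.Dg g, Commute a b := by
  have key : ∀ {a b : G}, g⁻¹ * a * g = g⁻¹ * b * g → a = b := fun h => mul_left_cancel (mul_right_cancel h)
  refine ⟨fun a ha => ?_, fun a ha b hb => ?_⟩
  · rcases H.sq_mem ha.1 with h | h
    · exact h
    · rcases H.sq_mem (mem_Qg.1 ha.2) with h' | h'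
      · refine key ?_
        rw [show g⁻¹ * (a * a) * g = g⁻¹ * a * g * (g⁻¹ * a * g) by group, h']
        group
      · refine absurd ?_ P.ne
        calc g * H.t * g⁻¹ = g * (g⁻¹ * a * g * (g⁻¹ * a * g)) * g⁻¹ := by rw [h']
          _ = a * a := by group
          _ = H.t := h
  · rcases H.comm_mem ha.1 hb.1 with h | h
    · exact h.symm
    · rcases H.comm_mem (mem_Qg.1 ha.2) (mem_Qg.1 hb.2) with h' | h'
      · refine key ?_
        rw [show g⁻¹ * (a * b) * g = g⁻¹ * a * g * (g⁻¹ * b * g) by group, ← h']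
        group
      · refine absurd ?_ P.ne
        have e1 : b * a = a * b * (g * H.t * g⁻¹) := by
          calc b * a = g * (g⁻¹ * b * g * (g⁻¹ * a * g)) * g⁻¹ := by group
            _ = g * (g⁻¹ * a * g * (g⁻¹ * b * g) * H.t) * g⁻¹ := by rw [h']
            _ = _ := by group
        exact mul_left_cancel (e1.symm.trans h)

theorem InQ.ψ_ker (P : InQ H g) : P.ψ.ker = (H.Dg g).subgroupOf P.cent := by
  ext a
  rw [MonoidHom.mem_ker, P.ψ_eq_one, Subgroup.mem_subgroupOf]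
  exact ⟨fun h => ⟨(P.mem_cent.1 a.2).1, h⟩, fun h => h.2⟩

theorem InQ.counts (P : InQ H g) : Nat.card (H.Dg g) = 32 ∧ Nat.card P.ψ.range = 8 := by
  haveI : Fact (Nat.Prime 2) := ⟨Nat.prime_two⟩
  have h := P.ψ.ker.card_mul_index
  rw [Subgroup.index_ker, P.cent_card, P.ψ_ker,
    Nat.card_congr (Subgroup.subgroupOfEquivOfLe P.Dg_le).toEquiv] at h
  have hD : Nat.card (H.Dg g) ≤ 32 :=
    Nat.le_of_dvd (by norm_num) (abelian_card (B := H.Dg g) inf_le_left P.Dg_elementary.2)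
  have h2 : Nat.card P.ψ.range ∣ 216 := by
    have := Subgroup.card_subgroup_dvd_card P.ψ.range
    rwa [show Nat.card S3c = 216 by simp [Nat.card_eq_fintype_card, Fintype.card_prod, Fintype.card_perm,
      Nat.factorial]] at this
  have h3 : Nat.card P.ψ.range ∣ 256 := Dvd.intro_left _ h
  have h8 : Nat.card P.ψ.range ≤ 8 := Nat.le_of_dvd (by norm_num) ((Nat.dvd_gcd h2 h3).trans (by norm_num))
  have := Nat.mul_le_mul hD h8
  constructor
  · by_contra hne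
    have h' := Nat.mul_le_mul (show Nat.card (H.Dg g) ≤ 31 by omega) h8
    omega
  · by_contra hne
    have h' := Nat.mul_le_mul hD (show Nat.card P.ψ.range ≤ 7 by omega)
    omega

/-- elements of `Q` outside the centralizer of the conjugate turn it into the other one of its coset -/
theorem InQ.conj_Q (P : InQ H g) {q : G} (hq : q ∈ H.Q) (hn : ¬ Commute q (g * H.t * g⁻¹)) :
    InQ H (q * g) ∧ q * g * H.t * (q * g)⁻¹ = g * H.t * g⁻¹ * H.t := by
  have e : q * g * H.t * (q * g)⁻¹ = g * H.t * g⁻¹ * H.t := by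
    calc q * g * H.t * (q * g)⁻¹ = q * (g * H.t * g⁻¹) * q⁻¹ := by group
      _ = g * H.t * g⁻¹ * H.tp (H.kap q (g * H.t * g⁻¹)) := H.conj_eq hq P.mem
      _ = _ := by rw [(bit_cases _).resolve_left fun h => hn (H.kap_eq_zero.1 h), H.tp_one]
  refine ⟨⟨by rw [e]; exact mul_mem P.mem H.t_mem, fun h => ?_⟩, e⟩
  rw [e] at h
  exact H.t_ne (conj_eq_one_iff.1 (mul_eq_right.1 h))

/-- A noncentralizing element of `Q` moves the centralizer of `t` in the other group out of the intersection. -/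
theorem InQ.comm_notMem (P : InQ H g) {q r : G} (hq : q ∈ H.Q) (hn : ¬ Commute q (g * H.t * g⁻¹))
    (hr : r ∈ H.Qg g) (hrD : r ∉ H.Dg g) :
    q * r * q⁻¹ * r⁻¹ ∉ H.Dg g := by
  intro hcomm
  set x := g * H.t * g⁻¹ with hx
  obtain ⟨P', hP'⟩ := P.conj_Q (inv_mem hq) (fun h => hn (by simpa using h.inv_left))
  have hk : g⁻¹ * (x * H.t) * g = H.t * (g⁻¹ * H.t * g) := by rw [hx]; group
  have hmem : g⁻¹ * (q⁻¹ * g) * H.t * (g⁻¹ * (q⁻¹ * g))⁻¹ = H.t * (g⁻¹ * H.t * g) := by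
    rw [← hk, ← hP']; group
  have P'' : InQ H (g⁻¹ * (q⁻¹ * g)) := by
    refine ⟨?_, fun h => H.t_ne ?_⟩
    · rw [hmem]; exact mul_mem H.t_mem (mem_Qg.1 P.t_mem)
    · rw [hmem] at h
      exact conj_eq_one_iff.1 (show g⁻¹ * H.t * (g⁻¹)⁻¹ = 1 by rw [inv_inv]; exact mul_eq_left.1 h)
  have hD'' : ∀ a, g⁻¹ * a * g ∈ H.Dg (g⁻¹ * (q⁻¹ * g)) ↔ g⁻¹ * a * g ∈ H.Q ∧ g⁻¹ * (q * a * q⁻¹) * g ∈ H.Q := by
    intro a
    show _ ∈ H.Q ⊓ _ ↔ _
    rw [Subgroup.mem_inf, mem_Qg]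
    refine and_congr_right fun _ => ?_
    rw [show (g⁻¹ * (q⁻¹ * g))⁻¹ * (g⁻¹ * a * g) * (g⁻¹ * (q⁻¹ * g)) = g⁻¹ * (q * a * q⁻¹) * g by group]
  have hsub : ∀ a ∈ H.Dg g, g⁻¹ * (q * a * q⁻¹) * g ∈ H.Q := by
    intro a ha
    refine mem_Qg.1 ?_
    rw [H.conj_eq hq ha.1]
    refine mul_mem ha.2 ?_
    rcases bit_cases (H.kap q a) with e | e <;> rw [e]
    · rw [H.tp_zero]; exact one_mem _
    · rw [H.tp_one]; exact P.t_mem
  have hle : (H.Dg g).map (MulAut.conj g⁻¹).toMonoidHom ≤ H.Dg (g⁻¹ * (q⁻¹ * g)) := by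
    rintro _ ⟨a, ha, rfl⟩
    show g⁻¹ * a * (g⁻¹)⁻¹ ∈ _
    rw [inv_inv]
    exact (hD'' a).2 ⟨mem_Qg.1 ha.2, hsub a ha⟩
  have heq : (H.Dg g).map (MulAut.conj g⁻¹).toMonoidHom = H.Dg (g⁻¹ * (q⁻¹ * g)) :=
    Subgroup.eq_of_le_of_card_ge hle (by
      rw [P''.counts.1, Subgroup.card_map_of_injective (MulEquiv.injective _), P.counts.1])
  have h1 : q * r * q⁻¹ ∈ H.Qg g := by
    have := mul_mem hcomm.2 hr
    rwa [inv_mul_cancel_right] at this
  have := (hD'' r).2 ⟨mem_Qg.1 hr, mem_Qg.1 h1⟩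
  rw [← heq] at this
  obtain ⟨a, ha, hae⟩ := this
  refine hrD ?_
  change g⁻¹ * a * (g⁻¹)⁻¹ = g⁻¹ * r * g at hae
  rw [inv_inv] at hae
  rwa [← mul_left_cancel (mul_right_cancel hae)]

end Cfsg.Agent.Spor.OmegaEightCent
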