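import Cfsg.Agent.Lib.Spor.OmegaEightCent.Frame

/-!
The involution of the other extraspecial group which moves `t` to the second involution of the line.
-/

set_option autoImplicit false
set_option linter.style.haveILetI false
set_option linter.unusedSectionVars false
set_option maxRecDepth 10000

namespace Cfsg.Agent.Spor.OmegaEightCent

universe u

variable {G : Type u} [Group G] [Finite G] {H : Hyp G} {g : G}

/-- the form on the other group -/
noncomputable def Hyp.kg (H : Hyp G) (g a b : G) : ZMod 2 := H.kap (g⁻¹ * a * g) (g⁻¹ * b * g)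

theorem kg_mul_left {a b c : G} (ha : a ∈ H.Qg g) (hb : b ∈ H.Qg g) (hc : c ∈ H.Qg g) :
    H.kg g (a * b) c = H.kg g a c + H.kg g b c := by
  rw [Hyp.kg, show g⁻¹ * (a * b) * g = g⁻¹ * a * g * (g⁻¹ * b * g) by group]
  exact H.kap_mul_left (mem_Qg.1 ha) (mem_Qg.1 hb) (mem_Qg.1 hc)

theorem kg_mul_right {a b c : G} (ha : a ∈ H.Qg g) (hb : b ∈ H.Qg g) (hc : c ∈ H.Qg g) :
    H.kg g a (b * c) = H.kg g a b + H.kg g a c := by
  rw [Hyp.kg, show g⁻¹ * (b * c) * g = g⁻¹ * b * g * (g⁻¹ * c * g) by group]
  exact H.kap_mul_right (mem_Qg.1 ha) (mem_Qg.1 hb) (mem_Qg.1 hc)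

theorem kg_eq_zero {a b : G} : H.kg g a b = 0 ↔ Commute a b := by
  rw [Hyp.kg, H.kap_eq_zero]
  constructor
  · intro h
    have h' := (Commute.conj_iff g).2 h
    rwa [show g * (g⁻¹ * a * g) * g⁻¹ = a by group, show g * (g⁻¹ * b * g) * g⁻¹ = b by group] at h'
  · intro h
    have h' := (Commute.conj_iff g⁻¹).2 h
    rwa [inv_inv] at h'

theorem kg_symm (a b : G) : H.kg g a b = H.kg g b a := H.kap_symm _ _

theorem kg_one {a b : G} (ha : a ∈ H.Qg g) (hb : b ∈ H.Qg g) (h : H.kg g a b = 1) :
    a * b * a⁻¹ = b * (g * H.t * g⁻¹) := by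
  have h' := H.conj_eq (mem_Qg.1 ha) (mem_Qg.1 hb)
  rw [show H.kap (g⁻¹ * a * g) (g⁻¹ * b * g) = H.kg g a b from rfl, h, H.tp_one] at h'
  calc a * b * a⁻¹ = g * (g⁻¹ * a * g * (g⁻¹ * b * g) * (g⁻¹ * a * g)⁻¹) * g⁻¹ := by group
    _ = g * (g⁻¹ * b * g * H.t) * g⁻¹ := by rw [h']
    _ = _ := by group

theorem kg_conj {a b c : G} : H.kg g (c * a * c⁻¹) (c * b * c⁻¹) = H.kg g a b := by
  rw [Hyp.kg, show g⁻¹ * (c * a * c⁻¹) * g = (g⁻¹ * c * g) * (g⁻¹ * a * g) * (g⁻¹ * c * g)⁻¹ by group,
    show g⁻¹ * (c * b * c⁻¹) * g = (g⁻¹ * c * g) * (g⁻¹ * b * g) * (g⁻¹ * c * g)⁻¹ by group]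
  exact H.kap_conj

theorem Normal3.x0_mem (N : Normal3 H g) : H.xc g ∈ H.Qg g := N.P.x_mem_Dg.2

theorem Normal3.qg_x0 (N : Normal3 H g) {a : G} (ha : a ∈ H.Qg g) : Commute a (H.xc g) := by
  have h := (Commute.conj_iff g).2 (H.commute_t (mem_Qg.1 ha))
  rwa [show g * (g⁻¹ * a * g) * g⁻¹ = a by group] at h

theorem Normal3.unit_comm (N : Normal3 H g) (L : Lifted H.π) (i : Fin 3) :
    (L.ρ i : G) * H.xc g * (L.ρ i : G)⁻¹ = N.xx L (bit8 i) := by
  have := N.xx_step L (d := 0) (i := i) (by simp [hasBit])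
  rwa [zero_xor_bit, N.xx_zero] at this

theorem Normal3.n_unit (N : Normal3 H g) (L : Lifted H.π) (hm : ∀ i, N.mb L i = 0) (i : Fin 3) :
    (L.n i : G) * N.xx L (bit8 i) * (L.n i : G)⁻¹ = H.xc g * N.xx L (bit8 i) := by
  have hb : hasBit (bit8 i) i = true := by simpa using (unit_facts i i).1
  rw [(N.n_xx L _ i).2 hb, hm, H.tp_zero, mul_one, xor_self_eight, N.xx_zero]

theorem pair_facts : ∀ i l : Fin 3, pairV (7 ^^^ bit8 i) 0 = 0 ∧
    pairV (7 ^^^ bit8 i) (bit8 l) = (if l = i then 1 else 0) ∧
    (l ≠ i → ∃ m, 7 ^^^ bit8 i ^^^ bit8 l = bit8 m) ∧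
    pairV (bit8 l) (7 ^^^ bit8 i) = (if l = i then 1 else 0) := by decide +kernel

/-- an element of the other group commuting with the basis of the centralizer of `t` there is central there -/
theorem Normal3.ker_small (N : Normal3 H g) (L : Lifted H.π) (hm : ∀ i, N.mb L i = 0) {q : G} (hq : q ∈ H.Qg g)
    (ht : Commute q H.t) (hx : ∀ i, Commute q (N.xx L (bit8 i))) (hn : ∀ i, Commute q (L.n i : G)) :
    ∃ e f : Bool, q = (bif e then H.t else 1) * (bif f then H.xc g else 1) := by
  obtain ⟨i, j, k, hπ⟩ := N.img ⟨q, H.mem_C.2 ht⟩ hq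
  set w : ↥H.C := (bif i then L.n 0 else 1) * (bif j then L.n 1 else 1) * (bif k then L.n 2 else 1) with hw
  have hwQ : (w : G) ∈ H.Qg g := by
    rw [hw]; push_cast
    refine mul_mem (mul_mem ?_ ?_) ?_
    · cases i; exacts [one_mem _, N.n_mem L hm 0]
    · cases j; exacts [one_mem _, N.n_mem L hm 1]
    · cases k; exacts [one_mem _, N.n_mem L hm 2]
  have hwπ : H.π w = epsW i j k := by
    have key : ∀ i j k, epsW i j k =
        (bif i then eps3 0 else 1) * (bif j then eps3 1 else 1) * (bif k then eps3 2 else 1) := by decide +kernel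
    rw [hw, key, map_mul, map_mul]
    cases i <;> cases j <;> cases k <;> simp [L.nπ]
  set d : G := (w : G)⁻¹ * q with hd
  have hdD : d ∈ H.Dg g := ⟨(H.π_eq_iff (a := w) (b := ⟨q, H.mem_C.2 ht⟩)).1 (by rw [hwπ, hπ]),
    (Subgroup.mul_mem _ (Subgroup.inv_mem _ hwQ) hq : d ∈ H.Qg g)⟩
  have hwx : ∀ l, Commute (w : G) (N.xx L (bit8 l)) := fun l => by
    have h1 : Commute d (N.xx L (bit8 l)) := N.P.Dg_elementary.2 d hdD _ (N.unit_mem L l)
    have h2 := (hx l).mul_left h1.inv_left
    rwa [show q * d⁻¹ = (w : G) by rw [hd]; group] at h2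
  have hw0 : ∀ l, hasBit (bit8 l) l = true := fun l => by simpa using (unit_facts l l).1
  have hbit : ∀ (b : Bool) (l : Fin 3) (rest : ↥H.C), (∀ z, z = bit8 l → Commute (rest : G) (N.xx L z)) →
      Commute ((bif b then (L.n l : G) else 1) * rest) (N.xx L (bit8 l)) → b = false := by
    intro b l rest hrest hc
    cases b
    · rfl
    · exfalso
      simp only [cond_true] at hc
      have h2 := hc.mul_left (hrest _ rfl).inv_left
      rw [mul_inv_cancel_right] at h2
      have h3 := N.n_unit L hm l
      rw [h2.eq, mul_inv_cancel_right] at h3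
      exact H.t_ne (conj_eq_one_iff.1 (right_eq_mul.1 h3))
  have hcomm : ∀ (b : Bool) (a l : Fin 3), a ≠ l → Commute ((bif b then L.n a else 1 : ↥H.C) : G) (N.xx L (bit8 l)) := by
    intro b a l hal
    cases b
    · exact Commute.one_left _
    · have h := (N.n_xx L (bit8 l) a).1 (by
        rw [(unit_facts l a).1]; exact decide_eq_false fun e => hal e.symm)
      exact mul_inv_eq_iff_eq_mul.1 h
  have hcnn : ∀ (a b : Bool) (l l' : Fin 3),
      Commute ((bif a then L.n l else 1 : ↥H.C) : G) ((bif b then L.n l' else 1 : ↥H.C) : G) := fun a b l l' => by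
    cases a <;> cases b <;> simp only [cond_true, cond_false, Subgroup.coe_one] <;>
      first | exact Commute.one_left _ | exact Commute.one_right _ | exact N.n_comm L hm _ _
  have hi : i = false := by
    refine hbit i 0 ((bif j then L.n 1 else 1) * (bif k then L.n 2 else 1)) (fun z hz => ?_) ?_
    · subst hz; push_cast; exact (hcomm j 1 0 (by decide)).mul_left (hcomm k 2 0 (by decide))
    · have := hwx 0
      rw [hw] at this
      cases i <;> simpa [mul_assoc] using this
  have hj : j = false := by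
    refine hbit j 1 ((bif i then L.n 0 else 1) * (bif k then L.n 2 else 1)) (fun z hz => ?_) ?_
    · subst hz; push_cast; exact (hcomm i 0 1 (by decide)).mul_left (hcomm k 2 1 (by decide))
    · have := hwx 1
      rw [hw, hi] at this
      rw [hi]
      cases j <;> simpa [mul_assoc] using this
  have hk : k = false := by
    refine hbit k 2 ((bif i then L.n 0 else 1) * (bif j then L.n 1 else 1)) (fun z hz => ?_) ?_
    · subst hz; push_cast; exact (hcomm i 0 2 (by decide)).mul_left (hcomm j 1 2 (by decide))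
    · have := hwx 2
      rw [hw, hi, hj] at this
      rw [hi, hj]
      cases k <;> simpa [mul_assoc] using this
  have hqd : q = d := by
    have : (w : G) = 1 := by rw [hw, hi, hj, hk]; simp
    rw [hd, this, inv_one, one_mul]
  rw [← hqd] at hdD
  obtain ⟨c, hc⟩ := (N.basis L).2 (H.mkV ⟨q, hdD.1⟩)
  have hzero : ∀ (d : Fin 8) (i : Fin 3), hasBit d i = true → c d = false := by
    intro e i hei
    have hfix : H.act (L.n i) (H.mkV ⟨q, hdD.1⟩) * H.mkV ⟨q, hdD.1⟩ = 1 := by
      rw [H.act_mk, show H.cjQ (L.n i) ⟨q, hdD.1⟩ = ⟨q, hdD.1⟩ from Subtype.ext (by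
        show (L.n i : G) * q * (L.n i : G)⁻¹ = q
        rw [← (hn i).eq, mul_inv_cancel_right]), H.sp.sq]
    rw [← hc] at hfix
    let c' : Fin 8 → Bool := fun d => !hasBit d i && c (d ^^^ bit8 i)
    have h' : (∏ d, if c' d then N.ev L d else 1) = 1 := by
      refine Eq.trans ?_ hfix
      rw [map_prod, ← Finset.prod_mul_distrib]
      refine Fintype.prod_equiv (Equiv.mk (· ^^^ bit8 i) (· ^^^ bit8 i)
        (fun d => (bit_xor_facts d i).1) (fun d => (bit_xor_facts d i).1)) _ _ fun d => ?_
      obtain ⟨hdd, hbd⟩ := bit_xor_facts d i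
      show _ = H.act (L.n i) (if c (d ^^^ bit8 i) then N.ev L (d ^^^ bit8 i) else 1) *
        (if c (d ^^^ bit8 i) then N.ev L (d ^^^ bit8 i) else 1)
      cases hcd : c (d ^^^ bit8 i)
      · simp [c', hcd, H.sp.sq]
      · simp only [c', hcd, if_true, Bool.and_true]
        cases hd' : hasBit d i
        · rw [hd'] at hbd
          simp only [Bool.not_false, if_true]
          rw [N.n_ev_one L hbd, mul_assoc, H.sp.sq, mul_one, hdd]
        · rw [hd'] at hbd
          simp [N.n_ev_zero L hbd, H.sp.sq]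
    have hc0 := @(N.basis L).1 c' (fun _ => false) (by
      show (∏ d, if c' d then N.ev L d else 1) = ∏ d, if false then N.ev L d else 1
      simp [h'])
    have := congrFun hc0 (e ^^^ bit8 i)
    obtain ⟨hee, hbe⟩ := bit_xor_facts e i
    simpa [c', hbe, hei, hee] using this
  have hv : H.mkV ⟨q, hdD.1⟩ = if c 0 then N.P.xv else 1 := by
    rw [← hc]
    show (∏ d, if c d then N.ev L d else 1) = _
    rw [Finset.prod_eq_single 0, N.ev_zero]
    · intro e _ he
      have key : ∀ e : Fin 8, e ≠ 0 → ∃ i, hasBit e i = true := by decide +kernel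
      obtain ⟨i, hi⟩ := key e he
      rw [hzero e i hi]; rfl
    · simp
  cases h0 : c 0
  · rw [h0, if_neg (by decide), H.mkV_eq_one_iff] at hv
    rcases hv with h | h
    · exact ⟨false, false, by simpa using h⟩
    · exact ⟨true, false, by simpa using h⟩
  · rw [h0, if_pos rfl] at hv
    obtain ⟨e, he⟩ := H.mkV_eq_iff.1 hv.symm
    have he' : q = H.xc g * H.tp e := he
    rcases bit_cases e with rfl | rfl
    · exact ⟨false, true, by rw [he', H.tp_zero]; simp⟩
    · refine ⟨true, true, ?_⟩
      rw [he', H.tp_one]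
      simp only [cond_true]
      exact H.commute_t N.P.mem

/-- the basis of the centralizer of `t` in the other group, as a list -/
def Normal3.bas (N : Normal3 H g) (L : Lifted H.π) : Option (Fin 3 ⊕ Fin 3) → G
  | none => H.t
  | some (.inl i) => N.xx L (bit8 i)
  | some (.inr i) => L.n i

theorem Normal3.bas_mem (N : Normal3 H g) (L : Lifted H.π) (hm : ∀ i, N.mb L i = 0) :
    ∀ k, N.bas L k ∈ H.Qg g
  | none => N.P.t_mem
  | some (.inl i) => (N.unit_mem L i).2
  | some (.inr i) => N.n_mem L hm i

theorem Normal3.exists_q0 (N : Normal3 H g) (L : Lifted H.π) (hm : ∀ i, N.mb L i = 0) :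
    ∃ q ∈ H.Qg g, q * q = 1 ∧ H.kg g q H.t = 1 ∧ (∀ i, Commute q (N.xx L (bit8 i))) ∧
      ∀ i, Commute q (L.n i : G) := by
  classical
  let f : ↥(H.Qg g) →* (Option (Fin 3 ⊕ Fin 3) → Multiplicative (ZMod 2)) :=
    { toFun := fun q k => Multiplicative.ofAdd (H.kg g q (N.bas L k))
      map_one' := funext fun k => by
        show Multiplicative.ofAdd _ = 1
        rw [ofAdd_eq_one, OneMemClass.coe_one, kg_eq_zero]
        exact Commute.one_left _
      map_mul' := fun a b => funext fun k => by
        show Multiplicative.ofAdd (α := ZMod 2) _ =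
          Multiplicative.ofAdd (α := ZMod 2) _ * Multiplicative.ofAdd (α := ZMod 2) _
        rw [← ofAdd_add, Subgroup.coe_mul, kg_mul_left a.2 b.2 (N.bas_mem L hm k)] }
  have hk : Nat.card f.ker ≤ 4 := by
    have key : ∀ q : f.ker, ∃ e h : Bool, ((q : ↥(H.Qg g)) : G) =
        (bif e then H.t else 1) * (bif h then H.xc g else 1) := fun q => by
      have hq : ∀ k, H.kg g ((q : ↥(H.Qg g)) : G) (N.bas L k) = 0 := fun k =>
        ofAdd_eq_one.1 (congrFun (MonoidHom.mem_ker.1 q.2) k)
      exact N.ker_small L hm (q : ↥(H.Qg g)).2 (kg_eq_zero.1 (hq none)) (fun i => kg_eq_zero.1 (hq (some (.inl i))))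
        fun i => kg_eq_zero.1 (hq (some (.inr i)))
    choose e h heh using key
    refine (Nat.card_le_card_of_injective (fun q => (e q, h q)) fun q r hqr => ?_).trans (le_of_eq (by simp))
    simp only [Prod.mk.injEq] at hqr
    refine Subtype.ext (Subtype.ext ?_)
    rw [heh, heh, hqr.1, hqr.2]
  have hcard : Nat.card ↥(H.Qg g) = 512 := by
    rw [Hyp.Qg, Subgroup.card_map_of_injective (MulEquiv.injective _), H.Q_card]
  have hsurj : Function.Surjective f := by
    rw [← MonoidHom.range_eq_top]
    refine Subgroup.eq_top_of_le_card _ ?_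
    have h := f.ker.card_mul_index
    rw [Subgroup.index_ker, hcard] at h
    have := Nat.mul_le_mul_right (Nat.card f.range) hk
    have h128 : Nat.card (Option (Fin 3 ⊕ Fin 3) → Multiplicative (ZMod 2)) = 128 := by
      simp [Nat.card_eq_fintype_card]
    rw [h128]
    omega
  obtain ⟨⟨q, hq⟩, hfq⟩ := hsurj fun k => Multiplicative.ofAdd (if k = none then 1 else 0)
  have hval : ∀ k, H.kg g q (N.bas L k) = if k = none then 1 else 0 := fun k =>
    Multiplicative.ofAdd.injective (congrFun hfq k)
  have hqt : H.kg g q H.t = 1 := hval none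
  have hcom : ∀ k, k ≠ none → Commute q (N.bas L k) := fun k hk => kg_eq_zero.1 (by rw [hval, if_neg hk])
  have htm := N.P.t_mem
  have htt : H.kg g H.t H.t = 0 := kg_eq_zero.2 (Commute.refl _)
  by_cases hsq : q * q = 1
  · exact ⟨q, hq, hsq, hqt, fun i => hcom (some (.inl i)) (Option.some_ne_none _),
      fun i => hcom (some (.inr i)) (Option.some_ne_none _)⟩
  · have hq' : q * q = H.xc g := by
      rcases H.sq_mem (mem_Qg.1 hq) with h | h
      · exfalso
        refine hsq ?_
        calc q * q = g * (g⁻¹ * q * g * (g⁻¹ * q * g)) * g⁻¹ := by group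
          _ = 1 := by rw [h]; group
      · calc q * q = g * (g⁻¹ * q * g * (g⁻¹ * q * g)) * g⁻¹ := by group
          _ = H.xc g := by rw [h]; rfl
    have hxx : H.xc g * H.xc g = 1 := N.P.sq
    have hsq' : q * H.t * (q * H.t) = 1 := by
      have hc := kg_one hq htm hqt
      change q * H.t * q⁻¹ = H.t * H.xc g at hc
      rw [mul_inv_eq_iff_eq_mul] at hc
      have hxq : Commute q (H.xc g) := N.qg_x0 hq
      have hxt : Commute H.t (H.xc g) := (H.commute_t N.P.mem).symm
      calc q * H.t * (q * H.t) = q * H.t * q * H.t := by simp only [mul_assoc]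
        _ = H.t * H.xc g * q * q * H.t := by rw [hc]
        _ = H.t * (H.xc g * (q * q)) * H.t := by simp only [mul_assoc]
        _ = 1 := by rw [hq', hxx, mul_one, H.t_sq]
    refine ⟨q * H.t, mul_mem hq htm, hsq', by rw [kg_mul_left hq htm htm, hqt, htt, add_zero], fun i => ?_, fun i => ?_⟩
    · exact (hcom (some (.inl i)) (Option.some_ne_none _)).mul_left (H.commute_t (N.xx_mem L _)).symm
    · exact (hcom (some (.inr i)) (Option.some_ne_none _)).mul_left (H.mem_C.1 (L.n i).2).symm

/-- The linking data: the frame together with the involution of the other group. -/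
structure Linked (N : Normal3 H g) (L : Lifted H.π) (q : G) : Prop where
  hm : ∀ i, N.mb L i = 0
  mem : q ∈ H.Qg g
  sq : q * q = 1
  move : q * H.t * q = H.t * H.xc g
  comm_x : ∀ i, Commute q (N.xx L (bit8 i))
  comm_n : ∀ i, Commute q (L.n i : G)
  pair : ∀ i, q * N.xx L (7 ^^^ bit8 i) * q = N.xx L (7 ^^^ bit8 i) * L.n i

theorem exists_linked (N : Normal3 H g) (L : Lifted H.π) (hm : ∀ i, N.mb L i = 0) :
    ∃ (L' : Lifted H.π) (q : G), Linked N L' q := by
  obtain ⟨q, hq, hsq, hqt, hqx, hqn⟩ := N.exists_q0 L hm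
  have hqi : q⁻¹ = q := inv_eq_of_mul_eq_one_right hsq
  have hmove : q * H.t * q = H.t * H.xc g := by
    have := kg_one hq N.P.t_mem hqt
    rwa [hqi] at this
  set x0 := H.xc g with hx0
  have hxx : x0 * x0 = 1 := N.P.sq
  have hxt : Commute x0 H.t := H.commute_t N.P.mem
  have key : ∀ i, ∃ f : Bool,
      q * N.xx L (7 ^^^ bit8 i) * q = N.xx L (7 ^^^ bit8 i) * L.n i * (bif f then x0 else 1) := by
    intro i
    set a := N.xx L (7 ^^^ bit8 i) with ha
    have haa : a * a = 1 := N.xx_sq L _
    have hai : a⁻¹ = a := inv_eq_of_mul_eq_one_right haa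
    have hax : Commute a x0 := by
      refine (H.kap_eq_zero.1 ?_)
      rw [ha, hx0, ← N.xx_zero L, N.kap_xx]
      exact (pair_facts i i).1
    have hat : Commute a H.t := H.commute_t (N.xx_mem L _)
    have hnorm : ∀ w ∈ H.Qg g, a * w * a⁻¹ ∈ H.Qg g := fun w hw => by
      refine mem_Qg.2 ?_
      have hc : g⁻¹ * a * g ∈ H.C := N.P.cent_mem_C (N.P.mem_cent.2 ⟨N.xx_mem L _, hax⟩)
      have := H.conj_mem hc (mem_Qg.1 hw)
      rwa [show g⁻¹ * a * g * (g⁻¹ * w * g) * (g⁻¹ * a * g)⁻¹ = g⁻¹ * (a * w * a⁻¹) * g by group] at this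
    set z := a * q * a⁻¹ * q with hz
    have hzQ : z ∈ H.Qg g := mul_mem (hnorm q hq) hq
    have hzt : Commute z H.t := by
      have h1 : (q * a * q) * H.t = H.t * (q * a * q) := by
        have hq2 : q * H.t = H.t * x0 * q := by rw [← hmove, mul_assoc _ q q, hsq, mul_one]
        have hq4 : q * x0 = x0 * q := (N.qg_x0 hq).eq
        have hq3 : q * (H.t * x0) = H.t * q := by
          rw [← mul_assoc, hq2, mul_assoc _ q, hq4, ← mul_assoc, mul_assoc H.t, hxx, mul_one]
        calc q * a * q * H.t = q * a * (q * H.t) := mul_assoc _ _ _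
          _ = q * (a * (H.t * x0)) * q := by rw [hq2]; simp only [mul_assoc]
          _ = q * ((H.t * x0) * a) * q := by rw [(hat.mul_right hax).eq]
          _ = (q * (H.t * x0)) * a * q := by simp only [mul_assoc]
          _ = _ := by rw [hq3]; simp only [mul_assoc]
      rw [hz, hai, show a * q * a * q = a * (q * a * q) by simp only [mul_assoc]]
      exact hat.mul_left h1
    have hk : ∀ w ∈ H.Qg g, H.kg g z w = H.kg g q (a * w * a⁻¹) + H.kg g q w := fun w hw => by
      rw [hz, kg_mul_left (hnorm q hq) hq hw]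
      congr 1
      conv_rhs => rw [← kg_conj (c := a)]
      congr 1
      calc w = (a * a) * w * (a * a)⁻¹ := by rw [haa]; group
        _ = _ := by group
    have hpair : ∀ l, a * N.xx L (bit8 l) * a⁻¹ = N.xx L (bit8 l) * H.tp (if l = i then 1 else 0) := fun l => by
      rw [H.conj_eq (N.xx_mem L _) (N.xx_mem L _), N.kap_xx]
      rw [(pair_facts i l).2.1]
    set n := (L.n i : G) with hn
    have hzn : ∀ k, H.kg g (z * n) (N.bas L k) = 0 := by
      intro k
      rw [kg_mul_left hzQ (N.n_mem L hm i) (N.bas_mem L hm k), hk _ (N.bas_mem L hm k)]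
      match k with
      | none =>
        show H.kg g q (a * H.t * a⁻¹) + H.kg g q H.t + H.kg g n H.t = 0
        rw [hat.eq, mul_inv_cancel_right, kg_eq_zero.2 (H.mem_C.1 (L.n i).2), add_zero, CharTwo.add_self_eq_zero]
      | some (.inl l) =>
        show H.kg g q (a * N.xx L (bit8 l) * a⁻¹) + H.kg g q (N.xx L (bit8 l)) + H.kg g n (N.xx L (bit8 l)) = 0
        have htpQ : H.tp (if l = i then 1 else 0) ∈ H.Qg g := by
          split_ifs
          · rw [H.tp_one]; exact N.P.t_mem
          · rw [H.tp_zero]; exact one_mem _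
        rw [hpair, kg_mul_right hq (N.unit_mem L l).2 htpQ, kg_eq_zero.2 (hqx l), zero_add, add_zero]
        by_cases hl : l = i
        · subst hl
          rw [if_pos rfl, H.tp_one, hqt]
          have : H.kg g n (N.xx L (bit8 l)) = 1 := by
            refine (bit_cases _).resolve_left fun h => ?_
            have h3 := N.n_unit L hm l
            rw [(kg_eq_zero.1 h).eq, mul_inv_cancel_right] at h3
            exact H.t_ne (conj_eq_one_iff.1 (right_eq_mul.1 h3))
          rw [this]; rfl
        · rw [if_neg hl, H.tp_zero, kg_eq_zero.2 (Commute.one_right q), zero_add, kg_eq_zero]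
          have h := (N.n_xx L (bit8 l) i).1 (by rw [(unit_facts l i).1]; exact decide_eq_false hl)
          exact mul_inv_eq_iff_eq_mul.1 h
      | some (.inr l) =>
        show H.kg g q (a * (L.n l : G) * a⁻¹) + H.kg g q (L.n l : G) + H.kg g n (L.n l : G) = 0
        rw [kg_eq_zero.2 (hqn l), add_zero, kg_eq_zero.2 (N.n_comm L hm i l), add_zero]
        have hnl : (L.n l : G)⁻¹ = L.n l := inv_eq_of_mul_eq_one_right (N.n_sq L hm l)
        by_cases hl : l = i
        · subst hl
          have h := (N.n_xx L (7 ^^^ bit8 l) l).1 (unit_facts l l).2.1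
          rw [mul_inv_eq_iff_eq_mul] at h
          rw [← h, mul_inv_cancel_right]
          exact kg_eq_zero.2 (hqn _)
        · obtain ⟨hb, -, -, -⟩ := (unit_facts i l).2.2.1 (Ne.symm hl)
          have h := (N.n_xx L (7 ^^^ bit8 i) l).2 hb
          rw [hm, H.tp_zero, mul_one] at h
          have e : a * (L.n l : G) * a⁻¹ = (L.n l : G) * N.xx L (7 ^^^ bit8 i ^^^ bit8 l) := by
            have hsq := N.n_sq L hm l
            calc a * (L.n l : G) * a⁻¹ = (L.n l : G) * ((L.n l : G) * a * (L.n l : G)⁻¹) * a⁻¹ := by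
                  rw [hnl]; calc _ = ((L.n l : G) * L.n l) * a * L.n l * a⁻¹ := by rw [hsq, one_mul]
                    _ = _ := by simp only [mul_assoc]
              _ = _ := by rw [h, show N.xx L (7 ^^^ bit8 i) = a from rfl]; group
          have hu : ∃ m, 7 ^^^ bit8 i ^^^ bit8 l = bit8 m := (pair_facts i l).2.2.1 hl
          obtain ⟨m, hmm⟩ := hu
          rw [e, hmm, kg_mul_right hq (N.n_mem L hm l) (N.unit_mem L m).2, kg_eq_zero.2 (hqn l),
            kg_eq_zero.2 (hqx m), add_zero]
    have hnn : n * n = 1 := N.n_sq L hm i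
    obtain ⟨e, f, hef⟩ := N.ker_small L hm (q := z * n) (mul_mem hzQ (N.n_mem L hm i))
      (kg_eq_zero.1 (hzn none)) (fun l => kg_eq_zero.1 (hzn (some (.inl l))))
      fun l => kg_eq_zero.1 (hzn (some (.inr l)))
    have hzeq : z = (bif e then H.t else 1) * (bif f then x0 else 1) * n := by
      rw [← hef, mul_assoc, hnn, mul_one]
    have hnt : Commute n H.t := H.mem_C.1 (L.n i).2
    have hnx : Commute n x0 := N.n_x0 L i
    have hzz : z * z = 1 := by
      rw [hzeq]
      have h1 : Commute ((bif e then H.t else 1) * (bif f then x0 else 1)) n := by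
        refine Commute.mul_left ?_ ?_
        · cases e; exacts [Commute.one_left _, hnt.symm]
        · cases f; exacts [Commute.one_left _, hnx.symm]
      rw [h1.symm.mul_mul_mul_comm, hnn, mul_one]
      cases e <;> cases f <;> simp [H.t_sq, hxx, mul_assoc]
      calc H.t * (x0 * (H.t * x0)) = H.t * (x0 * H.t) * x0 := by simp only [mul_assoc]
        _ = H.t * H.t * (x0 * x0) := by rw [hxt.eq]; simp only [mul_assoc]
        _ = 1 := by rw [H.t_sq, hxx, one_mul]
    have hqz : q * z * q = z := by
      calc q * z * q = z⁻¹ := by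
            rw [hz]; simp only [mul_inv_rev, inv_inv, hqi, mul_assoc, hsq, mul_one]
        _ = z := inv_eq_of_mul_eq_one_right hzz
    have he : e = false := by
      cases e
      · rfl
      · exfalso
        have hcx : Commute q ((bif f then x0 else 1) * n) := by
          refine Commute.mul_right ?_ (hqn i)
          cases f; exacts [Commute.one_right q, N.qg_x0 hq]
        rw [hzeq] at hqz
        simp only [cond_true, mul_assoc H.t] at hqz
        set r := (bif f then x0 else 1) * n with hr
        have h2 : q * H.t * q * r = H.t * r := by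
          refine Eq.trans ?_ hqz
          simp only [mul_assoc]
          rw [hcx.eq]
        rw [hmove] at h2
        exact H.t_ne (conj_eq_one_iff.1 (mul_eq_left.1 (mul_right_cancel h2)))
    refine ⟨f, ?_⟩
    calc q * a * q = a * z := by
          rw [hz, hai, ← mul_assoc, ← mul_assoc, ← mul_assoc, haa, one_mul]
      _ = _ := by
        rw [hzeq, he]
        simp only [cond_false, one_mul]
        cases f
        · simp
        · simp only [cond_true]; rw [← hnx.eq, mul_assoc]
  choose f hf using key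
  set X : G := (bif f 0 then N.xx L (bit8 0) else 1) * ((bif f 1 then N.xx L (bit8 1) else 1) *
    (bif f 2 then N.xx L (bit8 2) else 1)) with hX
  have hxcm : ∀ i j, Commute (N.xx L (bit8 i)) (N.xx L (bit8 j)) := fun i j =>
    N.P.Dg_elementary.2 _ (N.unit_mem L i) _ (N.unit_mem L j)
  have hXc : ∀ w, (∀ i, Commute w (N.xx L (bit8 i))) → Commute w X := fun w hw => by
    rw [hX]
    refine Commute.mul_right ?_ (Commute.mul_right ?_ ?_) <;>
      [skip; skip; skip] <;> (generalize f _ = b; cases b; exacts [Commute.one_right _, hw _])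
  have hXQ : X ∈ H.Dg g := by
    rw [hX]
    refine mul_mem ?_ (mul_mem ?_ ?_) <;> (generalize f _ = b; cases b; exacts [one_mem _, N.unit_mem L _])
  have hXX : X * X = 1 := N.P.Dg_elementary.1 X hXQ
  have hXi : X⁻¹ = X := inv_eq_of_mul_eq_one_right hXX
  have hqX : Commute q X := hXc q hqx
  have hXt : Commute X H.t := H.commute_t hXQ.1
  have hXx : Commute X x0 := N.qg_x0 hXQ.2
  -- conjugation by the correction
  have hXn : ∀ i, X * (L.n i : G) * X⁻¹ = (L.n i : G) * (bif f i then x0 else 1) := fun i => by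
    have hni : (L.n i : G)⁻¹ = L.n i := inv_eq_of_mul_eq_one_right (N.n_sq L hm i)
    have hone : ∀ l, N.xx L (bit8 l) * (L.n i : G) * (N.xx L (bit8 l))⁻¹ =
        if l = i then (L.n i : G) * x0 else (L.n i : G) := fun l => by
      have hxl : (N.xx L (bit8 l))⁻¹ = N.xx L (bit8 l) := inv_eq_of_mul_eq_one_right (N.xx_sq L _)
      split_ifs with hl
      · subst hl
        have h := N.n_unit L hm l
        calc N.xx L (bit8 l) * (L.n l : G) * (N.xx L (bit8 l))⁻¹
            = (L.n l : G) * ((L.n l : G) * N.xx L (bit8 l) * (L.n l : G)⁻¹) * N.xx L (bit8 l) := by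
              rw [hxl, hni]
              calc _ = ((L.n l : G) * L.n l) * N.xx L (bit8 l) * L.n l * N.xx L (bit8 l) := by
                    rw [N.n_sq L hm l, one_mul]
                _ = _ := by simp only [mul_assoc]
          _ = _ := by rw [h, ← mul_assoc, mul_assoc ((L.n l : G) * x0), N.xx_sq, mul_one]
      · have h := (N.n_xx L (bit8 l) i).1 (by rw [(unit_facts l i).1]; exact decide_eq_false hl)
        rw [mul_inv_eq_iff_eq_mul] at h
        rw [← h, mul_inv_cancel_right]
    have hfx : ∀ (b : Bool) (l : Fin 3),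
        (bif b then N.xx L (bit8 l) else 1) * x0 * (bif b then N.xx L (bit8 l) else 1)⁻¹ = x0 := fun b l => by
      cases b
      · simp
      · simp only [cond_true]
        rw [(N.qg_x0 (N.unit_mem L l).2).eq, mul_inv_cancel_right]
    have hb : ∀ (b : Bool) (l : Fin 3),
        (bif b then N.xx L (bit8 l) else 1) * (L.n i : G) * (bif b then N.xx L (bit8 l) else 1)⁻¹ =
          (L.n i : G) * (bif b && decide (l = i) then x0 else 1) := fun b l => by
      cases b
      · simp
      · simp only [cond_true, Bool.true_and]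
        rw [hone]
        by_cases hl : l = i <;> simp [hl]
    have hfx' : ∀ (b c : Bool) (l : Fin 3), (bif b then N.xx L (bit8 l) else 1) * (bif c then x0 else 1) *
        (bif b then N.xx L (bit8 l) else 1)⁻¹ = (bif c then x0 else 1) := fun b c l => by
      cases c
      · simp
      · exact hfx b l
    set A := (bif f 0 then N.xx L (bit8 0) else 1)
    set B := (bif f 1 then N.xx L (bit8 1) else 1)
    set C := (bif f 2 then N.xx L (bit8 2) else 1)
    calc X * (L.n i : G) * X⁻¹ = A * (B * (C * (L.n i : G) * C⁻¹) * B⁻¹) * A⁻¹ := by rw [hX]; group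
      _ = A * ((B * (L.n i : G) * B⁻¹) * (B * (bif f 2 && decide ((2 : Fin 3) = i) then x0 else 1) * B⁻¹)) * A⁻¹ := by
          rw [hb (f 2) 2]; group
      _ = A * ((L.n i : G) * (bif f 1 && decide ((1 : Fin 3) = i) then x0 else 1) *
            (bif f 2 && decide ((2 : Fin 3) = i) then x0 else 1)) * A⁻¹ := by rw [hb (f 1) 1, hfx' (f 1) _ 1]
      _ = (A * (L.n i : G) * A⁻¹) * (A * (bif f 1 && decide ((1 : Fin 3) = i) then x0 else 1) * A⁻¹) *
            (A * (bif f 2 && decide ((2 : Fin 3) = i) then x0 else 1) * A⁻¹) := by group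
      _ = _ := by
        rw [hb (f 0) 0, hfx' (f 0) _ 0, hfx' (f 0) _ 0]
        fin_cases i <;> simp
  have hXa : ∀ i, X * N.xx L (7 ^^^ bit8 i) * X⁻¹ =
      N.xx L (7 ^^^ bit8 i) * (bif f i then H.t else 1) := fun i => by
    have ha := N.xx_mem L (7 ^^^ bit8 i)
    rw [H.conj_eq hXQ.1 ha]
    congr 1
    have hone : ∀ l, H.kap (bif f l then N.xx L (bit8 l) else 1) (N.xx L (7 ^^^ bit8 i)) =
        if f l && decide (l = i) then 1 else 0 := fun l => by
      cases f l
      · simp only [cond_false, Bool.false_and]; rw [H.kap_symm, H.kap_one]; rfl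
      · simp only [cond_true, Bool.true_and, N.kap_xx, (pair_facts i l).2.2.2, decide_eq_true_eq]
    have hmem : ∀ l, (bif f l then N.xx L (bit8 l) else 1) ∈ H.Q := fun l => by
      cases f l; exacts [one_mem _, N.xx_mem L _]
    rw [hX, H.kap_mul_left (hmem 0) (mul_mem (hmem 1) (hmem 2)) ha, H.kap_mul_left (hmem 1) (hmem 2) ha,
      hone, hone, hone]
    cases h : f i <;> fin_cases i <;> simp_all [H.tp_zero, H.tp_one]
  let L' : Lifted H.π :=
    { L with
      n := fun i => L.n i * (bif f i then (⟨H.t, H.t_mem_C⟩ : ↥H.C) else 1)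
      nπ := fun i => by
        rw [map_mul, L.nπ]
        cases f i
        · simp
        · simp only [cond_true]; rw [(H.π_ker _).2 H.t_mem, mul_one]
      n_conj := fun i j => by
        have hc : Commute (bif f i then (⟨H.t, H.t_mem_C⟩ : ↥H.C) else 1) (L.ρ j) := by
          cases f i
          · exact Commute.one_left _
          · exact Subtype.ext (H.mem_C.1 (L.ρ j).2).eq.symm
        rw [mul_inv_rev, show L.n i * (bif f i then (⟨H.t, H.t_mem_C⟩ : ↥H.C) else 1) * L.ρ j =
          L.n i * L.ρ j * (bif f i then (⟨H.t, H.t_mem_C⟩ : ↥H.C) else 1) by rw [mul_assoc, hc.eq, ← mul_assoc]]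
        rw [← mul_assoc, mul_assoc (L.n i * L.ρ j), mul_inv_cancel, mul_one]
        exact L.n_conj i j }
  have hn' : ∀ i, (L'.n i : G) = (L.n i : G) * (bif f i then H.t else 1) := fun i => by
    show ((L.n i * (bif f i then (⟨H.t, H.t_mem_C⟩ : ↥H.C) else 1) : ↥H.C) : G) = _
    cases f i <;> rfl
  refine ⟨L', q * X, ⟨hm, mul_mem hq hXQ.2, ?_, ?_, fun i => ?_, fun i => ?_, fun i => ?_⟩⟩
  · calc q * X * (q * X) = q * (X * q) * X := by simp only [mul_assoc]
      _ = q * q * (X * X) := by rw [← hqX.eq]; simp only [mul_assoc]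
      _ = 1 := by rw [hsq, hXX, one_mul]
  · calc q * X * H.t * (q * X) = q * (X * H.t) * q * X := by simp only [mul_assoc]
      _ = q * H.t * (X * q) * X := by rw [hXt.eq]; simp only [mul_assoc]
      _ = q * H.t * q * (X * X) := by rw [← hqX.eq]; simp only [mul_assoc]
      _ = _ := by rw [hXX, mul_one, hmove]
  · exact ((hqx i).mul_left (hXc _ fun l => hxcm i l).symm)
  · rw [hn']
    set T : G := bif f i then H.t else 1 with hT
    set Y : G := bif f i then x0 else 1 with hY
    have hTY : q * T * q = T * Y := by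
      rw [hT, hY]
      cases f i
      · simp [hsq]
      · exact hmove
    have hXT : Commute X T := by
      rw [hT]; cases f i
      exacts [Commute.one_right _, hXt]
    have hYc : Commute q Y := by
      rw [hY]; cases f i
      exacts [Commute.one_right _, N.qg_x0 hq]
    have hYY : Y * Y = 1 := by rw [hY]; cases f i <;> simp [hxx]
    have hYT : Commute Y T := by
      rw [hY, hT]; cases f i
      exacts [Commute.one_left _, hxt]
    have hYn : Commute Y (L.n i : G) := by
      rw [hY]; cases f i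
      exacts [Commute.one_left _, (N.n_x0 L i).symm]
    have e : q * X * ((L.n i : G) * T) * (q * X)⁻¹ = (L.n i : G) * T := by
      calc q * X * ((L.n i : G) * T) * (q * X)⁻¹ = q * ((X * (L.n i : G) * X⁻¹) * (X * T * X⁻¹)) * q⁻¹ := by group
        _ = q * ((L.n i : G) * Y * T) * q := by rw [hXn, hXT.eq, mul_inv_cancel_right, hqi]
        _ = (q * (L.n i : G)) * Y * T * q := by simp only [mul_assoc]
        _ = (L.n i : G) * (q * Y) * T * q := by rw [(hqn i).eq]; simp only [mul_assoc]
        _ = (L.n i : G) * Y * (q * T * q) := by rw [hYc.eq]; simp only [mul_assoc]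
        _ = (L.n i : G) * (Y * T) * Y := by rw [hTY]; simp only [mul_assoc]
        _ = _ := by rw [hYT.eq, ← mul_assoc, mul_assoc _ Y Y, hYY, mul_one]
    exact mul_inv_eq_iff_eq_mul.1 e
  · rw [hn']
    show q * X * N.xx L (7 ^^^ bit8 i) * (q * X) = N.xx L (7 ^^^ bit8 i) * ((L.n i : G) * _)
    set a := N.xx L (7 ^^^ bit8 i)
    set T : G := bif f i then H.t else 1 with hT
    have hTY : q * T * q = T * (bif f i then x0 else 1) := by
      rw [hT]
      cases f i
      · simp [hsq]
      · exact hmove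
    have hYT : Commute (bif f i then x0 else 1) T := by
      rw [hT]; cases f i
      exacts [Commute.one_left _, hxt]
    have hYY : (bif f i then x0 else 1) * (bif f i then x0 else 1) = 1 := by cases f i <;> simp [hxx]
    have e : q * X * a * (q * X) = q * (X * a * X⁻¹) * q := by
      calc q * X * a * (q * X) = q * (X * a) * (q * X) := by simp only [mul_assoc]
        _ = q * (X * a) * (X * q) := by rw [hqX.eq]
        _ = _ := by rw [hXi]; simp only [mul_assoc]
    rw [e, hXa]
    calc q * (a * T) * q = q * a * (q * q) * T * q := by rw [hsq]; simp only [mul_one, mul_assoc]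
      _ = (q * a * q) * (q * T * q) := by simp only [mul_assoc]
      _ = a * (L.n i : G) * ((bif f i then x0 else 1) * T) * (bif f i then x0 else 1) := by
          rw [hf, hTY]; simp only [mul_assoc]; rfl
      _ = _ := by rw [hYT.eq, ← mul_assoc, mul_assoc _ _ (bif f i then x0 else 1), hYY, mul_one, mul_assoc]

end Cfsg.Agent.Spor.OmegaEightCent
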