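import Cfsg.Agent.Lib.Spor.OmegaEightCent.Bits
import Cfsg.Agent.Lib.Spor.OmegaEightCent.Space

/-!
The symplectic space `Q / Z(Q)` and the action of the centralizer on it.
-/

set_option autoImplicit false
set_option linter.style.haveILetI false
set_option linter.unusedSectionVars false

namespace Cfsg.Agent.Spor.OmegaEightCent

universe u

variable {G : Type u} [Group G] (H : Hyp G)

/-- the centre -/
def Hyp.Zc : Subgroup ↥H.Q := Subgroup.zpowers ⟨H.t, H.t_mem⟩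

theorem Hyp.mem_Zc {a : ↥H.Q} : a ∈ H.Zc ↔ (a : G) = 1 ∨ (a : G) = H.t := by
  rw [Hyp.Zc, Subgroup.mem_zpowers_iff]
  constructor
  · rintro ⟨k, rfl⟩
    rcases Int.even_or_odd' k with ⟨m, rfl | rfl⟩
    · left
      rw [zpow_mul, zpow_ofNat, pow_two, H.ext.zz, one_zpow]
      rfl
    · right
      rw [zpow_add, zpow_mul, zpow_ofNat, pow_two, H.ext.zz, one_zpow, one_mul, zpow_one]
  · rintro (h | h)
    · exact ⟨0, by rw [zpow_zero]; exact Subtype.ext h.symm⟩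
    · exact ⟨1, by rw [zpow_one]; exact Subtype.ext h.symm⟩

instance Hyp.Zc_normal : H.Zc.Normal :=
  ⟨fun a ha g => by
    rcases H.mem_Zc.1 ha with h | h <;> refine H.mem_Zc.2 ?_ <;> push_cast <;> rw [h]
    · left; group
    · right
      rw [(H.commute_t g.2).eq, mul_inv_cancel_right]⟩

/-- the quotient -/
abbrev Hyp.Vq : Type u := ↥H.Q ⧸ H.Zc

noncomputable instance Hyp.commGroup : CommGroup H.Vq :=
  { (inferInstance : Group (↥H.Q ⧸ H.Zc)) with
    mul_comm := by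
      intro a b
      obtain ⟨a, rfl⟩ := QuotientGroup.mk_surjective a
      obtain ⟨b, rfl⟩ := QuotientGroup.mk_surjective b
      show ((a * b : ↥H.Q) : ↥H.Q ⧸ H.Zc) = ((b * a : ↥H.Q) : ↥H.Q ⧸ H.Zc)
      rw [QuotientGroup.eq, H.mem_Zc]
      rcases H.ext.comm a b with h | h <;> rw [h]
      · left; rw [inv_mul_cancel]; rfl
      · right
        rw [← mul_assoc, inv_mul_cancel, one_mul] }

/-- the projection -/
noncomputable def Hyp.mkV : ↥H.Q →* H.Vq := QuotientGroup.mk' H.Zc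

theorem Hyp.mkV_surj (v : H.Vq) : ∃ a : ↥H.Q, H.mkV a = v := QuotientGroup.mk_surjective v

theorem Hyp.mkV_eq_iff {a b : ↥H.Q} : H.mkV a = H.mkV b ↔ ∃ k, (b : G) = (a : G) * H.tp k := by
  show (a : ↥H.Q ⧸ H.Zc) = (b : ↥H.Q ⧸ H.Zc) ↔ _
  rw [QuotientGroup.eq, H.mem_Zc]
  push_cast
  constructor
  · rintro (h | h)
    · exact ⟨0, by rw [H.tp_zero, mul_one, inv_mul_eq_one.1 h]⟩
    · exact ⟨1, by rw [H.tp_one]; exact inv_mul_eq_iff_eq_mul.1 h⟩
  · rintro ⟨k, hk⟩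
    rw [hk, inv_mul_cancel_left]
    rcases bit_cases k with rfl | rfl
    · exact Or.inl H.tp_zero
    · exact Or.inr H.tp_one

theorem Hyp.mkV_eq_one_iff {a : ↥H.Q} : H.mkV a = 1 ↔ (a : G) = 1 ∨ (a : G) = H.t :=
  (QuotientGroup.eq_one_iff a).trans H.mem_Zc

/-- the form -/
noncomputable def Hyp.bf (v w : H.Vq) : ZMod 2 :=
  H.kap ((Classical.choose (H.mkV_surj v) : ↥H.Q) : G) ((Classical.choose (H.mkV_surj w) : ↥H.Q) : G)

theorem Hyp.bf_mk (a b : ↥H.Q) : H.bf (H.mkV a) (H.mkV b) = H.kap (a : G) b := by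
  obtain ⟨k, hk⟩ := H.mkV_eq_iff.1 (Classical.choose_spec (H.mkV_surj (H.mkV a)))
  obtain ⟨l, hl⟩ := H.mkV_eq_iff.1 (Classical.choose_spec (H.mkV_surj (H.mkV b)))
  rw [Hyp.bf]
  set a' := (Classical.choose (H.mkV_surj (H.mkV a)) : ↥H.Q)
  set b' := (Classical.choose (H.mkV_surj (H.mkV b)) : ↥H.Q)
  rw [hk, hl, H.kap_mul_left a'.2 (H.tp_mem k) (mul_mem b'.2 (H.tp_mem l)),
    H.kap_mul_right a'.2 b'.2 (H.tp_mem l), H.kap_tp a'.2, H.kap_symm (H.tp k),
    H.kap_tp (mul_mem b'.2 (H.tp_mem l)), add_zero, add_zero]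

/-- the space -/
noncomputable def Hyp.sp : Sp H.Vq where
  B := H.bf
  sq v := by
    obtain ⟨a, rfl⟩ := H.mkV_surj v
    rw [← map_mul, H.mkV_eq_one_iff]
    exact H.sq_mem a.2
  symm v w := by
    obtain ⟨a, rfl⟩ := H.mkV_surj v
    obtain ⟨b, rfl⟩ := H.mkV_surj w
    rw [H.bf_mk, H.bf_mk, H.kap_symm]
  self v := by
    obtain ⟨a, rfl⟩ := H.mkV_surj v
    rw [H.bf_mk, H.kap_self]
  mul_right u v w := by
    obtain ⟨a, rfl⟩ := H.mkV_surj u
    obtain ⟨b, rfl⟩ := H.mkV_surj v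
    obtain ⟨c, rfl⟩ := H.mkV_surj w
    rw [← map_mul, H.bf_mk, H.bf_mk, H.bf_mk]
    exact H.kap_mul_right a.2 b.2 c.2
  nondeg v hv := by
    obtain ⟨a, rfl⟩ := H.mkV_surj v
    rw [H.mkV_eq_one_iff]
    by_contra hne
    simp only [not_or] at hne
    obtain ⟨r, hr, hra⟩ := H.exists_noncommute a.2 hne.1 hne.2
    have h := hv (H.mkV ⟨r, hr⟩)
    rw [H.bf_mk, H.kap_eq_zero] at h
    exact H.t_ne (mul_left_cancel (a := (a : G) * r) (by rw [← hra, mul_one, h.eq]))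
  card := by
    have h := H.Zc.card_mul_index
    rw [H.Q_card, Hyp.Zc, Nat.card_zpowers, (orderOf_eq_prime_iff (p := 2) (hp := ⟨Nat.prime_two⟩)).2 ⟨?_, ?_⟩, Subgroup.index_eq_card] at h
    · show Nat.card (↥H.Q ⧸ Subgroup.zpowers (⟨H.t, H.t_mem⟩ : ↥H.Q)) = 256
      omega
    · rw [pow_two, H.ext.zz]
    · exact H.ext.ne

/-- conjugation by an element of the centralizer on `Q` -/
def Hyp.cjQ (c : ↥H.C) : ↥H.Q →* ↥H.Q where
  toFun a := ⟨(c : G) * a * (c : G)⁻¹, H.conj_mem c.2 a.2⟩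
  map_one' := Subtype.ext (by simp)
  map_mul' a b := Subtype.ext (by simp [mul_assoc])

/-- the action on the space -/
noncomputable def Hyp.act (c : ↥H.C) : H.Vq →* H.Vq :=
  QuotientGroup.lift H.Zc (H.mkV.comp (H.cjQ c)) fun a ha => by
    rw [MonoidHom.mem_ker, MonoidHom.comp_apply, H.mkV_eq_one_iff]
    rcases H.mem_Zc.1 ha with h | h
    · left; simp [Hyp.cjQ, h]
    · right
      show (c : G) * a * (c : G)⁻¹ = H.t
      rw [h, (H.mem_C.1 c.2).eq, mul_inv_cancel_right]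

theorem Hyp.act_mk (c : ↥H.C) (a : ↥H.Q) : H.act c (H.mkV a) = H.mkV (H.cjQ c a) := rfl

theorem Hyp.act_mul (c d : ↥H.C) (v : H.Vq) : H.act (c * d) v = H.act c (H.act d v) := by
  obtain ⟨a, rfl⟩ := H.mkV_surj v
  rw [H.act_mk, H.act_mk, H.act_mk]
  exact congrArg H.mkV (Subtype.ext (by simp [Hyp.cjQ, mul_assoc]))

theorem Hyp.act_one (v : H.Vq) : H.act 1 v = v := by
  obtain ⟨a, rfl⟩ := H.mkV_surj v
  rw [H.act_mk]
  exact congrArg H.mkV (Subtype.ext (by simp [Hyp.cjQ]))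

theorem Hyp.act_bf (c : ↥H.C) (v w : H.Vq) : H.bf (H.act c v) (H.act c w) = H.bf v w := by
  obtain ⟨a, rfl⟩ := H.mkV_surj v
  obtain ⟨b, rfl⟩ := H.mkV_surj w
  rw [H.act_mk, H.act_mk, H.bf_mk, H.bf_mk]
  exact H.kap_conj

theorem Hyp.act_congr {c d : ↥H.C} (h : H.π c = H.π d) (v : H.Vq) : H.act c v = H.act d v := by
  obtain ⟨a, rfl⟩ := H.mkV_surj v
  have hq := H.π_eq_iff.1 h
  set q : G := (c : G)⁻¹ * d with hqdef
  rw [H.act_mk, H.act_mk, H.mkV_eq_iff]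
  refine ⟨H.kap q a, ?_⟩
  show (d : G) * a * (d : G)⁻¹ = (c : G) * a * (c : G)⁻¹ * H.tp (H.kap q a)
  calc (d : G) * a * (d : G)⁻¹ = (c : G) * (q * a * q⁻¹) * (c : G)⁻¹ := by rw [hqdef]; group
    _ = (c : G) * (a * H.tp (H.kap q a)) * (c : G)⁻¹ := by rw [H.conj_eq hq a.2]
    _ = (c : G) * a * (H.tp (H.kap q a) * (c : G)⁻¹) := by group
    _ = _ := by rw [← (H.tp_comm (inv_mem c.2) _).eq]; simp only [mul_assoc]

theorem Hyp.faithful {c : ↥H.C} (hc : c ^ 3 = 1) (h : ∀ v, H.act c v = v) : c = 1 := by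
  have hcomm : ∀ a ∈ H.Q, (c : G) * a = a * c := by
    intro a ha
    have h1 := h (H.mkV ⟨a, ha⟩)
    rw [H.act_mk] at h1
    obtain ⟨k, hk⟩ := H.mkV_eq_iff.1 h1.symm
    have hk' : (c : G) * a * (c : G)⁻¹ = a * H.tp k := hk
    rcases bit_cases k with rfl | rfl
    · rw [H.tp_zero, mul_one] at hk'
      exact mul_inv_eq_iff_eq_mul.1 hk'
    · exfalso
      rw [H.tp_one] at hk'
      have hct := (H.mem_C.1 c.2).eq
      have step : (c : G) * (a * H.t) * (c : G)⁻¹ = a := by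
        calc (c : G) * (a * H.t) * (c : G)⁻¹ = ((c : G) * a * (c : G)⁻¹) * ((c : G) * H.t * (c : G)⁻¹) := by group
          _ = a * H.t * H.t := by rw [hk', hct, mul_inv_cancel_right]
          _ = a := by rw [mul_assoc, H.t_sq, mul_one]
      have h3 : (c : G) * c * c = 1 := by
        have := congrArg Subtype.val hc
        simpa [pow_succ] using this
      have e : a = a * H.t := by
        calc a = ((c : G) * c * c) * a * ((c : G) * c * c)⁻¹ := by rw [h3]; group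
          _ = (c : G) * ((c : G) * ((c : G) * a * (c : G)⁻¹) * (c : G)⁻¹) * (c : G)⁻¹ := by group
          _ = a * H.t := by rw [hk', step, hk']
      exact H.t_ne (left_eq_mul.1 e)
  rcases H.self_cent c hcomm with e | e
  · exact Subtype.ext e
  · exfalso
    have h3 := congrArg Subtype.val hc
    rw [SubmonoidClass.coe_pow, OneMemClass.coe_one, e, pow_succ, pow_two, H.t_sq, one_mul] at h3
    exact H.t_ne h3

end Cfsg.Agent.Spor.OmegaEightCent
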