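import Cfsg.Agent.Lib.Spor.OmegaEightCent.Twist

/-!
The relations of the model hold in the group, and the model embeds.
-/

set_option autoImplicit false
set_option linter.style.haveILetI false
set_option linter.unusedSectionVars false
set_option maxRecDepth 10000
set_option maxHeartbeats 1000000
set_option linter.unusedVariables false

namespace Cfsg.Agent.Spor.OmegaEightCent

open DCoset

universe u

/-- the algebra behind the exclusion: a triple of conjugates of one involution -/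
theorem no_twist {Γ : Type*} [Group Γ] {r n q x b : Γ} (hr3 : r * r * r = 1) (hn : n * n = 1)
    (hq : q * q = 1) (hnr : n * r * n = r * r) (hnq : Commute n q) (hqx : Commute q x) (hqb : Commute q b)
    (hxb : r * x * r⁻¹ = b) (hb : r * b * r⁻¹ = x * b) (hcomm : Commute x b) (hx : x * x = 1) (hbb : b * b = 1)
    (key : n * (r * q * r⁻¹) * n * (r * q * r⁻¹) = q * x) : b = x := by
  have hri : r⁻¹ = r * r := inv_eq_of_mul_eq_one_right (by rw [← mul_assoc, hr3])
  set Q := r * q * r⁻¹ with hQ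
  set R := r⁻¹ * q * r with hR
  have hni : n⁻¹ = n := inv_eq_of_mul_eq_one_right hn
  have hnQ : n * Q * n = R := by
    have h1 : n * r⁻¹ * n = r := by
      have h := congrArg (fun z => z⁻¹) hnr
      simp only [mul_inv_rev, hni] at h
      rw [mul_assoc, h, hri]
      calc r * r * (r * r) = (r * r * r) * r := by group
        _ = r := by rw [hr3, one_mul]
    calc n * Q * n = (n * r * n) * (n * q * n) * (n * r⁻¹ * n) := by
          rw [hQ]
          simp only [mul_assoc]
          simp only [← mul_assoc n n, hn, one_mul]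
      _ = r⁻¹ * q * r := by rw [hnr, hnq.eq, mul_assoc q, hn, mul_one, h1, hri]
      _ = R := hR.symm
  have hRQ : R * Q = q * x := by rw [← hnQ]; exact key
  -- transport around the triangle
  have hRc : r * R * r⁻¹ = q := by rw [hR]; group
  have hQc : r * Q * r⁻¹ = R := by
    rw [hQ, hR, hri]
    calc r * (r * q * (r * r)) * (r * r) = r * r * q * (r * r * r) * r := by group
      _ = _ := by rw [hr3, mul_one]
  have h1 : q * R = Q * b := by
    have h := congrArg (fun z => r * z * r⁻¹) hRQ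
    rw [show r * (R * Q) * r⁻¹ = r * R * r⁻¹ * (r * Q * r⁻¹) by group, hRc, hQc,
      show r * (q * x) * r⁻¹ = r * q * r⁻¹ * (r * x * r⁻¹) by group, hxb, ← hQ] at h
    exact h
  have h2 : Q * q = R * (x * b) := by
    have h := congrArg (fun z => r * z * r⁻¹) h1
    rw [show r * (q * R) * r⁻¹ = r * q * r⁻¹ * (r * R * r⁻¹) by group, hRc,
      show r * (Q * b) * r⁻¹ = r * Q * r⁻¹ * (r * b * r⁻¹) by group, hQc, hb, ← hQ] at h
    exact h
  have hQQ : Q * Q = 1 := by
    calc Q * Q = r * (q * q) * r⁻¹ := by rw [hQ]; group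
      _ = 1 := by rw [hq]; group
  have hR1 : R = q * Q * b := by
    calc R = (q * q) * R := by rw [hq, one_mul]
      _ = q * (Q * b) := by rw [mul_assoc, h1]
      _ = _ := (mul_assoc _ _ _).symm
  have hQx : Commute Q (x * b) := by
    have h : Commute (r * q * r⁻¹) (r * x * r⁻¹) := (Commute.conj_iff r).2 hqx
    have h' : Commute (r * q * r⁻¹) (r * b * r⁻¹) := (Commute.conj_iff r).2 hqb
    rw [hb] at h'
    exact h'
  have hQb : Commute Q b := by
    have h : Commute (r * q * r⁻¹) (r * x * r⁻¹) := (Commute.conj_iff r).2 hqx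
    rwa [hxb] at h
  have h3 : q * b = q * x := by
    rw [← hRQ, hR1, mul_assoc (q * Q), ← hQb.eq, ← mul_assoc, mul_assoc q, hQQ, mul_one]
  exact mul_left_cancel h3

variable {G : Type u} [Group G] [Finite G] {H : Hyp G} (S : Setup H)

/-- the product of an involution and the moving involution -/
noncomputable def Setup.uu' (S : Setup H) (k : Fin 4) : G := S.f (rW k) * S.sig

theorem Setup.r_sq (k : Fin 4) : S.f (rW k) * S.f (rW k) = 1 := by
  rw [← S.f_append, S.f_eq (chain_checks k).2, S.f_nil]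

theorem Setup.u_inv (k : Fin 4) : (S.uu' k)⁻¹ = S.sig * S.f (rW k) := by
  rw [Setup.uu', mul_inv_rev, inv_eq_of_mul_eq_one_right S.sig_sq, inv_eq_of_mul_eq_one_right (S.r_sq k)]

theorem Setup.u_step (k : Fin 4) {a b : List ℕ} (ha : ∀ j ∈ a, j < 9)
    (h : oCert.ev mu (rW k ++ sW a ++ rW k) = oCert.ev mu (pW b)) :
    S.uu' k * S.f (pW a) * (S.uu' k)⁻¹ = S.f (pW b) := by
  rw [S.u_inv, Setup.uu']
  calc S.f (rW k) * S.sig * S.f (pW a) * (S.sig * S.f (rW k))
      = S.f (rW k) * (S.sig * (S.f (pW a) * S.sig)) * S.f (rW k) := by simp only [mul_assoc]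
    _ = S.f (rW k) * S.f (sW a) * S.f (rW k) := by
        rw [S.twist_words a ha, ← mul_assoc S.sig, S.sig_sq, one_mul]
    _ = S.f (pW b) := by rw [← S.f_append, ← S.f_append, S.f_eq h]

/-- the cube acts trivially on the chains -/
theorem Setup.cube_fix (k : Fin 4) : ∀ c ∈ chain k,
    Commute (S.uu' k * S.uu' k * S.uu' k) (S.f (pW c.1)) := by
  intro c hc
  have h := List.all_eq_true.1 (chain_checks k).1 c hc
  simp only [Bool.and_eq_true, List.all_eq_true, Nat.blt_eq, Nat.beq_eq] at h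
  obtain ⟨⟨⟨⟨⟨l1, l2⟩, l3⟩, e1⟩, e2⟩, e3⟩ := h
  show _ * _ = _ * _
  set u := S.uu' k
  refine mul_inv_eq_iff_eq_mul.1 ?_
  calc u * u * u * S.f (pW c.1) * (u * u * u)⁻¹
      = u * (u * (u * S.f (pW c.1) * u⁻¹) * u⁻¹) * u⁻¹ := by group
    _ = S.f (pW c.1) := by rw [S.u_step k l1 e1, S.u_step k l2 e2, S.u_step k l3 e3]

/-- conjugation of the first three involutions -/
theorem Setup.u_zero : S.uu' 0 * H.t * (S.uu' 0)⁻¹ = H.t * S.f [0] ∧ S.uu' 0 * S.f [0] * (S.uu' 0)⁻¹ = H.t := by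
  rw [S.u_inv, Setup.uu', show S.f (rW 0) = S.f (xW 7) from rfl]
  constructor
  · calc _ = S.f (xW 7) * (S.sig * H.t * S.sig) * S.f (xW 7) := by simp only [mul_assoc]
      _ = _ := by rw [S.sig_t, S.x7_x]
  · calc _ = S.f (xW 7) * (S.sig * S.f [0] * S.sig) * S.f (xW 7) := by simp only [mul_assoc]
      _ = _ := by rw [S.sig_x, S.x7_t]

theorem Setup.r_conj (i : Fin 3) : S.f (rW i.succ) * H.t * S.f (rW i.succ) = H.t ∧
    S.f (rW i.succ) * S.f [0] * S.f (rW i.succ) = S.f (xW (bit8 i)) ∧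
    S.f (rW i.succ) * S.f (xW (bit8 i)) * S.f (rW i.succ) = S.f [0] := by
  obtain ⟨-, h1, h2, h3, -⟩ := word_checks i
  refine ⟨?_, ?_, ?_⟩
  · rw [← S.φt, ← Setup.f, ← S.f_append, ← S.f_append]; exact S.f_eq h1
  · rw [← S.f_append, ← S.f_append]; exact S.f_eq h2
  · rw [← S.f_append, ← S.f_append]; exact S.f_eq h3

theorem Setup.u_succ (i : Fin 3) : S.uu' i.succ * H.t * (S.uu' i.succ)⁻¹ = S.f (xW (bit8 i)) ∧
    S.uu' i.succ * S.f (xW (bit8 i)) * (S.uu' i.succ)⁻¹ = S.f [0] ∧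
    S.uu' i.succ * S.f [0] * (S.uu' i.succ)⁻¹ = H.t := by
  obtain ⟨h1, h2, h3⟩ := S.r_conj i
  rw [S.u_inv, Setup.uu']
  set r := S.f (rW i.succ)
  refine ⟨?_, ?_, ?_⟩
  · calc _ = r * (S.sig * H.t * S.sig) * r := by simp only [mul_assoc]
      _ = _ := by rw [S.sig_t, h2]
  · calc _ = r * (S.sig * S.f (xW (bit8 i)) * S.sig) * r := by simp only [mul_assoc]
      _ = _ := by rw [mul_assoc S.sig, S.sig_b, ← mul_assoc S.sig, S.sig_sq, one_mul, h3]
  · calc _ = r * (S.sig * S.f [0] * S.sig) * r := by simp only [mul_assoc]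
      _ = _ := by rw [S.sig_x, h1]

/-- the cube is one of the allowed elements -/
theorem Setup.cube_cand (k : Fin 4) (ht : Commute (S.uu' k * S.uu' k * S.uu' k) H.t)
    (hx : Commute (S.uu' k * S.uu' k * S.uu' k) (S.f [0])) :
    ∃ w ∈ candW k, S.uu' k * S.uu' k * S.uu' k = S.f w := by
  obtain ⟨a, ha⟩ := S.mem ht
  have haU : Commute a (RA.wel oCert.u) := S.inj (by
    rw [map_mul, map_mul, ha]; exact hx.eq)
  have hv := List.all_eq_true.1 (center_checks k) _ (cent_listed S.cardA haU)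
  simp only [centStep, Bool.or_eq_true, Bool.not_eq_true', List.any_eq_true, Nat.beq_eq] at hv
  rcases hv with h | ⟨w, hw, e⟩
  · exfalso
    rw [List.all_eq_false] at h
    obtain ⟨c, hc, hne⟩ := h
    refine hne ?_
    rw [Nat.beq_eq, ← RA.cd_wel, ← RA.cd_mul, ← RA.cd_mul]
    refine congrArg RA.cd (S.inj ?_)
    rw [map_mul, map_mul, ha]
    exact (S.cube_fix k c hc).eq
  · exact ⟨w, hw, ha.symm.trans (congrArg S.φ (RA.eq_of_cd (e.trans (RA.cd_wel w).symm)))⟩

theorem Setup.f_ne {v w : List ℕ} (h : oCert.ev mu v ≠ oCert.ev mu w) : S.f v ≠ S.f w := fun e =>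
  h (by rw [← RA.cd_wel, ← RA.cd_wel, S.inj e])

theorem Setup.rel_zero : S.uu' 0 * S.uu' 0 * S.uu' 0 = 1 := by
  obtain ⟨h1, h2⟩ := S.u_zero
  set u := S.uu' 0 with hu
  have h3 : u * (H.t * S.f [0]) * u⁻¹ = S.f [0] := by
    rw [show u * (H.t * S.f [0]) * u⁻¹ = u * H.t * u⁻¹ * (u * S.f [0] * u⁻¹) by group, h1, h2, mul_assoc,
      (show Commute (S.f [0]) H.t from S.comm_t _).eq, ← mul_assoc, H.t_sq, one_mul]
  have ht : Commute (u * u * u) H.t := by
    refine mul_inv_eq_iff_eq_mul.1 ?_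
    calc u * u * u * H.t * (u * u * u)⁻¹ = u * (u * (u * H.t * u⁻¹) * u⁻¹) * u⁻¹ := by group
      _ = H.t := by rw [h1, h3, h2]
  have hx : Commute (u * u * u) (S.f [0]) := by
    refine mul_inv_eq_iff_eq_mul.1 ?_
    calc u * u * u * S.f [0] * (u * u * u)⁻¹ = u * (u * (u * S.f [0] * u⁻¹) * u⁻¹) * u⁻¹ := by group
      _ = S.f [0] := by rw [h2, h1, h3]
  obtain ⟨w, hw, e⟩ := S.cube_cand 0 ht hx
  rw [← hu] at e
  have hfix : u * S.f w * u⁻¹ = S.f w := by rw [← e]; group
  have hne : oCert.ev mu tW ≠ oCert.ev mu [0] ∧ oCert.ev mu [0] ≠ oCert.ev mu (tW ++ [0]) ∧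
      oCert.ev mu tW ≠ oCert.ev mu (tW ++ [0]) := by decide +kernel
  simp only [candW, List.mem_cons, List.not_mem_nil, or_false] at hw
  rcases hw with rfl | rfl | rfl | rfl
  · rw [e, S.f_nil]
  · exfalso
    rw [show S.f tW = H.t from S.φt, h1, ← S.φt, ← Setup.f, ← S.f_append] at hfix
    exact S.f_ne hne.2.2 hfix.symm
  · exfalso
    rw [h2, ← S.φt, ← Setup.f] at hfix
    exact S.f_ne hne.1 hfix
  · exfalso
    rw [S.f_append, show S.f tW = H.t from S.φt, h3, ← S.φt, ← Setup.f, ← S.f_append] at hfix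
    exact S.f_ne hne.2.1 hfix

/-- the image of `x7` under the moving involution -/
theorem Setup.sig_x7 : S.sig * S.f (xW 7) * S.sig = S.q := by
  have h := S.rel_zero
  simp only [Setup.uu', show S.f (rW 0) = S.f (xW 7) from rfl] at h
  set x := S.f (xW 7)
  set s := S.sig with hs
  set q := S.q
  have hxq : x * s = q * x := by
    rw [hs, Setup.sig, ← mul_assoc, ← mul_assoc, S.x7_sq, one_mul]
  rw [hxq] at h
  have h2 : x * q * x * q * x = q := by
    have := congrArg (fun z => q * z) h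
    simp only [mul_assoc, mul_one] at this
    rw [← mul_assoc q q, S.q_sq, one_mul] at this
    simpa only [mul_assoc] using this
  calc s * x * s = x * q * (x * x) * x * q * x := by rw [hs, Setup.sig]; simp only [mul_assoc]; rfl
    _ = q := by rw [S.x7_sq, mul_one, h2]

theorem succ_checks : ∀ i : Fin 3,
    (oCert.ev mu tW ≠ oCert.ev mu (xW (bit8 i))) ∧ (oCert.ev mu [0] ≠ oCert.ev mu tW) ∧
    (oCert.ev mu (tW ++ [0]) ≠ oCert.ev mu (xW (bit8 i) ++ tW)) ∧
    (oCert.ev mu (xW (bit8 i)) ≠ oCert.ev mu [0]) ∧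
    (oCert.ev mu (tW ++ xW (bit8 i)) ≠ oCert.ev mu (xW (bit8 i) ++ [0])) ∧
    (oCert.ev mu ([0] ++ xW (bit8 i)) ≠ oCert.ev mu (tW ++ [0])) ∧
    (oCert.ev mu (tW ++ [0] ++ xW (bit8 i) ++ (tW ++ [0] ++ xW (bit8 i))) = oCert.ev mu []) ∧
    (oCert.ev mu ([i.val + 1] ++ [i.val + 1] ++ [i.val + 1]) = oCert.ev mu []) ∧
    (oCert.ev mu ([i.val + 4] ++ [i.val + 4]) = oCert.ev mu []) ∧
    (oCert.ev mu ([i.val + 4] ++ [i.val + 1] ++ [i.val + 4]) = oCert.ev mu ([i.val + 1] ++ [i.val + 1])) ∧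
    (oCert.ev mu ([i.val + 1] ++ [0]) = oCert.ev mu (xW (bit8 i) ++ [i.val + 1])) ∧
    (oCert.ev mu ([i.val + 1] ++ xW (bit8 i)) = oCert.ev mu ([0] ++ xW (bit8 i) ++ [i.val + 1])) ∧
    (oCert.ev mu ([0] ++ xW (bit8 i)) = oCert.ev mu (xW (bit8 i) ++ [0])) ∧
    (oCert.ev mu ([0] ++ [0]) = oCert.ev mu []) ∧
    (oCert.ev mu (xW (bit8 i) ++ xW (bit8 i)) = oCert.ev mu []) := by decide +kernel

theorem Setup.rel_succ (i : Fin 3) : S.uu' i.succ * S.uu' i.succ * S.uu' i.succ = 1 := by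
  obtain ⟨h1, h2, h3⟩ := S.u_succ i
  set u := S.uu' i.succ with hu
  have ht : Commute (u * u * u) H.t := by
    refine mul_inv_eq_iff_eq_mul.1 ?_
    calc u * u * u * H.t * (u * u * u)⁻¹ = u * (u * (u * H.t * u⁻¹) * u⁻¹) * u⁻¹ := by group
      _ = H.t := by rw [h1, h2, h3]
  have hx : Commute (u * u * u) (S.f [0]) := by
    refine mul_inv_eq_iff_eq_mul.1 ?_
    calc u * u * u * S.f [0] * (u * u * u)⁻¹ = u * (u * (u * S.f [0] * u⁻¹) * u⁻¹) * u⁻¹ := by group
      _ = S.f [0] := by rw [h3, h1, h2]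
  obtain ⟨w, hw, e⟩ := S.cube_cand i.succ ht hx
  rw [← hu] at e
  have hfix : u * S.f w * u⁻¹ = S.f w := by rw [← e]; group
  have hT : S.f tW = H.t := S.φt
  have hmul : ∀ a b : G, u * (a * b) * u⁻¹ = u * a * u⁻¹ * (u * b * u⁻¹) := fun a b => by group
  obtain ⟨d1, d2, d3, d4, d5, d6, de, dρ, dn, dnr, drx, drb, dxb, dxx, dbb⟩ := succ_checks i
  have hcand : candW i.succ = [[], tW, [0], tW ++ [0], xW (bit8 i), tW ++ xW (bit8 i), [0] ++ xW (bit8 i),
      tW ++ [0] ++ xW (bit8 i)] := by fin_cases i <;> rfl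
  rw [hcand] at hw
  simp only [List.mem_cons, List.not_mem_nil, or_false] at hw
  rcases hw with rfl | rfl | rfl | rfl | rfl | rfl | rfl | rfl
  · rw [e, S.f_nil]
  · exfalso
    rw [hT, h1] at hfix
    exact S.f_ne d1 (hT.trans hfix.symm)
  · exfalso
    rw [h3] at hfix
    exact S.f_ne d2 (hfix.symm.trans hT.symm)
  · exfalso
    rw [S.f_append, hmul, hT, h1, h3, ← hT, ← S.f_append, ← S.f_append] at hfix
    exact S.f_ne d3 hfix.symm
  · exfalso
    rw [h2] at hfix
    exact S.f_ne d4 hfix.symm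
  · exfalso
    rw [S.f_append, hmul, hT, h1, h2, ← hT, ← S.f_append, ← S.f_append] at hfix
    exact S.f_ne d5 hfix.symm
  · exfalso
    rw [S.f_append, hmul, h3, h2, ← hT, ← S.f_append, ← S.f_append] at hfix
    exact S.f_ne d6 hfix.symm
  · exfalso
    obtain ⟨wρn, -, -, -, wa, we, wkey⟩ := word_checks i
    set ρ := S.f [i.val + 1] with hρ
    set n := S.f [i.val + 4] with hn
    set x := S.f [0] with hxd
    set b := S.f (xW (bit8 i)) with hb
    set a := S.f (xW (7 ^^^ bit8 i)) with ha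
    set c := S.f (rW i.succ) with hc
    have hcc : c * c = 1 := S.r_sq _
    have hσ := S.sig_sq
    have hcρn : c = ρ * n := by rw [hc, hρ, hn, ← S.f_append]; exact (S.f_eq wρn).symm
    have hρ3 : ρ * ρ * ρ = 1 := by rw [hρ, ← S.f_append, ← S.f_append, S.f_eq dρ, S.f_nil]
    have hnn : n * n = 1 := by rw [hn, ← S.f_append, S.f_eq dn, S.f_nil]
    have hca : c * a * c = S.f (xW 7) := by
      rw [hc, ha, ← S.f_append, ← S.f_append]; exact S.f_eq wa
    have hσn : S.sig * n * S.sig = a := by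
      rw [mul_assoc, hn, S.sig_n, ← mul_assoc, hσ, one_mul]
    have hu1 : u * n * u⁻¹ = S.f (xW 7) := by
      rw [hu, S.u_inv, Setup.uu', ← hc]
      calc c * S.sig * n * (S.sig * c) = c * (S.sig * n * S.sig) * c := by simp only [mul_assoc]
        _ = _ := by rw [hσn, hca]
    have hu2 : u * S.f (xW 7) * u⁻¹ = c * S.q * c := by
      rw [hu, S.u_inv, Setup.uu', ← hc]
      calc c * S.sig * S.f (xW 7) * (S.sig * c) = c * (S.sig * S.f (xW 7) * S.sig) * c := by simp only [mul_assoc]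
        _ = _ := by rw [S.sig_x7]
    have hu3 : u * (c * S.q * c) * u⁻¹ = n * x := by
      have he : S.f (tW ++ [0] ++ xW (bit8 i)) * S.f (tW ++ [0] ++ xW (bit8 i)) = 1 := by
        rw [← S.f_append, S.f_eq de, S.f_nil]
      rw [← hu2, ← hu1]
      calc u * (u * (u * n * u⁻¹) * u⁻¹) * u⁻¹ = (u * u * u) * n * (u * u * u)⁻¹ := by group
        _ = _ := by
          rw [e, inv_eq_of_mul_eq_one_right he, hn, hxd, ← S.f_append, ← S.f_append, ← S.f_append]
          refine S.f_eq (Eq.trans ?_ we)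
          simp only [List.append_assoc]
    have hcq : c * S.q * c = ρ * S.q * ρ⁻¹ := by
      have hci : c⁻¹ = c := inv_eq_of_mul_eq_one_right hcc
      conv_lhs => rw [show c * S.q * c = c * S.q * c⁻¹ by rw [hci]]
      rw [hcρn, mul_inv_rev, inv_eq_of_mul_eq_one_right hnn]
      calc ρ * n * S.q * (n * ρ⁻¹) = ρ * (n * S.q) * n * ρ⁻¹ := by simp only [mul_assoc]
        _ = ρ * S.q * (n * n) * ρ⁻¹ := by
            rw [hn, show S.f [i.val + 4] * S.q = S.q * S.f [i.val + 4] from (S.comm_n i).symm.eq]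
            simp only [mul_assoc]
        _ = _ := by rw [hnn, mul_one]
    have hu4 : u * S.q * u⁻¹ = a := by
      rw [hu, S.u_inv, Setup.uu', ← hc]
      have h7 : S.sig * S.q * S.sig = S.f (xW 7) := by
        rw [← S.sig_x7]
        calc S.sig * (S.sig * S.f (xW 7) * S.sig) * S.sig = (S.sig * S.sig) * S.f (xW 7) * (S.sig * S.sig) := by
              simp only [mul_assoc]
          _ = _ := by rw [hσ, one_mul, mul_one]
      calc c * S.sig * S.q * (S.sig * c) = c * (S.sig * S.q * S.sig) * c := by simp only [mul_assoc]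
        _ = (c * c) * a * (c * c) := by rw [h7, ← hca]; simp only [mul_assoc]
        _ = a := by rw [hcc, one_mul, mul_one]
    have key : n * (ρ * S.q * ρ⁻¹) * n * (ρ * S.q * ρ⁻¹) = S.q * x := by
      rw [← hcq]
      refine mul_left_cancel (a := u) (mul_right_cancel (b := u⁻¹) ?_)
      calc u * (n * (c * S.q * c) * n * (c * S.q * c)) * u⁻¹
          = (u * n * u⁻¹) * (u * (c * S.q * c) * u⁻¹) * (u * n * u⁻¹) * (u * (c * S.q * c) * u⁻¹) := by group
        _ = a * H.t := by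
            rw [hu1, hu3, ← hT, ha, hn, hxd]
            simp only [← S.f_append]
            refine S.f_eq (Eq.trans ?_ wkey)
            simp only [List.append_assoc]
        _ = _ := by rw [hmul, hu4, h3]
    have hbx := no_twist (x := x) (b := b) hρ3 hnn S.q_sq
      (by rw [hρ, hn, ← S.f_append, ← S.f_append, ← S.f_append]; exact S.f_eq dnr)
      (S.comm_n i).symm S.comm_x0 (S.comm_b i)
      (by rw [mul_inv_eq_iff_eq_mul, hρ, hxd, hb, ← S.f_append, ← S.f_append]; exact S.f_eq drx)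
      (by rw [mul_inv_eq_iff_eq_mul, hρ, hxd, hb, ← S.f_append, ← S.f_append, ← S.f_append]; exact S.f_eq drb)
      (show x * b = b * x by rw [hxd, hb, ← S.f_append, ← S.f_append]; exact S.f_eq dxb)
      (by rw [hxd, ← S.f_append, S.f_eq dxx, S.f_nil]) (by rw [hb, ← S.f_append, S.f_eq dbb, S.f_nil]) key
    exact S.f_ne d4 hbx

theorem Setup.rel (k : Fin 4) : S.uu' k * S.uu' k * S.uu' k = 1 := by
  refine Fin.cases S.rel_zero (fun i => S.rel_succ i) k

/-- the relations in the group -/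
noncomputable def Setup.sys (S : Setup H) : Sys RA G where
  φ := S.φ
  σ := S.sig
  sq := S.sig_sq
  twist := S.twist
  rel zs hzs := by
    obtain ⟨k, hk⟩ := rels_eq zs hzs
    have h : (zs.map fun z => S.φ (RA.wel z.1) * S.sig) = (zs.map Prod.fst).map fun w => S.f w * S.sig := by
      rw [List.map_map]; rfl
    rw [h, hk]
    simp only [List.map_cons, List.map_nil, List.prod_cons, List.prod_nil, mul_one]
    rw [← mul_assoc]
    exact S.rel k

/-- **The model embeds.** -/
theorem Setup.exists_model (S : Setup H) :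
    ∃ f : ↥KM →* G, Function.Injective f ∧ ∀ a : ↥AM, f (Subgroup.inclusion AM_le a) = S.φ a := by
  have hA := S.cardA
  haveI : Finite ↥AM := Nat.finite_of_card_ne_zero (by rw [hA]; norm_num)
  haveI : Finite ↥KM := Nat.finite_of_card_ne_zero (by rw [card_KM hA]; norm_num)
  let T : Sys RA (G × ↥KM) :=
    { φ := S.sys.φ.prod sysK.φ
      σ := (S.sys.σ, sysK.σ)
      sq := Prod.ext S.sys.sq sysK.sq
      twist := fun w hw => Prod.ext (S.sys.twist w hw) (sysK.twist w hw)
      rel := fun zs hzs => by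
        refine Prod.ext ?_ ?_
        · refine (map_list_prod (MonoidHom.fst G ↥KM) _).trans ?_
          rw [List.map_map]
          exact S.sys.rel zs hzs
        · refine (map_list_prod (MonoidHom.snd G ↥KM) _).trans ?_
          rw [List.map_map]
          exact sysK.rel zs hzs }
  set M := Subgroup.closure (Set.range T.φ ∪ {T.σ}) with hM
  have hle : Nat.card ↥M ≤ 174182400 := by
    refine (card_le T cert_ok hA pts_nodup).trans ?_
    rw [show oCert.total = 1575 from beq_iff_eq.1 cert_total]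
  let π : ↥M →* ↥KM := (MonoidHom.snd G ↥KM).comp M.subtype
  have hsurj : Function.Surjective π := by
    rw [← MonoidHom.range_eq_top, eq_top_iff, ← KM_eq, Subgroup.closure_le]
    rintro x (⟨a, rfl⟩ | hx)
    · exact ⟨⟨T.φ a, Subgroup.subset_closure (Or.inl ⟨a, rfl⟩)⟩, rfl⟩
    · obtain rfl := Set.mem_singleton_iff.1 hx
      exact ⟨⟨T.σ, Subgroup.subset_closure (Or.inr rfl)⟩, rfl⟩
  have hbij : Function.Bijective π :=
    (Nat.bijective_iff_surjective_and_card _).2
      ⟨hsurj, le_antisymm (hle.trans_eq (card_KM hA).symm) (Nat.card_le_card_of_surjective π hsurj)⟩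
  let e := MulEquiv.ofBijective π hbij
  set f : ↥KM →* G := ((MonoidHom.fst G ↥KM).comp M.subtype).comp e.symm.toMonoidHom with hf
  have hfa : ∀ a : ↥AM, f (Subgroup.inclusion AM_le a) = S.φ a := by
    intro a
    have : e.symm (Subgroup.inclusion AM_le a) = ⟨T.φ a, Subgroup.subset_closure (Or.inl ⟨a, rfl⟩)⟩ := by
      rw [MulEquiv.symm_apply_eq]; rfl
    show (e.symm (Subgroup.inclusion AM_le a) : G × ↥KM).1 = _
    rw [this]
    rfl
  haveI : IsSimpleGroup ↥KM := (model_iso hA).1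
  refine ⟨f, (MonoidHom.ker_eq_bot_iff _).1 ((Subgroup.Normal.eq_bot_or_eq_top inferInstance).resolve_right
    fun h => ?_), hfa⟩
  have h1 : f tK = 1 := MonoidHom.mem_ker.1 (h ▸ Subgroup.mem_top _)
  refine H.t_ne ?_
  rw [← S.φt, ← h1]
  exact (hfa _).symm

end Cfsg.Agent.Spor.OmegaEightCent
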