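import Cfsg.Agent.Lib.Spor.OmegaEightCent.Pair
import Cfsg.Agent.Lib.Spor.OmegaEightCent.Quot
import Cfsg.Agent.Lib.Spor.OmegaEightCent.Lifts

/-!
In the fused case the space is the tensor product of three natural modules.
-/

set_option autoImplicit false
set_option linter.style.haveILetI false
set_option linter.unusedSectionVars false
set_option maxRecDepth 10000

namespace Cfsg.Agent.Spor.OmegaEightCent

universe u

variable {G : Type u} [Group G] [Finite G]

/-- A conjugate of `t` in `Q`, with the image of the other group normalized. -/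
structure Normal3 (H : Hyp G) (g : G) : Prop where
  P : InQ H g
  img : ∀ (r : ↥H.C), (r : G) ∈ H.Qg g → ∃ i j k, H.π r = epsW i j k
  lift : ∀ i j k, ∃ r : ↥H.C, (r : G) ∈ H.Qg g ∧ H.π r = epsW i j k

theorem exists_normal3 (H : Hyp G) {g : G} (P : InQ H g) :
    ∃ H' : Hyp G, H'.t = H.t ∧ Normal3 H' g := by
  obtain ⟨a, b, c, ha, hb, hc, hsub, hall⟩ := eight_product P.inv.ψ.range (by
    rintro _ ⟨e, rfl⟩
    exact P.inv.ψ_sq e) P.inv.counts.2.ge
  obtain ⟨ka, hka⟩ := conj_to_sw3 a ha.1 ha.2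
  obtain ⟨kb, hkb⟩ := conj_to_sw3 b hb.1 hb.2
  obtain ⟨kc, hkc⟩ := conj_to_sw3 c hc.1 hc.2
  let k : S3c := (ka, kb, kc)
  let φ : S3c ≃* S3c := MulAut.conj k
  let H' : Hyp G :=
    { H with
      π := φ.toMonoidHom.comp H.π
      π_surj := φ.surjective.comp H.π_surj
      π_ker := fun x => by
        show φ (H.π x) = 1 ↔ _
        rw [EmbeddingLike.map_eq_one_iff]
        exact H.π_ker x }
  refine ⟨H', rfl, ⟨P.mem, P.ne⟩, fun r hr => ?_, fun i j l => ?_⟩
  · have hmem : g⁻¹ * (r : G) * g ∈ P.inv.cent := by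
      refine P.inv.mem_cent.2 ⟨mem_Qg.1 hr, ?_⟩
      have h := (Commute.conj_iff g⁻¹).2 (H.mem_C.1 r.2)
      rw [inv_inv] at h ⊢
      exact h
    have e : P.inv.ψ ⟨_, hmem⟩ = H.π r := congrArg H.π (Subtype.ext (by simp [mul_assoc]))
    obtain ⟨h1, h2, h3⟩ := hsub _ ⟨_, e⟩
    refine ⟨decide ((H.π r).1 = a), decide ((H.π r).2.1 = b), decide ((H.π r).2.2 = c), ?_⟩
    show k * H.π r * k⁻¹ = _
    refine Prod.ext ?_ (Prod.ext ?_ ?_)
    · show ka * (H.π r).1 * ka⁻¹ = _
      rcases h1 with h | h <;> rw [h]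
      · simp [epsW, Ne.symm ha.2]
      · simp [epsW, hka]
    · show kb * (H.π r).2.1 * kb⁻¹ = _
      rcases h2 with h | h <;> rw [h]
      · simp [epsW, Ne.symm hb.2]
      · simp [epsW, hkb]
    · show kc * (H.π r).2.2 * kc⁻¹ = _
      rcases h3 with h | h <;> rw [h]
      · simp [epsW, Ne.symm hc.2]
      · simp [epsW, hkc]
  · obtain ⟨e, he⟩ := hall i j l
    refine ⟨⟨g * e * g⁻¹, ?_⟩, ?_, ?_⟩
    · have := P.inv.cent_mem_C e.2
      rwa [inv_inv] at this
    · refine mem_Qg.2 ?_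
      show g⁻¹ * (g * (e : G) * g⁻¹) * g ∈ H.Q
      rw [show g⁻¹ * (g * (e : G) * g⁻¹) * g = e by group]
      exact (P.inv.mem_cent.1 e.2).1
    · show φ (H.π _) = _
      have e2 : P.inv.ψ e = H.π ⟨g * e * g⁻¹, by have := P.inv.cent_mem_C e.2; rwa [inv_inv] at this⟩ :=
        congrArg H.π (Subtype.ext (by simp [mul_assoc]))
      rw [← e2, he]
      show k * _ * k⁻¹ = _
      cases i <;> cases j <;> cases l <;> simp [epsW, k, Prod.ext_iff, hka, hkb, hkc]

variable {H : Hyp G} {g : G}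

/-- the distinguished vector -/
noncomputable def InQ.xv (P : InQ H g) : H.Vq := H.mkV ⟨g * H.t * g⁻¹, P.mem⟩

/-- the image of the intersection -/
noncomputable def Hyp.UU (H : Hyp G) (g : G) : Subgroup H.Vq := ((H.Dg g).subgroupOf H.Q).map H.mkV

theorem InQ.mem_UU (P : InQ H g) {a : ↥H.Q} : H.mkV a ∈ H.UU g ↔ (a : G) ∈ H.Dg g := by
  constructor
  · rintro ⟨b, hb, hab⟩
    obtain ⟨k, hk⟩ := H.mkV_eq_iff.1 hab
    rw [hk]
    refine mul_mem (Subgroup.mem_subgroupOf.1 hb) ?_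
    rcases bit_cases k with e | e <;> rw [e]
    · rw [H.tp_zero]; exact one_mem _
    · rw [H.tp_one]; exact P.t_mem_Dg
  · intro h
    exact ⟨a, Subgroup.mem_subgroupOf.2 h, rfl⟩

theorem InQ.UU_card (P : InQ H g) : Nat.card (H.UU g) = 16 := by
  have hle : H.Zc ≤ (H.Dg g).subgroupOf H.Q := fun a ha => by
    rw [Subgroup.mem_subgroupOf]
    rcases H.mem_Zc.1 ha with h | h <;> rw [h]
    · exact one_mem _
    · exact P.t_mem_Dg
  have h1 : Nat.card ↥((H.Dg g).subgroupOf H.Q) = 32 := by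
    rw [Nat.card_congr (Subgroup.subgroupOfEquivOfLe (show H.Dg g ≤ H.Q from inf_le_left)).toEquiv, P.counts.1]
  let f := H.mkV.comp ((H.Dg g).subgroupOf H.Q).subtype
  have h2 := f.ker.card_mul_index
  rw [Subgroup.index_ker, h1] at h2
  have hk : Nat.card f.ker = 2 := by
    have e : f.ker = H.Zc.subgroupOf ((H.Dg g).subgroupOf H.Q) := by
      ext a
      rw [MonoidHom.mem_ker, Subgroup.mem_subgroupOf]
      exact QuotientGroup.eq_one_iff _
    rw [e, Nat.card_congr (Subgroup.subgroupOfEquivOfLe hle).toEquiv, Hyp.Zc, Nat.card_zpowers,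
      (orderOf_eq_prime_iff (p := 2) (hp := ⟨Nat.prime_two⟩)).2 ⟨by rw [pow_two, H.ext.zz], H.ext.ne⟩]
  have e : Nat.card f.range = Nat.card (H.UU g) := by
    rw [MonoidHom.range_comp, Subgroup.range_subtype]; rfl
  rw [hk, e] at h2
  omega

theorem Normal3.r_x (N : Normal3 H g) {r : ↥H.C} (hr : (r : G) ∈ H.Qg g) :
    Commute (r : G) (g * H.t * g⁻¹) := by
  have h := (Commute.conj_iff g).2 (H.commute_t (mem_Qg.1 hr))
  rwa [show g * (g⁻¹ * (r : G) * g) * g⁻¹ = r by group] at h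

theorem Normal3.act_x (N : Normal3 H g) {r : ↥H.C} (hr : (r : G) ∈ H.Qg g) : H.act r N.P.xv = N.P.xv := by
  rw [InQ.xv, H.act_mk]
  refine congrArg H.mkV (Subtype.ext ?_)
  show (r : G) * (g * H.t * g⁻¹) * (r : G)⁻¹ = g * H.t * g⁻¹
  rw [(N.r_x hr).eq, mul_inv_cancel_right]

/-- commutators inside the other group -/
theorem InQ.qg_comm (P : InQ H g) {a b : G} (ha : a ∈ H.Qg g) (hb : b ∈ H.Qg g) :
    a * b * a⁻¹ = b ∨ a * b * a⁻¹ = b * (g * H.t * g⁻¹) := by
  rcases H.comm_mem (mem_Qg.1 hb) (mem_Qg.1 ha) with h | h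
  · left
    calc a * b * a⁻¹ = g * (g⁻¹ * a * g * (g⁻¹ * b * g)) * g⁻¹ * a⁻¹ := by group
      _ = g * (g⁻¹ * b * g * (g⁻¹ * a * g)) * g⁻¹ * a⁻¹ := by rw [h]
      _ = b := by group
  · right
    have hax : Commute a (g * H.t * g⁻¹) := by
      have h' := (Commute.conj_iff g).2 (H.commute_t (mem_Qg.1 ha))
      rwa [show g * (g⁻¹ * a * g) * g⁻¹ = a by group] at h'
    calc a * b * a⁻¹ = g * (g⁻¹ * a * g * (g⁻¹ * b * g)) * g⁻¹ * a⁻¹ := by group
      _ = g * (g⁻¹ * b * g * (g⁻¹ * a * g) * H.t) * g⁻¹ * a⁻¹ := by rw [h]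
      _ = b * (a * (g * H.t * g⁻¹)) * a⁻¹ := by group
      _ = b * ((g * H.t * g⁻¹) * a) * a⁻¹ := by rw [hax.eq]
      _ = _ := by group

theorem Normal3.act_UU (N : Normal3 H g) {r : ↥H.C} (hr : (r : G) ∈ H.Qg g) {u : H.Vq} (hu : u ∈ H.UU g) :
    H.act r u * u = 1 ∨ H.act r u * u = N.P.xv := by
  obtain ⟨d, hd, rfl⟩ := hu
  have hd' : (d : G) ∈ H.Dg g := Subgroup.mem_subgroupOf.1 hd
  rcases N.P.qg_comm hr hd'.2 with h | h
  · left
    rw [H.act_mk, show H.cjQ r d = d from Subtype.ext h]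
    exact H.sp.sq _
  · right
    rw [H.act_mk, show H.cjQ r d = d * ⟨g * H.t * g⁻¹, N.P.mem⟩ from Subtype.ext h, map_mul, InQ.xv,
      mul_comm (H.mkV d), mul_assoc, H.sp.sq, mul_one]

theorem Normal3.act_mem_UU (N : Normal3 H g) {r : ↥H.C} (hr : (r : G) ∈ H.Qg g) {u : H.Vq} (hu : u ∈ H.UU g) :
    H.act r u ∈ H.UU g := by
  have hx : N.P.xv ∈ H.UU g := N.P.mem_UU.2 N.P.x_mem_Dg
  have hsq : H.act r u = H.act r u * u * u := by rw [mul_assoc, H.sp.sq, mul_one]
  rw [hsq]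
  rcases N.act_UU hr hu with h | h <;> rw [h]
  · rw [one_mul]; exact hu
  · exact mul_mem hx hu

/-- moved vectors leave `U` -/
theorem Normal3.move_notMem (N : Normal3 H g) {r : ↥H.C} (hr : (r : G) ∈ H.Qg g) (hπ : H.π r ≠ 1) {b : H.Vq}
    (hb : H.bf N.P.xv b = 1) : H.act r b * b ∉ H.UU g := by
  obtain ⟨q, rfl⟩ := H.mkV_surj b
  intro hmem
  rw [H.act_mk, ← map_mul, N.P.mem_UU] at hmem
  rw [InQ.xv, H.bf_mk] at hb
  have hn : ¬ Commute (q : G) (g * H.t * g⁻¹) := fun h => by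
    rw [H.kap_eq_zero.2 h.symm] at hb
    exact zero_ne_one hb
  refine N.P.comm_notMem q.2 hn hr (fun h => hπ ((H.π_ker r).2 h.1)) ?_
  have hconj : (r : G) * q * (r : G)⁻¹ ∈ H.Q := H.conj_mem r.2 q.2
  have hD : ∀ z, H.tp z ∈ H.Dg g := fun z => by
    rcases bit_cases z with e | e <;> rw [e]
    · rw [H.tp_zero]; exact one_mem _
    · rw [H.tp_one]; exact N.P.t_mem_Dg
  have hmem' : (r : G) * q * (r : G)⁻¹ * q ∈ H.Dg g := hmem
  have e : (q : G) * r * (q : G)⁻¹ * (r : G)⁻¹ = ((r : G) * q * (r : G)⁻¹ * ((q : G))⁻¹)⁻¹ := by group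
  rw [e]
  refine inv_mem ?_
  have e2 : ((q : G))⁻¹ = q * H.tp (H.qf q) := by
    refine inv_eq_of_mul_eq_one_right ?_
    rw [← mul_assoc, H.sq_eq q.2, ← H.tp_add, CharTwo.add_self_eq_zero, H.tp_zero]
  rw [e2, ← mul_assoc]
  exact mul_mem hmem' (hD _)

/-- every vector orthogonal to `x` is a moved vector times one in `U` -/
theorem Normal3.span (N : Normal3 H g) {a b : H.Vq} (ha : H.bf N.P.xv a = 0) (hb : H.bf N.P.xv b = 1) :
    ∃ r : {r : ↥H.C // (r : G) ∈ H.Qg g}, ∃ u ∈ H.UU g, a = u * (H.act r.1 b * b) := by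
  classical
  haveI := H.sp.finite
  choose r hr hrπ using fun p : Bool × Bool × Bool => N.lift p.1 p.2.1 p.2.2
  have hperp : ∀ p, H.bf N.P.xv (H.act (r p) b * b) = 0 := fun p => by
    have h1 : H.bf N.P.xv (H.act (r p) b) = 1 := by
      rw [← N.act_x (hr p), H.act_bf]; exact hb
    show H.sp.B _ _ = 0
    rw [H.sp.mul_right]
    show H.bf _ _ + H.bf _ _ = 0
    rw [h1, hb]; rfl
  have hU : ∀ u ∈ H.UU g, H.bf N.P.xv u = 0 := fun u hu => by
    obtain ⟨d, hd, rfl⟩ := hu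
    rw [InQ.xv, H.bf_mk, H.kap_eq_zero]
    exact (N.P.mem_cent.1 (N.P.Dg_le (Subgroup.mem_subgroupOf.1 hd))).2.symm
  let X := {v : H.Vq // H.bf N.P.xv v = 0}
  let f : (Bool × Bool × Bool) × ↥(H.UU g) → X := fun p => ⟨p.2 * (H.act (r p.1) b * b), by
    show H.sp.B _ _ = 0
    rw [H.sp.mul_right]
    show H.bf _ _ + H.bf _ _ = 0
    rw [hperp, hU _ p.2.2, add_zero]⟩
  have hf : Function.Injective f := by
    rintro ⟨p, u⟩ ⟨p', u'⟩ h
    have h' : (u : H.Vq) * (H.act (r p) b * b) = u' * (H.act (r p') b * b) := congrArg Subtype.val h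
    by_cases hp : p = p'
    · subst hp
      exact Prod.ext rfl (Subtype.ext (mul_right_cancel h'))
    · exfalso
      set s : ↥H.C := (r p)⁻¹ * r p' with hs
      have hsQ : (s : G) ∈ H.Qg g := by
        rw [hs]; exact mul_mem (inv_mem (hr p)) (hr p')
      have hπ : H.π s ≠ 1 := by
        rw [hs, map_mul, map_inv, Ne, inv_mul_eq_one, hrπ, hrπ]
        obtain ⟨i, j, k⟩ := p
        obtain ⟨i', j', k'⟩ := p'
        revert hp
        cases i <;> cases j <;> cases k <;> cases i' <;> cases j' <;> cases k' <;> decide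
      refine N.move_notMem hsQ hπ hb ?_
      -- apply the inverse of the first element
      have hinv : (((r p)⁻¹ : ↥H.C) : G) ∈ H.Qg g := inv_mem (hr p)
      have hprod : H.act (r p) b * H.act (r p') b ∈ H.UU g := by
        have e : H.act (r p) b * H.act (r p') b = (H.act (r p) b * b) * (H.act (r p') b * b) := by
          rw [mul_mul_mul_comm, H.sp.sq, mul_one]
        have e' : (H.act (r p) b * b) * (H.act (r p') b * b) = (u : H.Vq) * u' := by
          calc (H.act (r p) b * b) * (H.act (r p') b * b)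
              = (u : H.Vq) * ((u : H.Vq) * (H.act (r p) b * b)) * (H.act (r p') b * b) := by
                rw [← mul_assoc (u : H.Vq) (u : H.Vq), H.sp.sq, one_mul]
            _ = (u : H.Vq) * (u' * (H.act (r p') b * b)) * (H.act (r p') b * b) := by rw [h']
            _ = _ := by rw [mul_assoc, mul_assoc, H.sp.sq, mul_one]
        rw [e, e']
        exact mul_mem u.2 u'.2
      have := N.act_mem_UU hinv hprod
      rw [map_mul, ← H.act_mul, ← H.act_mul, inv_mul_cancel, H.act_one] at this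
      rw [mul_comm]
      exact this
  have hX : Nat.card X ≤ 128 := by
    let χ : H.Vq →* Multiplicative (ZMod 2) :=
      { toFun := fun v => Multiplicative.ofAdd (H.bf N.P.xv v)
        map_one' := by
          show Multiplicative.ofAdd (H.sp.B _ 1) = 1
          rw [H.sp.one_right]; rfl
        map_mul' := fun v w => by
          show Multiplicative.ofAdd (H.sp.B _ (v * w)) = _
          rw [H.sp.mul_right, ofAdd_add]; rfl }
    have h2 := χ.ker.card_mul_index
    rw [Subgroup.index_ker, H.sp.card] at h2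
    have hr2 : 2 ≤ Nat.card χ.range := by
      have hne : (1 : Multiplicative (ZMod 2)) ≠ Multiplicative.ofAdd 1 := by decide
      haveI : Nontrivial χ.range :=
        ⟨⟨1, ⟨_, b, rfl⟩, fun e => hne (by
          have := congrArg Subtype.val e
          rw [← hb]; exact this)⟩⟩
      exact Finite.one_lt_card
    have e : Nat.card X = Nat.card χ.ker := Nat.card_congr (Equiv.subtypeEquivRight fun v => by
      rw [MonoidHom.mem_ker]
      show H.bf N.P.xv v = 0 ↔ Multiplicative.ofAdd (H.bf N.P.xv v) = 1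
      rw [ofAdd_eq_one])
    have := Nat.mul_le_mul_left (Nat.card χ.ker) hr2
    omega
  have hb' : Function.Bijective f := (Nat.bijective_iff_injective_and_card f).2 ⟨hf, le_antisymm
    (Nat.card_le_card_of_injective f hf) (hX.trans (by
      rw [Nat.card_prod, N.P.UU_card, show Nat.card (Bool × Bool × Bool) = 8 by simp]))⟩
  obtain ⟨⟨p, u⟩, h⟩ := hb'.2 ⟨a, ha⟩
  exact ⟨⟨r p, hr p⟩, u, u.2, (congrArg Subtype.val h).symm⟩

theorem epsW_rot : ∀ i j k : Bool, ∀ l : Fin 3, epsW i j k * rot3 l = rot3 l * epsW i j k ∨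
    epsW i j k * rot3 l = rot3 l * rot3 l * epsW i j k := by decide +kernel

/-- the rotations fix nothing on the line of `x` -/
theorem Normal3.rho_kill (N : Normal3 H g) (L : Lifted H.π) (l : Fin 3) :
    eMap (H.act (L.ρ l)) N.P.xv = 1 := by
  obtain ⟨r0, hr0, hr0π⟩ := N.lift (l == 0) (l == 1) (l == 2)
  rw [← epsW_eps3] at hr0π
  have hρ3 : ∀ a, H.act (L.ρ l) (H.act (L.ρ l) (H.act (L.ρ l) a)) = a := fun a => by
    rw [← H.act_mul, ← H.act_mul, ← pow_two, ← pow_succ, L.ρ_cube, H.act_one]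
  refine eMap_x_eq_one H.sp (H.act (L.ρ l)) hρ3 (fun a b => H.act_bf _ a b) ?_ (H.act r0) ?_
    (fun r : {r : ↥H.C // (r : G) ∈ H.Qg g} => H.act r.1) ?_ ⟨⟨r0, hr0⟩, rfl⟩ N.P.xv (H.UU g) N.P.UU_card
    (fun a ha r => N.act_UU r.2 ha) fun a ha b hb => N.span ha hb
  · by_contra h
    simp only [not_exists, not_not] at h
    have h1 : L.ρ l = 1 := H.faithful (L.ρ_cube l) h
    have h2 := L.ρπ l
    rw [h1, map_one] at h2
    revert h2
    fin_cases l <;> decide
  · intro a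
    rw [← H.act_mul, ← H.act_mul, ← H.act_mul]
    refine H.act_congr ?_ a
    rw [map_mul, map_mul, map_mul, hr0π, L.ρπ]
    have h := eps3_rot3 l l
    rw [if_pos rfl, mul_inv_eq_iff_eq_mul] at h
    exact h
  · rintro ⟨r, hr⟩ a
    obtain ⟨i, j, k, hπ⟩ := N.img r hr
    show H.act r (eMap _ a) = eMap _ (H.act r a)
    rw [eMap_apply, eMap_apply, map_mul, map_mul]
    have hc : ∀ v, H.act r (H.act (L.ρ l) v) = H.act (L.ρ l) (H.act r v) ∨
        H.act r (H.act (L.ρ l) v) = H.act (L.ρ l) (H.act (L.ρ l) (H.act r v)) := fun v => by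
      rcases epsW_rot i j k l with h | h
      · left
        rw [← H.act_mul, ← H.act_mul]
        exact H.act_congr (by rw [map_mul, map_mul, hπ, L.ρπ]; exact h) v
      · right
        rw [← H.act_mul, ← H.act_mul, ← H.act_mul]
        exact H.act_congr (by rw [map_mul, map_mul, map_mul, hπ, L.ρπ, h, mul_assoc]) v
    rcases epsW_rot i j k l with h | h
    · have hc' : ∀ v, H.act r (H.act (L.ρ l) v) = H.act (L.ρ l) (H.act r v) := fun v => by
        rw [← H.act_mul, ← H.act_mul]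
        exact H.act_congr (by rw [map_mul, map_mul, hπ, L.ρπ]; exact h) v
      rw [hc', hc', hc']
    · have hc' : ∀ v, H.act r (H.act (L.ρ l) v) = H.act (L.ρ l) (H.act (L.ρ l) (H.act r v)) := fun v => by
        rw [← H.act_mul, ← H.act_mul, ← H.act_mul]
        exact H.act_congr (by rw [map_mul, map_mul, map_mul, hπ, L.ρπ, h, mul_assoc]) v
      rw [hc', hc', hc', hρ3, mul_assoc, mul_comm (H.act (L.ρ l) (H.act (L.ρ l) (H.act r a))), ← mul_assoc]

end Cfsg.Agent.Spor.OmegaEightCent
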