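import Cfsg.Agent.Lib.Spor.OmegaEightCent.Base

/-!
Elementary abelian subgroups of order eight in the product of three symmetric groups of degree three.
-/

set_option autoImplicit false
set_option linter.style.haveILetI false
set_option maxRecDepth 10000

namespace Cfsg.Agent.Spor.OmegaEightCent

theorem three_pow_four : ∀ a : Equiv.Perm (Fin 3), a ^ 4 = 1 → a * a = 1 := by decide +kernel

theorem three_commuting :
    ∀ a b : Equiv.Perm (Fin 3), a * a = 1 → b * b = 1 → a * b = b * a → a = 1 ∨ b = 1 ∨ a = b := by decide +kernel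

theorem three_rotate : ∀ a : Equiv.Perm (Fin 3), a * a = 1 → a ≠ 1 →
    finRotate 3 * a ≠ a * finRotate 3 ∧ finRotate 3 * finRotate 3 * a ≠ a * (finRotate 3 * finRotate 3) := by
  decide +kernel

theorem sq_one_of_pow_four {y : S3c} (h : y ^ 4 = 1) : y * y = 1 :=
  Prod.ext (three_pow_four _ (congrArg Prod.fst h))
    (Prod.ext (three_pow_four _ (congrArg (fun z => z.2.1) h)) (three_pow_four _ (congrArg (fun z => z.2.2) h)))

/-- the image of a set of commuting involutions under a projection has a single nontrivial element -/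
theorem proj_single (S : Subgroup S3c) (hsq : ∀ s ∈ S, s * s = 1) (f : S3c →* Equiv.Perm (Fin 3)) :
    ∃ a : Equiv.Perm (Fin 3), a * a = 1 ∧ ∀ s ∈ S, f s = 1 ∨ f s = a := by
  by_cases h : ∃ s ∈ S, f s ≠ 1
  · obtain ⟨s, hs, hs1⟩ := h
    refine ⟨f s, by rw [← map_mul, hsq s hs, map_one], fun r hr => ?_⟩
    have hc : r * s = s * r := by
      have := hsq _ (mul_mem hr hs)
      calc r * s = (r * s)⁻¹ := eq_inv_of_mul_eq_one_left this
        _ = s⁻¹ * r⁻¹ := mul_inv_rev r s
        _ = s * r := by rw [inv_eq_of_mul_eq_one_right (hsq s hs), inv_eq_of_mul_eq_one_right (hsq r hr)]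
    rcases three_commuting (f r) (f s) (by rw [← map_mul, hsq r hr, map_one])
      (by rw [← map_mul, hsq s hs, map_one]) (by rw [← map_mul, ← map_mul, hc]) with e | e | e
    · exact Or.inl e
    · exact absurd e hs1
    · exact Or.inr e
  · simp only [not_exists, not_and, not_not] at h
    exact ⟨1, one_mul 1, fun r hr => Or.inl (h r hr)⟩

/-- An elementary abelian subgroup of order eight is a product of three subgroups of order two. -/
theorem eight_product (S : Subgroup S3c) (hsq : ∀ s ∈ S, s * s = 1) (hcard : 8 ≤ Nat.card S) :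
    ∃ a b c : Equiv.Perm (Fin 3), (a * a = 1 ∧ a ≠ 1) ∧ (b * b = 1 ∧ b ≠ 1) ∧ (c * c = 1 ∧ c ≠ 1) ∧
      (∀ s ∈ S, (s.1 = 1 ∨ s.1 = a) ∧ (s.2.1 = 1 ∨ s.2.1 = b) ∧ (s.2.2 = 1 ∨ s.2.2 = c)) ∧
      ∀ i j k : Bool, ((bif i then a else 1, bif j then b else 1, bif k then c else 1) : S3c) ∈ S := by
  classical
  obtain ⟨a, ha, hA⟩ := proj_single S hsq (MonoidHom.fst _ _)
  obtain ⟨b, hb, hB⟩ := proj_single S hsq ((MonoidHom.fst _ _).comp (MonoidHom.snd _ _))
  obtain ⟨c, hc, hC⟩ := proj_single S hsq ((MonoidHom.snd _ _).comp (MonoidHom.snd _ _))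
  let m : Bool × Bool × Bool → S3c := fun i =>
    (bif i.1 then a else 1, bif i.2.1 then b else 1, bif i.2.2 then c else 1)
  let T : Finset S3c := Finset.univ.image m
  have hsub : (Finset.univ.filter (· ∈ S)) ⊆ T := fun s hs => by
    rw [Finset.mem_filter] at hs
    rw [Finset.mem_image]
    refine ⟨(decide (s.1 = a), decide (s.2.1 = b), decide (s.2.2 = c)), Finset.mem_univ _, ?_⟩
    have h1 := hA s hs.2
    have h2 := hB s hs.2
    have h3 := hC s hs.2
    simp only [MonoidHom.coe_fst, MonoidHom.coe_comp, MonoidHom.coe_snd, Function.comp_apply] at h1 h2 h3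
    refine Prod.ext ?_ (Prod.ext ?_ ?_)
    · by_cases e : s.1 = a
      · simp [m, e]
      · have he' := h1.resolve_right e
        rw [he'] at e
        simp [m, he', e]
    · by_cases e : s.2.1 = b
      · simp [m, e]
      · have he' := h2.resolve_right e
        rw [he'] at e
        simp [m, he', e]
    · by_cases e : s.2.2 = c
      · simp [m, e]
      · have he' := h3.resolve_right e
        rw [he'] at e
        simp [m, he', e]
  have hS : (Finset.univ.filter (· ∈ S)).card = Nat.card S := by
    rw [Nat.card_eq_fintype_card, Fintype.card_subtype]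
  have hT : T.card ≤ 8 := Finset.card_image_le.trans (by simp)
  have heq := Finset.eq_of_subset_of_card_le hsub (by omega)
  have hTc : T.card = 8 := le_antisymm hT (by rw [← heq]; omega)
  have hinj : Function.Injective m := by
    have h : Set.InjOn m (Finset.univ : Finset (Bool × Bool × Bool)) :=
      Finset.card_image_iff.1 (show T.card = _ by rw [hTc]; rfl)
    exact fun x y e => h (Finset.mem_coe.2 (Finset.mem_univ x)) (Finset.mem_coe.2 (Finset.mem_univ y)) e
  refine ⟨a, b, c, ⟨ha, fun e => ?_⟩, ⟨hb, fun e => ?_⟩, ⟨hc, fun e => ?_⟩, fun s hs => ?_, fun i j k => ?_⟩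
  · exact absurd (@hinj (true, false, false) (false, false, false) (by simp [m, e])) (by decide)
  · exact absurd (@hinj (false, true, false) (false, false, false) (by simp [m, e])) (by decide)
  · exact absurd (@hinj (false, false, true) (false, false, false) (by simp [m, e])) (by decide)
  · exact ⟨hA s hs, hB s hs, hC s hs⟩
  · have : m (i, j, k) ∈ Finset.univ.filter (· ∈ S) := heq ▸ Finset.mem_image_of_mem m (Finset.mem_univ _)
    exact (Finset.mem_filter.1 this).2

end Cfsg.Agent.Spor.OmegaEightCent
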