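import Cfsg.Agent.Lib.Spor.OmegaEightCent.ListChecks

/-! The check of the Sylow two-subgroup. -/

set_option autoImplicit false
set_option maxRecDepth 100000
set_option maxHeartbeats 0

namespace Cfsg.Agent.Spor.OmegaEightCent

theorem syl_scan : scan (closStep sC sylI sylV 4096) sylL 0 = true := by decide +kernel

end Cfsg.Agent.Spor.OmegaEightCent
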