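import Cfsg.Agent.Lib.Spor.OmegaEightCent.Cent
import Cfsg.Agent.Lib.Spor.OmegaEightCent.Qprime

/-!
The centralizer of the model sits in the group, and the moving involution twists it as in the model.
-/

set_option autoImplicit false
set_option linter.style.haveILetI false
set_option linter.unusedSectionVars false
set_option maxRecDepth 10000

namespace Cfsg.Agent.Spor.OmegaEightCent

open DCoset

universe u

/-- The model centralizer inside the group, with the moving involution. -/
structure Setup {G : Type u} [Group G] [Finite G] (H : Hyp G) where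
  φ : ↥AM →* G
  inj : Function.Injective φ
  range_eq : φ.range = H.C
  q : G
  φt : φ (RA.wel tW) = H.t
  φxQ : ∀ d, φ (RA.wel (xW d)) ∈ H.Q
  q_sq : q * q = 1
  move : q * H.t * q = H.t * φ (RA.wel [0])
  comm_x0 : Commute q (φ (RA.wel [0]))
  comm_b : ∀ i, Commute q (φ (RA.wel (xW (bit8 i))))
  comm_n : ∀ i : Fin 3, Commute q (φ (RA.wel [i.val + 4]))
  pair : ∀ i : Fin 3, q * φ (RA.wel (xW (7 ^^^ bit8 i))) * q =
    φ (RA.wel (xW (7 ^^^ bit8 i))) * φ (RA.wel [i.val + 4])

variable {G : Type u} [Group G] [Finite G] {H : Hyp G} {g : G}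

theorem exists_setup (N : Normal3 H g) (L : Lifted H.π) {q : G} (K : Linked N L q) : Nonempty (Setup H) := by
  obtain ⟨φ, hinj, hr, ht, hx, -, hn⟩ := exists_hom N L K.hm MF MF_top MF_t_ne
  have hx0 : φ (RA.wel [0]) = H.xc g := (hx 0).trans (N.xx_zero L)
  exact ⟨{
    φ := φ
    inj := hinj
    range_eq := hr
    q := q
    φt := ht
    φxQ := fun d => by rw [show φ (RA.wel (xW d)) = N.xx L d from hx d]; exact N.xx_mem L d
    q_sq := K.sq
    move := by rw [hx0, K.move]
    comm_x0 := by rw [hx0]; exact N.qg_x0 K.mem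
    comm_b := fun i => by rw [show φ (RA.wel (xW (bit8 i))) = N.xx L (bit8 i) from hx _]; exact K.comm_x i
    comm_n := fun i => by rw [show φ (RA.wel [i.val + 4]) = (L.n i : G) from hn i]; exact K.comm_n i
    pair := fun i => by
      rw [show φ (RA.wel (xW (7 ^^^ bit8 i))) = N.xx L (7 ^^^ bit8 i) from hx _,
        show φ (RA.wel [i.val + 4]) = (L.n i : G) from hn i]
      exact K.pair i }⟩

variable (S : Setup H)

theorem Setup.cardA (S : Setup H) : Nat.card ↥AM = 110592 := by
  rw [← H.card_C, ← S.range_eq]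
  exact Nat.card_congr (MonoidHom.ofInjective S.inj).toEquiv

theorem Setup.mem (S : Setup H) {z : G} (h : Commute z H.t) : ∃ a, S.φ a = z :=
  MonoidHom.mem_range.1 (S.range_eq ▸ H.mem_C.2 h)

theorem Setup.comm_t (S : Setup H) (a : ↥AM) : Commute (S.φ a) H.t :=
  H.mem_C.1 (S.range_eq ▸ ⟨a, rfl⟩)

/-- the image of a word -/
noncomputable def Setup.f (S : Setup H) (w : List ℕ) : G := S.φ (RA.wel w)

theorem Setup.f_eq {v w : List ℕ} (h : oCert.ev mu v = oCert.ev mu w) : S.f v = S.f w :=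
  congrArg S.φ (wel_eq h)

theorem Setup.f_append (v w : List ℕ) : S.f (v ++ w) = S.f v * S.f w := by
  rw [Setup.f, wel_append, map_mul]; rfl

theorem Setup.f_nil : S.f [] = 1 := map_one S.φ

theorem Setup.fx_t (d : Fin 8) : Commute (S.f (xW d)) H.t := S.comm_t _

/-- the moving involution in the group -/
noncomputable def Setup.sig (S : Setup H) : G := S.f (xW 7) * S.q * S.f (xW 7)

theorem Setup.x7_sq : S.f (xW 7) * S.f (xW 7) = 1 := by
  rw [← S.f_append, S.f_eq (frame_checks.2.1 7), S.f_nil]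

theorem Setup.sig_sq : S.sig * S.sig = 1 := by
  calc S.sig * S.sig = S.f (xW 7) * S.q * (S.f (xW 7) * S.f (xW 7)) * S.q * S.f (xW 7) := by
        simp only [Setup.sig, mul_assoc]
    _ = S.f (xW 7) * (S.q * S.q) * S.f (xW 7) := by rw [S.x7_sq, mul_one]; simp only [mul_assoc]
    _ = 1 := by rw [S.q_sq, mul_one, S.x7_sq]

theorem Setup.x7_t : S.f (xW 7) * H.t * S.f (xW 7) = H.t := by
  rw [← S.φt, ← Setup.f, ← S.f_append, ← S.f_append]
  exact S.f_eq word_checks'.1

theorem Setup.x7_x : S.f (xW 7) * S.f [0] * S.f (xW 7) = H.t * S.f [0] := by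
  rw [← S.φt, ← Setup.f, ← S.f_append, ← S.f_append, ← S.f_append]
  exact S.f_eq word_checks'.2.1

/-- the moving involution swaps `t` and the second involution -/
theorem Setup.sig_t : S.sig * H.t * S.sig = S.f [0] := by
  have hx : S.f [0] * S.f [0] = 1 := by
    rw [← S.f_append, show S.f ([0] ++ [0]) = S.f [] from S.f_eq (frame_checks.2.1 0), S.f_nil]
  calc S.sig * H.t * S.sig = S.f (xW 7) * (S.q * (S.f (xW 7) * H.t * S.f (xW 7)) * S.q) * S.f (xW 7) := by
        simp only [Setup.sig, mul_assoc]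
    _ = (S.f (xW 7) * H.t * S.f (xW 7)) * (S.f (xW 7) * S.f [0] * S.f (xW 7)) := by
        rw [S.x7_t, S.move]
        have := S.x7_sq
        simp only [mul_assoc]
        rw [← mul_assoc (S.f (xW 7)) H.t, (S.fx_t 7).eq, mul_assoc]
        rfl
    _ = S.f [0] := by rw [S.x7_t, S.x7_x, ← mul_assoc, H.t_sq, one_mul]

theorem Setup.sig_x : S.sig * S.f [0] * S.sig = H.t := by
  rw [← S.sig_t]
  have := S.sig_sq
  calc S.sig * (S.sig * H.t * S.sig) * S.sig = (S.sig * S.sig) * H.t * (S.sig * S.sig) := by simp only [mul_assoc]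
    _ = H.t := by rw [this, one_mul, mul_one]

/-- the twist on the basis -/
theorem Setup.sig_b (i : Fin 3) : S.f (xW (bit8 i)) * S.sig = S.sig * S.f (xW (bit8 i)) := by
  have hpair : ∀ i : Fin 3, oCert.ev mu (xW 7 ++ xW (bit8 i)) = oCert.ev mu (xW (bit8 i) ++ xW 7) := by
    decide +kernel
  have h7 : Commute (S.f (xW (bit8 i))) (S.f (xW 7)) := by
    show _ * _ = _ * _
    rw [← S.f_append, ← S.f_append]
    exact (S.f_eq (hpair i)).symm
  exact (h7.mul_right (S.comm_b i).symm).mul_right h7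

theorem Setup.sig_a (i : Fin 3) : S.f (xW (7 ^^^ bit8 i)) * S.sig = S.sig * S.f [i.val + 4] := by
  have h7 : S.f (xW 7) * S.f (xW (7 ^^^ bit8 i)) = S.f (xW (7 ^^^ bit8 i)) * S.f (xW 7) := by
    rw [← S.f_append, ← S.f_append]; exact S.f_eq (word_checks'.2.2.1 i)
  have hn : ∀ j : Fin 3, oCert.ev mu (xW (7 ^^^ bit8 j) ++ [j.val + 4] ++ xW 7) =
      oCert.ev mu (xW 7 ++ [j.val + 4]) := by decide +kernel
  have hn' : S.f (xW (7 ^^^ bit8 i)) * S.f [i.val + 4] * S.f (xW 7) = S.f (xW 7) * S.f [i.val + 4] := by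
    rw [← S.f_append, ← S.f_append, ← S.f_append]; exact S.f_eq (hn i)
  have hp : S.f (xW (7 ^^^ bit8 i)) * S.q = S.q * (S.f (xW (7 ^^^ bit8 i)) * S.f [i.val + 4]) := by
    have := congrArg (fun z => S.q * z) (S.pair i)
    simp only [← mul_assoc, S.q_sq, one_mul] at this
    rw [← mul_assoc]
    exact this
  calc S.f (xW (7 ^^^ bit8 i)) * S.sig = S.f (xW 7) * (S.f (xW (7 ^^^ bit8 i)) * S.q) * S.f (xW 7) := by
        rw [Setup.sig, ← mul_assoc, ← mul_assoc, ← h7]; simp only [mul_assoc]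
    _ = S.f (xW 7) * S.q * (S.f (xW (7 ^^^ bit8 i)) * S.f [i.val + 4] * S.f (xW 7)) := by
        rw [hp]; simp only [mul_assoc]
    _ = _ := by rw [hn', Setup.sig]; simp only [mul_assoc]

theorem Setup.sig_n (i : Fin 3) : S.f [i.val + 4] * S.sig = S.sig * S.f (xW (7 ^^^ bit8 i)) := by
  have h := congrArg (fun z => S.sig * z * S.sig) (S.sig_a i)
  have hs := S.sig_sq
  simp only [mul_assoc] at h
  rw [← mul_assoc S.sig S.sig, hs, one_mul, mul_one] at h
  exact h.symm

/-- the twist on the listed pairs -/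
theorem Setup.twist : ∀ w ∈ oCert.cg, S.f w.1 * S.sig = S.sig * S.f w.2 := by
  rw [cg_eq]
  intro w hw
  simp only [List.mem_cons, List.not_mem_nil, or_false] at hw
  rcases hw with rfl | rfl | rfl | rfl | rfl | rfl | rfl | rfl | rfl
  exacts [S.sig_b 0, S.sig_b 1, S.sig_b 2, S.sig_a 2, S.sig_a 1, S.sig_a 0, S.sig_n 0, S.sig_n 1, S.sig_n 2]

theorem Setup.twist_words (ks : List ℕ) (h : ∀ k ∈ ks, k < 9) : S.f (pW ks) * S.sig = S.sig * S.f (sW ks) := by
  induction ks with
  | nil => simp [pW, sW, S.f_nil]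
  | cons k ks ih =>
    have hm : oCert.cg.getD k ([], []) ∈ oCert.cg := by
      have hk : k < oCert.cg.length := by
        rw [cg_eq]; exact h k List.mem_cons_self
      rw [List.getD_eq_getElem _ _ hk]
      exact List.getElem_mem hk
    rw [pW, sW, List.flatMap_cons, List.flatMap_cons, S.f_append, S.f_append, ← pW, ← sW, mul_assoc,
      ih fun j hj => h j (List.mem_cons_of_mem k hj), ← mul_assoc, S.twist _ hm, mul_assoc]

end Cfsg.Agent.Spor.OmegaEightCent
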