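import Cfsg.Agent.Lib.Spor.OmegaEightCent.Bits
import Cfsg.Agent.Lib.Spor.OmegaEightCent.Sthree

/-!
If the involution has no other conjugate in the extraspecial group, it is isolated.

For a conjugate `h` in the centralizer the set of commutators of the extraspecial group with `h` contains at least
sixteen involutions centralized by `h`; after moving `h` to `t` they are mapped injectively into a two-subgroup of
the product of three symmetric groups of degree three, unless this subgroup is the full group of order eight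
normalized by the common centralizer, which is impossible for a single transposition.
-/

set_option autoImplicit false
set_option linter.style.haveILetI false
set_option linter.unusedSectionVars false

open scoped commutatorElement

namespace Cfsg.Agent.Spor.OmegaEightCent

universe u

variable {G : Type u} [Group G] [Finite G] (H : Hyp G)

/-- no other conjugate in `Q` -/
def Hyp.Weak : Prop := ∀ g : G, g * H.t * g⁻¹ ∈ H.Q → g * H.t * g⁻¹ = H.t

/-- the conjugate moved by `g` -/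
def Hyp.hh (g : G) : G := g⁻¹ * H.t * g

/-- a conjugate in the centralizer, different from `t` -/
structure Moved (g : G) : Prop where
  mem : H.hh g ∈ H.C
  ne : H.hh g ≠ H.t

/-- its centralizer in `Q` -/
def Hyp.EE (g : G) : Subgroup G := H.Q ⊓ Subgroup.centralizer ({H.hh g} : Set G)

/-- the commutator with the conjugate -/
def Hyp.ff (g a : G) : G := a * H.hh g * a⁻¹ * H.hh g

variable {H} {g : G}

theorem hh_sq : H.hh g * H.hh g = 1 := by
  calc g⁻¹ * H.t * g * (g⁻¹ * H.t * g) = g⁻¹ * (H.t * H.t) * g := by group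
    _ = 1 := by rw [H.t_sq]; group

theorem mem_EE {a : G} : a ∈ H.EE g ↔ a ∈ H.Q ∧ Commute a (H.hh g) := by
  rw [Hyp.EE, Subgroup.mem_inf, Subgroup.mem_centralizer_singleton_iff]
  rfl

theorem t_mem_EE (M : Moved H g) : H.t ∈ H.EE g := mem_EE.2 ⟨H.t_mem, (H.mem_C.1 M.mem).symm⟩

theorem conj_mem_C {a : G} (ha : a ∈ H.EE g) : g * a * g⁻¹ ∈ H.C := by
  have h := (mem_EE.1 ha).2
  rw [H.mem_C]
  have e : H.t = g * H.hh g * g⁻¹ := by rw [Hyp.hh]; group
  rw [e, Commute.conj_iff]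
  exact h

/-- the image of the centralizer in `Q` after moving -/
def psi (H : Hyp G) (g : G) : ↥(H.EE g) →* S3c where
  toFun a := H.π ⟨g * a * g⁻¹, conj_mem_C a.2⟩
  map_one' := by
    convert map_one H.π using 2
    exact Subtype.ext (by simp)
  map_mul' a b := by
    rw [← map_mul]
    exact congrArg H.π (Subtype.ext (by simp [mul_assoc]))

theorem hh_conj_mem (M : Moved H g) {a : G} (ha : a ∈ H.Q) : H.hh g * a * H.hh g ∈ H.Q := by
  have := H.conj_mem M.mem ha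
  rwa [inv_eq_of_mul_eq_one_right hh_sq] at this

theorem ff_mem (M : Moved H g) {a : G} (ha : a ∈ H.Q) : H.ff g a ∈ H.Q := by
  rw [Hyp.ff, show a * H.hh g * a⁻¹ * H.hh g = a * (H.hh g * a⁻¹ * H.hh g) by group]
  exact mul_mem ha (hh_conj_mem M (inv_mem ha))

theorem hh_ff (a : G) : H.hh g * H.ff g a * H.hh g = (H.ff g a)⁻¹ := by
  have hi : (H.hh g)⁻¹ = H.hh g := inv_eq_of_mul_eq_one_right hh_sq
  simp only [Hyp.ff, mul_inv_rev, inv_inv, hi, mul_assoc, hh_sq, mul_one]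

theorem ff_mem_EE_iff (M : Moved H g) {a : G} (ha : a ∈ H.Q) :
    H.ff g a ∈ H.EE g ↔ H.qf (H.ff g a) = 0 := by
  rw [mem_EE, H.kap_sym_zero]
  refine ⟨fun h => ?_, fun h => ⟨ff_mem M ha, ?_⟩⟩
  · have e := hh_ff (H := H) (g := g) a
    rw [← h.2.eq, mul_assoc, hh_sq, mul_one] at e
    exact mul_eq_one_iff_eq_inv.2 e
  · have e := hh_ff (H := H) (g := g) a
    rw [inv_eq_of_mul_eq_one_right h] at e
    calc H.ff g a * H.hh g = H.hh g * H.ff g a * (H.hh g * H.hh g) := by rw [← mul_assoc, e]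
      _ = _ := by rw [hh_sq, mul_one]

theorem ff_mul (a b : G) : H.ff g (a * b) = a * H.ff g b * a⁻¹ * H.ff g a := by
  simp only [Hyp.ff, mul_inv_rev, mul_assoc, inv_mul_cancel_left]
  rw [← mul_assoc (H.hh g) (H.hh g), hh_sq, one_mul]

theorem kap_hh (M : Moved H g) (a b : G) : H.kap (H.hh g * a * H.hh g) (H.hh g * b * H.hh g) = H.kap a b := by
  have hi : (H.hh g)⁻¹ = H.hh g := inv_eq_of_mul_eq_one_right hh_sq
  conv_lhs => rw [show H.hh g * a * H.hh g = H.hh g * a * (H.hh g)⁻¹ by rw [hi],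
    show H.hh g * b * H.hh g = H.hh g * b * (H.hh g)⁻¹ by rw [hi]]
  exact H.kap_conj

theorem kap_ff (M : Moved H g) {a e : G} (ha : a ∈ H.Q) (he : e ∈ H.Q) :
    H.kap (H.ff g a) e = H.kap a e + H.kap a (H.hh g * e * H.hh g) := by
  have h1 : H.ff g a = a * (H.hh g * a * H.hh g)⁻¹ := by
    have hi : (H.hh g)⁻¹ = H.hh g := inv_eq_of_mul_eq_one_right hh_sq
    simp only [Hyp.ff, mul_inv_rev, hi, mul_assoc]
  have hσ := hh_conj_mem M ha
  rw [h1, H.kap_mul_left ha (inv_mem hσ) he, H.kap_symm (H.hh g * a * H.hh g)⁻¹ e, H.kap_inv_right he hσ,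
    H.kap_symm e (H.hh g * a * H.hh g)]
  congr 1
  conv_rhs => rw [← kap_hh M]
  congr 1
  calc e = (H.hh g * H.hh g) * e * (H.hh g * H.hh g) := by rw [hh_sq]; group
    _ = _ := by group

theorem kap_ff_ff (M : Moved H g) {a b : G} (ha : a ∈ H.Q) (hb : b ∈ H.Q) :
    H.kap (H.ff g a) (H.ff g b) = 0 := by
  have hb' := ff_mem M hb
  rw [kap_ff M ha hb', hh_ff, H.kap_inv_right ha hb', CharTwo.add_self_eq_zero]

/-- the square of a commutator, as a homomorphism -/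
noncomputable def sqHom (M : Moved H g) : ↥H.Q →* Multiplicative (ZMod 2) where
  toFun a := Multiplicative.ofAdd (H.qf (H.ff g a))
  map_one' := by
    rw [← ofAdd_zero]
    exact congrArg _ (H.kap_sym_zero.2 (by simp [Hyp.ff, hh_sq]))
  map_mul' a b := by
    rw [← ofAdd_add]
    refine congrArg _ ?_
    have hfa := ff_mem M a.2
    have hfb := ff_mem M b.2
    rw [Subgroup.coe_mul, ff_mul, H.qf_mul (mul_mem (mul_mem a.2 hfb) (inv_mem a.2)) hfa, H.qf_conj,
      H.conj_eq a.2 hfb, H.kap_mul_left hfb (H.tp_mem _) hfa, kap_ff_ff M b.2 a.2, H.kap_symm (H.tp _),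
      H.kap_tp hfa, add_zero, add_zero, add_comm]

/-- the commutators with the conjugate centralized by it -/
noncomputable def MM (M : Moved H g) : Subgroup G := (sqHom M).ker.map H.Q.subtype

theorem mem_MM (M : Moved H g) {a : G} : a ∈ MM M ↔ a ∈ H.Q ∧ H.ff g a ∈ H.EE g := by
  constructor
  · rintro ⟨b, hb, rfl⟩
    exact ⟨b.2, (ff_mem_EE_iff M b.2).2 (ofAdd_eq_one.1 (MonoidHom.mem_ker.1 hb))⟩
  · rintro ⟨ha, h⟩
    exact ⟨⟨a, ha⟩, MonoidHom.mem_ker.2 (ofAdd_eq_one.2 ((ff_mem_EE_iff M ha).1 h)), rfl⟩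

theorem MM_card (M : Moved H g) : 256 ≤ Nat.card (MM M) := by
  rw [MM, Subgroup.card_map_of_injective H.Q.subtype_injective]
  have h := (sqHom M).ker.card_mul_index
  rw [H.Q_card] at h
  have h2 : (sqHom M).ker.index ≤ 2 := by
    rw [Subgroup.index_ker]
    calc Nat.card (sqHom M).range ≤ Nat.card (Multiplicative (ZMod 2)) :=
          Nat.card_le_card_of_injective _ Subtype.val_injective
      _ = 2 := by simp
  have h3 := Nat.mul_le_mul_left (Nat.card (sqHom M).ker) h2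
  omega

/-- the set of the commutators in the centralizer -/
noncomputable def FF (M : Moved H g) : Set G := H.ff g '' (MM M : Set G)

theorem FF_le (M : Moved H g) {y : G} (hy : y ∈ FF M) : y ∈ H.EE g := by
  obtain ⟨a, ha, rfl⟩ := hy
  exact ((mem_MM M).1 ha).2

theorem psi_eq_one (hw : H.Weak) {a : G} (h : H.ff g a ∈ H.EE g)
    (h1 : psi H g ⟨_, h⟩ = 1) : H.ff g a = 1 := by
  have hq : g * H.ff g a * g⁻¹ ∈ H.Q := (H.π_ker _).1 h1
  have e : g * H.ff g a * g⁻¹ = (g * a * g⁻¹) * H.t * (g * a * g⁻¹)⁻¹ * H.t := by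
    rw [Hyp.ff, Hyp.hh]; group
  rw [e] at hq
  have h2 := hw (g * a * g⁻¹) (by
    have := mul_mem hq H.t_mem
    rwa [mul_assoc, H.t_sq, mul_one] at this)
  rw [h2, H.t_sq, conj_eq_one_iff] at e
  exact e

theorem psi_t (M : Moved H g) (hw : H.Weak) : psi H g ⟨H.t, t_mem_EE M⟩ ≠ 1 := by
  intro h
  have hq : g * H.t * g⁻¹ ∈ H.Q := (H.π_ker _).1 h
  refine M.ne ?_
  have := hw g hq
  rw [Hyp.hh]
  nth_rewrite 1 [← this]
  group

theorem EE_sq (M : Moved H g) (hw : H.Weak) {a : G} (ha : a ∈ H.EE g) : a * a = 1 := by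
  rcases H.sq_mem (mem_EE.1 ha).1 with h | h
  · exact h
  · exfalso
    have h4 : (⟨a, ha⟩ : ↥(H.EE g)) ^ 4 = 1 := Subtype.ext (by
      simp only [SubmonoidClass.coe_pow, OneMemClass.coe_one]
      rw [pow_succ, pow_succ, pow_two, mul_assoc, h, H.t_sq])
    have h2 := sq_one_of_pow_four (y := psi H g ⟨a, ha⟩) (by rw [← map_pow, h4, map_one])
    rw [← map_mul] at h2
    exact psi_t M hw (by convert h2 using 2; exact Subtype.ext h.symm)

theorem EE_kap (M : Moved H g) (hw : H.Weak) {a b : G} (ha : a ∈ H.EE g) (hb : b ∈ H.EE g) : H.kap a b = 0 := by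
  have h := H.qf_mul (mem_EE.1 ha).1 (mem_EE.1 hb).1
  rw [H.kap_sym_zero.2 (EE_sq M hw (mul_mem ha hb)), H.kap_sym_zero.2 (EE_sq M hw ha),
    H.kap_sym_zero.2 (EE_sq M hw hb), zero_add, zero_add] at h
  exact h.symm

theorem abelian_card {B : Subgroup G} (hB : B ≤ H.Q) (hc : ∀ a ∈ B, ∀ b ∈ B, Commute a b) :
    Nat.card B ∣ 32 := by
  haveI : Fact (Nat.Prime 2) := ⟨Nat.prime_two⟩
  have hc0 : Nat.card (Subgroup.center ↥H.Q) = 2 := by
    refine (Nat.card_eq_two_iff' (1 : Subgroup.center ↥H.Q)).2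
      ⟨⟨⟨H.t, H.t_mem⟩, Subgroup.mem_center_iff.2 fun r => (H.ext.central r).eq.symm⟩, ?_, ?_⟩
    · intro h
      exact H.t_ne (congrArg (fun z : Subgroup.center ↥H.Q => ((z : ↥H.Q) : G)) h)
    · intro z hz
      rcases H.ext.center (z : ↥H.Q) (fun r => (Subgroup.mem_center_iff.1 z.2 r).symm) with h | h
      · exact absurd (Subtype.ext h) hz
      · exact Subtype.ext h
  have hd0 : commutator ↥H.Q ≤ Subgroup.center ↥H.Q := by
    rw [commutator_def, Subgroup.commutator_le]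
    intro a _ b _
    rw [Subgroup.mem_center_iff]
    intro r
    rcases H.ext.comm a b with h | h
    · rw [commutatorElement_eq_one_iff_mul_comm.2 h.symm, mul_one, one_mul]
    · have : ⁅a, b⁆ = ⟨H.t, H.t_mem⟩ := by
        rw [commutatorElement_def, mul_inv_eq_iff_eq_mul, mul_inv_eq_iff_eq_mul, mul_assoc _ b a, h]
        rw [← mul_assoc, (H.ext.central (a * b)).eq, mul_assoc, H.ext.zz, mul_one]
      rw [this]
      exact ((H.ext.central r).eq).symm
  obtain ⟨m, hm, hb⟩ := Solv.card_eq_odd_pow (E := ↥H.Q) (p := 2) hc0 hd0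
  rw [H.Q_card] at hm
  have hm4 : m = 4 := by
    have := Nat.pow_right_injective le_rfl (show (2:ℕ) ^ 9 = 2 ^ (2 * m + 1) by rw [← hm])
    omega
  subst hm4
  have h := hb (B.subgroupOf H.Q) ⟨⟨fun x y => Subtype.ext (Subtype.ext (hc _ x.2 _ y.2))⟩⟩
  rwa [Nat.card_congr (Subgroup.subgroupOfEquivOfLe hB).toEquiv] at h

theorem card_cases (M : Moved H g) (hw : H.Weak) :
    Nat.card (H.EE g) ≤ 16 ∨ (Nat.card (H.EE g) = 32 ∧ MM M = H.Q) := by
  have hcomm : ∀ a ∈ H.EE g, ∀ b ∈ H.EE g, Commute a b := fun a ha b hb => H.kap_eq_zero.1 (EE_kap M hw ha hb)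
  have hd := abelian_card (B := H.EE g) inf_le_left hcomm
  have hle := Nat.le_of_dvd (by norm_num) hd
  by_cases h : Nat.card (H.EE g) ≤ 16
  · exact Or.inl h
  have h32 : Nat.card (H.EE g) = 32 := by
    interval_cases hk : Nat.card (H.EE g) <;> revert hd <;> norm_num
  refine Or.inr ⟨h32, le_antisymm (fun a ha => ((mem_MM M).1 ha).1) fun a ha => (mem_MM M).2 ⟨ha, ?_⟩⟩
  set y := H.ff g a with hy
  have hyQ : y ∈ H.Q := ff_mem M ha
  have hye : ∀ e ∈ H.EE g, Commute e y := fun e he => by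
    obtain ⟨heQ, hec⟩ := mem_EE.1 he
    refine (H.kap_eq_zero.1 ?_).symm
    rw [hy, kap_ff M ha heQ, ← hec.eq, mul_assoc, hh_sq, mul_one, CharTwo.add_self_eq_zero]
  let B := H.EE g ⊔ Subgroup.zpowers y
  have hB : B ≤ H.Q := sup_le inf_le_left (Subgroup.zpowers_le.2 hyQ)
  have hBc : ∀ u ∈ B, ∀ v ∈ B, Commute u v := by
    have hgen : B = Subgroup.closure ((H.EE g : Set G) ∪ {y}) := by
      rw [Subgroup.closure_union, Subgroup.closure_eq]
      exact congrArg (H.EE g ⊔ ·) (Subgroup.zpowers_eq_closure y)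
    have hp : ∀ u ∈ (H.EE g : Set G) ∪ {y}, ∀ v ∈ (H.EE g : Set G) ∪ {y}, u * v = v * u := by
      rintro u (hu | hu) v (hv | hv)
      · exact hcomm u hu v hv
      · rw [Set.mem_singleton_iff.1 hv]; exact (hye u hu).eq
      · rw [Set.mem_singleton_iff.1 hu]; exact (hye v hv).eq.symm
      · rw [Set.mem_singleton_iff.1 hu, Set.mem_singleton_iff.1 hv]
    haveI := Subgroup.isMulCommutative_closure hp
    intro u hu v hv
    rw [hgen] at hu hv
    exact congrArg Subtype.val (mul_comm' (⟨u, hu⟩ : Subgroup.closure ((H.EE g : Set G) ∪ {y})) ⟨v, hv⟩)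
  have hBd := Nat.le_of_dvd (by norm_num) (abelian_card hB hBc)
  have heq : H.EE g = B := Subgroup.eq_of_le_of_card_ge le_sup_left (by omega)
  rw [heq]
  exact Subgroup.mem_sup_right (Subgroup.mem_zpowers y)

theorem ff_eq_iff (a b : G) : H.ff g a = H.ff g b ↔ Commute (b⁻¹ * a) (H.hh g) := by
  rw [Hyp.ff, Hyp.ff, mul_left_inj]
  constructor
  · intro h
    calc b⁻¹ * a * H.hh g = b⁻¹ * (a * H.hh g * a⁻¹) * a := by group
      _ = b⁻¹ * (b * H.hh g * b⁻¹) * a := by rw [h]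
      _ = _ := by group
  · intro h
    calc a * H.hh g * a⁻¹ = b * (b⁻¹ * a * H.hh g) * a⁻¹ := by group
      _ = b * (H.hh g * (b⁻¹ * a)) * a⁻¹ := by rw [h.eq]
      _ = _ := by group

theorem FF_card (M : Moved H g) (hw : H.Weak) : 16 ≤ Nat.card (FF M) := by
  classical
  let f : ↥(MM M) ⧸ (H.EE g).subgroupOf (MM M) → ↥(FF M) := fun q =>
    ⟨H.ff g (q.out : G), Set.mem_image_of_mem _ q.out.2⟩
  have hinj : Function.Injective f := fun q r h => by
    have h' := (ff_eq_iff (H := H) (g := g) _ _).1 (congrArg Subtype.val h).symm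
    rw [← QuotientGroup.out_eq' q, ← QuotientGroup.out_eq' r, QuotientGroup.eq, Subgroup.mem_subgroupOf]
    push_cast
    exact mem_EE.2 ⟨mul_mem (inv_mem ((mem_MM M).1 q.out.2).1) ((mem_MM M).1 r.out.2).1, h'⟩
  have h1 := Nat.card_le_card_of_injective f hinj
  have h2 := Subgroup.card_eq_card_quotient_mul_card_subgroup ((H.EE g).subgroupOf (MM M))
  have hle : H.EE g ≤ MM M := fun a ha => by
    refine (mem_MM M).2 ⟨(mem_EE.1 ha).1, ?_⟩
    have : H.ff g a = 1 := by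
      rw [Hyp.ff, (mem_EE.1 ha).2.eq, mul_inv_cancel_right, hh_sq]
    rw [this]
    exact one_mem _
  rw [Nat.card_congr (Subgroup.subgroupOfEquivOfLe hle).toEquiv] at h2
  rcases card_cases M hw with h | ⟨h, hM⟩
  · have := MM_card M
    have h3 := Nat.mul_le_mul_left (Nat.card (↥(MM M) ⧸ (H.EE g).subgroupOf (MM M))) h
    omega
  · have h512 : Nat.card (MM M) = 512 := by rw [hM]; exact H.Q_card
    rw [h, h512] at h2
    omega

theorem psi_range_le (g : G) [Fact (Nat.Prime 2)] : Nat.card (psi H g).range ≤ 8 := by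
  have h1 : Nat.card (psi H g).range ∣ 512 :=
    (Subgroup.card_range_dvd _).trans (H.Q_card ▸ Subgroup.card_dvd_of_le inf_le_left)
  have h2 : Nat.card (psi H g).range ∣ 216 := by
    have := Subgroup.card_subgroup_dvd_card (psi H g).range
    rwa [show Nat.card S3c = 216 by simp [Nat.card_eq_fintype_card, Fintype.card_prod, Fintype.card_perm,
      Nat.factorial]] at this
  exact Nat.le_of_dvd (by norm_num) (Nat.dvd_gcd h1 h2 |>.trans (by norm_num))

theorem ff_div (M : Moved H g) {a b : G} (ha : a ∈ MM M) (hb : b ∈ MM M) :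
    a⁻¹ * b ∈ MM M ∧
      H.ff g (a⁻¹ * b) = H.ff g b * H.ff g a * H.tp (H.kap a (H.ff g b * H.ff g a)) := by
  refine ⟨mul_mem (inv_mem ha) hb, ?_⟩
  obtain ⟨haQ, haE⟩ := (mem_MM M).1 ha
  obtain ⟨hbQ, hbE⟩ := (mem_MM M).1 hb
  have hfa : H.ff g a * H.ff g a = 1 := H.kap_sym_zero.1 ((ff_mem_EE_iff M haQ).1 haE)
  have hz : H.ff g b * H.ff g a ∈ H.Q := mul_mem (ff_mem M hbQ) (ff_mem M haQ)
  have e : H.ff g b = a * H.ff g (a⁻¹ * b) * a⁻¹ * H.ff g a := by
    rw [← ff_mul, mul_inv_cancel_left]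
  have e2 : H.ff g (a⁻¹ * b) = a⁻¹ * (H.ff g b * H.ff g a) * a := by
    calc H.ff g (a⁻¹ * b) = a⁻¹ * ((a * H.ff g (a⁻¹ * b) * a⁻¹ * H.ff g a) * H.ff g a) * a := by
          rw [mul_assoc (a * H.ff g (a⁻¹ * b) * a⁻¹), hfa]; group
      _ = _ := by rw [← e]
  have h3 := H.conj_eq (inv_mem haQ) hz
  rw [inv_inv, H.kap_symm, H.kap_inv_right hz haQ, H.kap_symm] at h3
  rw [e2, h3]

theorem t_notMem (M : Moved H g) (hw : H.Weak) : H.t ∉ FF M := by
  rintro ⟨m, hm, hmt⟩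
  haveI : Fact (Nat.Prime 2) := ⟨Nat.prime_two⟩
  obtain ⟨hmQ, -⟩ := (mem_MM M).1 hm
  have hclosed : ∀ y ∈ FF M, y * H.t ∈ FF M := by
    rintro _ ⟨a, ha, rfl⟩
    obtain ⟨haQ, -⟩ := (mem_MM M).1 ha
    refine ⟨m * a, mul_mem hm ha, ?_⟩
    have hfa := ff_mem M haQ
    rw [ff_mul, hmt, H.conj_eq hmQ hfa]
    have hk : H.kap m (H.ff g a) = 0 := by
      rw [H.kap_symm, kap_ff M haQ hmQ, ← H.kap_symm m]
      have h2 := kap_ff M hmQ haQ
      rw [hmt, H.kap_symm, H.kap_t haQ] at h2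
      have e3 : H.kap a (H.hh g * m * H.hh g) = H.kap m (H.hh g * a * H.hh g) := by
        rw [H.kap_symm m, ← kap_hh M a (H.hh g * m * H.hh g)]
        congr 1
        calc H.hh g * (H.hh g * m * H.hh g) * H.hh g = (H.hh g * H.hh g) * m * (H.hh g * H.hh g) := by group
          _ = m := by rw [hh_sq]; group
      rw [e3]
      exact h2.symm
    rw [hk, H.tp_zero, mul_one]
  have hinj : Function.Injective fun y : ↥(FF M) => psi H g ⟨y.1, FF_le M y.2⟩ := by
    rintro ⟨y, a, ha, rfl⟩ ⟨z, b, hb, rfl⟩ hyz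
    obtain ⟨hab, hz⟩ := ff_div M ha hb
    have hmem : H.ff g b * H.ff g a ∈ FF M := by
      rcases bit_cases (H.kap a (H.ff g b * H.ff g a)) with h | h
      · rw [h, H.tp_zero, mul_one] at hz
        exact ⟨_, hab, hz⟩
      · rw [h, H.tp_one] at hz
        have := hclosed _ ⟨_, hab, hz⟩
        rwa [mul_assoc, H.t_sq, mul_one] at this
    obtain ⟨c, hc, hce⟩ := hmem
    have hfa := EE_sq M hw ((mem_MM M).1 ha).2
    have h1 : psi H g ⟨_, ((mem_MM M).1 hc).2⟩ = 1 := by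
      have e : (⟨_, ((mem_MM M).1 hc).2⟩ : ↥(H.EE g)) = ⟨_, ((mem_MM M).1 hb).2⟩ * ⟨_, ((mem_MM M).1 ha).2⟩ :=
        Subtype.ext hce
      rw [e, map_mul]
      have e2 : (⟨_, ((mem_MM M).1 ha).2⟩ : ↥(H.EE g)) * ⟨_, ((mem_MM M).1 ha).2⟩ = 1 := Subtype.ext hfa
      simp only at hyz
      rw [← hyz, ← map_mul, e2, map_one]
    have h2 := psi_eq_one hw _ h1
    rw [hce] at h2
    exact Subtype.ext ((mul_eq_one_iff_eq_inv.1 h2).trans (inv_eq_of_mul_eq_one_right hfa)).symm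
  have h1 := Nat.card_le_card_of_injective
    (fun y : ↥(FF M) => (⟨psi H g ⟨y.1, FF_le M y.2⟩, _, rfl⟩ : ↥(psi H g).range))
    (fun y z h => hinj (congrArg Subtype.val h))
  have := psi_range_le (H := H) g
  have := FF_card M hw
  omega

theorem EE_split (M : Moved H g) (hw : H.Weak) :
    Nat.card (H.EE g) = 32 ∧ MM M = H.Q ∧ Nat.card (FF M) = 16 ∧ ∀ e ∈ H.EE g, e ∈ FF M ∨ e * H.t ∈ FF M := by
  classical
  have h16 := FF_card M hw
  let f : ↥(FF M) × Bool → ↥(H.EE g) := fun p =>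
    bif p.2 then ⟨p.1.1 * H.t, mul_mem (FF_le M p.1.2) (t_mem_EE M)⟩ else ⟨p.1.1, FF_le M p.1.2⟩
  have hf : Function.Injective f := by
    have key : ∀ y z : ↥(FF M), y.1 * H.t ≠ z.1 := by
      rintro ⟨y, a, ha, rfl⟩ ⟨z, b, hb, rfl⟩ h
      obtain ⟨hab, hz⟩ := ff_div M ha hb
      change H.ff g a * H.t = H.ff g b at h
      have hfa := EE_sq M hw ((mem_MM M).1 ha).2
      have he : H.ff g b * H.ff g a = H.t := by
        rw [← h, (H.commute_t (ff_mem M ((mem_MM M).1 ha).1)).eq, mul_assoc, hfa, mul_one]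
      rw [he, H.kap_t ((mem_MM M).1 ha).1, H.tp_zero, mul_one] at hz
      exact t_notMem M hw ⟨_, hab, hz⟩
    rintro ⟨y, i⟩ ⟨z, j⟩ h
    cases i <;> cases j <;> simp only [f, cond_true, cond_false, Subtype.mk.injEq] at h
    · exact Prod.ext (Subtype.ext h) rfl
    · exact absurd h.symm (key z y)
    · exact absurd h (key y z)
    · exact Prod.ext (Subtype.ext (mul_right_cancel h)) rfl
  have h1 := Nat.card_le_card_of_injective f hf
  rw [Nat.card_prod] at h1
  have h2 : Nat.card Bool = 2 := by simp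
  rw [h2] at h1
  obtain ⟨h32, hM⟩ : Nat.card (H.EE g) = 32 ∧ MM M = H.Q := (card_cases M hw).resolve_left (by omega)
  have hc : Nat.card (FF M) = 16 := by omega
  refine ⟨h32, hM, hc, fun e he => ?_⟩
  have hs := ((Nat.bijective_iff_injective_and_card f).2 ⟨hf, by rw [Nat.card_prod, h2, hc, h32]⟩).2 ⟨e, he⟩
  obtain ⟨⟨⟨y, hy⟩, i⟩, hyi⟩ := hs
  cases i <;> simp only [f, cond_true, cond_false, Subtype.mk.injEq] at hyi
  · exact Or.inl (hyi ▸ hy)
  · refine Or.inr ?_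
    rw [← hyi, mul_assoc, H.t_sq, mul_one]
    exact hy

/-- kernel elements other than `1` are commutators times `t` -/
theorem ker_form (M : Moved H g) (hw : H.Weak) {d : ↥(H.EE g)} (hd : psi H g d = 1) (h1 : (d : G) ≠ 1) :
    ∃ a ∈ MM M, H.ff g a = (d : G) * H.t := by
  rcases (EE_split M hw).2.2.2 d d.2 with ⟨a, ha, h⟩ | h
  · refine absurd ?_ h1
    rw [← h]
    refine psi_eq_one hw ((mem_MM M).1 ha).2 ?_
    convert hd using 2
    exact Subtype.ext h
  · exact h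

theorem kap_ker (M : Moved H g) (hw : H.Weak) {d : ↥(H.EE g)} (hd : psi H g d = 1) {a b : G} (ha : a ∈ MM M)
    (hb : b ∈ MM M) (hab : H.ff g b * H.ff g a = d) (hd1 : (d : G) ≠ 1) : H.kap a d = 1 := by
  obtain ⟨hab', hz⟩ := ff_div M ha hb
  rw [hab] at hz
  rcases bit_cases (H.kap a d) with h | h
  · rw [h, H.tp_zero, mul_one] at hz
    refine absurd ?_ hd1
    rw [← hz]
    refine psi_eq_one hw ((mem_MM M).1 hab').2 ?_
    convert hd using 2
    exact Subtype.ext hz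
  · exact h

theorem kap_add_eq {a d e : G} (ha : a ∈ H.Q) (hd : d ∈ H.Q) (he : e ∈ H.Q) (h1 : H.kap a d = 1)
    (h2 : H.kap a e = 1) : H.kap a (d * e) = 0 := by
  rw [H.kap_mul_right ha hd he, h1, h2]; rfl

/-- The image of the centralizer has order eight and consists of images of conjugates. -/
theorem image_full (M : Moved H g) (hw : H.Weak) :
    Nat.card (psi H g).range = 8 ∧
      ∀ e : ↥(H.EE g), psi H g e ≠ 1 → ∃ a ∈ MM M, ∃ h : H.ff g a ∈ H.EE g, psi H g ⟨_, h⟩ = psi H g e := by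
  classical
  haveI : Fact (Nat.Prime 2) := ⟨Nat.prime_two⟩
  obtain ⟨h32, -, -, hsplit⟩ := EE_split M hw
  have h8 := psi_range_le (H := H) g
  have hk := (psi H g).ker.card_mul_index
  rw [Subgroup.index_ker, h32] at hk
  have hk4 : 4 ≤ Nat.card (psi H g).ker := by
    by_contra hlt
    have := Nat.mul_le_mul (show Nat.card (psi H g).ker ≤ 3 by omega) h8
    omega
  have pairs : ∀ d e : ↥(H.EE g), psi H g d = 1 → psi H g e = 1 → (d : G) ≠ 1 → (e : G) ≠ 1 → d ≠ e →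
      ∀ a ∈ MM M, H.ff g a = (d : G) * H.t → H.kap a e = 1 := by
    intro d e hd he hd1 he1 hne a ha hfa
    obtain ⟨b, hb, hfb⟩ := ker_form M hw he he1
    have hde : H.ff g b * H.ff g a = ((e * d : ↥(H.EE g)) : G) := by
      rw [hfa, hfb, ← mul_assoc, mul_assoc (e : G) H.t, ← (H.commute_t (mem_EE.1 d.2).1).eq, ← mul_assoc,
        mul_assoc, H.t_sq, mul_one]
      rfl
    have h1 := kap_ker M hw (d := e * d) (by rw [map_mul, he, hd, one_mul]) ha hb hde (fun h => hne ?_)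
    · obtain ⟨haQ, haE⟩ := (mem_MM M).1 ha
      rw [Subgroup.coe_mul, H.kap_mul_right haQ (mem_EE.1 e.2).1 (mem_EE.1 d.2).1] at h1
      have h2 : H.kap a d = 0 := by
        have h3 : H.kap (H.ff g a) a = H.kap a a + H.kap a (H.hh g * a * H.hh g) := kap_ff M haQ haQ
        have h4 : H.qf (H.ff g a) = 0 := (ff_mem_EE_iff M haQ).1 haE
        have h5 : H.ff g a = a * (H.hh g * a * H.hh g)⁻¹ := by
          have hi : (H.hh g)⁻¹ = H.hh g := inv_eq_of_mul_eq_one_right hh_sq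
          simp only [Hyp.ff, mul_inv_rev, hi, mul_assoc]
        have h6 := h4
        rw [h5, H.qf_mul haQ (inv_mem (hh_conj_mem M haQ)), H.qf_inv, H.kap_inv_right haQ (hh_conj_mem M haQ)] at h6
        have h7 : H.qf (H.hh g * a * H.hh g) = H.qf a := by
          conv_rhs => rw [← H.qf_conj (H.hh g) a, inv_eq_of_mul_eq_one_right hh_sq]
        rw [h7, CharTwo.add_self_eq_zero, zero_add] at h6
        rw [H.kap_self, zero_add, h6, H.kap_symm, hfa, H.kap_mul_right haQ (mem_EE.1 d.2).1 H.t_mem, H.kap_t haQ,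
          add_zero] at h3
        exact h3
      rwa [h2, add_zero] at h1
    · rw [Subgroup.coe_mul] at h
      refine Subtype.ext ?_
      rw [mul_eq_one_iff_inv_eq, inv_eq_of_mul_eq_one_right (EE_sq M hw e.2)] at h
      exact h.symm
  haveI := Fintype.ofFinite ↥(psi H g).ker
  have hk4' : Nat.card (psi H g).ker = 4 := by
    refine le_antisymm (not_lt.1 fun hlt => ?_) hk4
    have hF : (Finset.univ : Finset ↥(psi H g).ker).card ≥ 5 := by
      rw [Finset.card_univ, ← Nat.card_eq_fintype_card]; omega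
    obtain ⟨x, -, hx⟩ : ∃ x ∈ (Finset.univ : Finset ↥(psi H g).ker), x ∉ ({1} : Finset ↥(psi H g).ker) :=
      Finset.exists_mem_notMem_of_card_lt_card (by rw [Finset.card_singleton]; omega)
    obtain ⟨y, -, hy⟩ : ∃ y ∈ (Finset.univ : Finset ↥(psi H g).ker), y ∉ ({1, x} : Finset ↥(psi H g).ker) :=
      Finset.exists_mem_notMem_of_card_lt_card (Finset.card_le_two.trans_lt (by omega))
    obtain ⟨w, -, hw'⟩ :
        ∃ w ∈ (Finset.univ : Finset ↥(psi H g).ker), w ∉ ({1, x, y, x * y} : Finset ↥(psi H g).ker) :=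
      Finset.exists_mem_notMem_of_card_lt_card (Finset.card_le_four.trans_lt (by omega))
    simp only [Finset.mem_singleton, Finset.mem_insert, not_or] at hx hy hw'
    have hv : ∀ z : ↥(psi H g).ker, z ≠ 1 → ((z : ↥(H.EE g)) : G) ≠ 1 := fun z hz e =>
      hz (Subtype.ext (Subtype.ext e))
    have hxy : x * y ≠ 1 := fun e => hy.2 (by
      rw [mul_eq_one_iff_inv_eq] at e
      rw [← e]
      exact inv_eq_of_mul_eq_one_right (Subtype.ext (Subtype.ext (EE_sq M hw (x : ↥(H.EE g)).2))))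
    obtain ⟨a, ha, hfa⟩ := ker_form M hw (d := (w : ↥(H.EE g))) w.2 (hv w hw'.1)
    have p : ∀ z : ↥(psi H g).ker, z ≠ 1 → w ≠ z → H.kap a ((z : ↥(H.EE g)) : G) = 1 := fun z hz hwz =>
      pairs _ _ w.2 z.2 (hv w hw'.1) (hv z hz) (fun e => hwz (Subtype.ext e)) a ha hfa
    have h3 := kap_add_eq ((mem_MM M).1 ha).1 (mem_EE.1 (x : ↥(H.EE g)).2).1 (mem_EE.1 (y : ↥(H.EE g)).2).1
      (p x hx hw'.2.1) (p y hy.1 hw'.2.2.1)
    have h4 := p _ hxy hw'.2.2.2
    rw [Subgroup.coe_mul, Subgroup.coe_mul, h3] at h4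
    exact zero_ne_one h4
  refine ⟨by rw [hk4'] at hk; omega, fun e _ => ?_⟩
  by_contra hno
  simp only [not_exists, not_and] at hno
  have hout : ∀ d : ↥(psi H g).ker, ∃ a ∈ MM M, H.ff g a = ((e * d : ↥(H.EE g)) : G) * H.t := fun d => by
    rcases hsplit _ (e * (d : ↥(H.EE g))).2 with ⟨a, ha, h⟩ | ⟨a, ha, h⟩
    · refine absurd ?_ (hno a ha ((mem_MM M).1 ha).2)
      calc psi H g ⟨_, ((mem_MM M).1 ha).2⟩ = psi H g (e * (d : ↥(H.EE g))) := congrArg _ (Subtype.ext h)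
        _ = psi H g e := by rw [map_mul, MonoidHom.mem_ker.1 d.2, mul_one]
    · exact ⟨a, ha, h⟩
  obtain ⟨b, hb, hfb⟩ := hout 1
  rw [OneMemClass.coe_one, mul_one] at hfb
  have hbk : ∀ d : ↥(psi H g).ker, d ≠ 1 → H.kap b ((d : ↥(H.EE g)) : G) = 1 := fun d hd => by
    obtain ⟨c, hc, hfc⟩ := hout d
    refine kap_ker M hw d.2 hb hc ?_ (fun h => hd (Subtype.ext (Subtype.ext h)))
    have hdQ := (mem_EE.1 (d : ↥(H.EE g)).2).1
    have heQ := (mem_EE.1 e.2).1
    rw [hfc, hfb, Subgroup.coe_mul]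
    rw [(H.kap_eq_zero.1 (EE_kap M hw e.2 (d : ↥(H.EE g)).2)).eq]
    calc (d : G) * e * H.t * ((e : G) * H.t) = (d : G) * (e * (H.t * e) * H.t) := by simp only [mul_assoc]
      _ = (d : G) * (e * (e * H.t) * H.t) := by rw [(H.commute_t heQ).eq]
      _ = (d : G) * ((e * e) * (H.t * H.t)) := by simp only [mul_assoc]
      _ = d := by rw [EE_sq M hw e.2, H.t_sq, mul_one, mul_one]
  obtain ⟨x, -, hx⟩ : ∃ x ∈ (Finset.univ : Finset ↥(psi H g).ker), x ∉ ({1} : Finset ↥(psi H g).ker) :=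
    Finset.exists_mem_notMem_of_card_lt_card
      (by rw [Finset.card_singleton, Finset.card_univ, ← Nat.card_eq_fintype_card]; omega)
  obtain ⟨y, -, hy⟩ : ∃ y ∈ (Finset.univ : Finset ↥(psi H g).ker), y ∉ ({1, x} : Finset ↥(psi H g).ker) :=
    Finset.exists_mem_notMem_of_card_lt_card
      (Finset.card_le_two.trans_lt (by rw [Finset.card_univ, ← Nat.card_eq_fintype_card]; omega))
  simp only [Finset.mem_singleton, Finset.mem_insert, not_or] at hx hy
  have hxy : x * y ≠ 1 := fun e' => hy.2 (by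
    rw [mul_eq_one_iff_inv_eq] at e'
    rw [← e']
    exact inv_eq_of_mul_eq_one_right (Subtype.ext (Subtype.ext (EE_sq M hw (x : ↥(H.EE g)).2))))
  have h3 := kap_add_eq ((mem_MM M).1 hb).1 (mem_EE.1 (x : ↥(H.EE g)).2).1 (mem_EE.1 (y : ↥(H.EE g)).2).1
    (hbk x hx) (hbk y hy.1)
  have h4 := hbk _ hxy
  rw [Subgroup.coe_mul, Subgroup.coe_mul, h3] at h4
  exact zero_ne_one h4

/-- elements of `Q` inverted or centralized modulo `t` by the conjugate are centralized by it -/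
theorem fixed_mod (M : Moved H g) (hw : H.Weak) {q : G} (hq : q ∈ H.Q)
    (h : H.hh g * q * H.hh g = q⁻¹) : q ∈ H.EE g := by
  have hi : (H.hh g)⁻¹ = H.hh g := inv_eq_of_mul_eq_one_right hh_sq
  rcases H.sq_mem hq with e | e
  · refine mem_EE.2 ⟨hq, ?_⟩
    rw [inv_eq_of_mul_eq_one_right e] at h
    have h2 := congrArg (· * H.hh g) h
    simp only [mul_assoc, hh_sq, mul_one] at h2
    exact h2.symm
  · exfalso
    refine t_notMem M hw ⟨q, (mem_MM M).2 ⟨hq, ?_⟩, ?_⟩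
    · have : H.ff g q = H.t := by
        rw [Hyp.ff, show q * H.hh g * q⁻¹ * H.hh g = q * (H.hh g * q * H.hh g)⁻¹ by
          simp only [mul_inv_rev, hi, mul_assoc], h, inv_inv, e]
      rw [this]
      exact t_mem_EE M
    · rw [Hyp.ff, show q * H.hh g * q⁻¹ * H.hh g = q * (H.hh g * q * H.hh g)⁻¹ by
        simp only [mul_inv_rev, hi, mul_assoc], h, inv_inv, e]

/-- A centralizer element whose image commutes with the image of the conjugate can be corrected by `Q` to commute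
with the conjugate, possibly after squaring. -/
theorem exists_commute (M : Moved H g) (hw : H.Weak) (ρ : ↥H.C)
    (hρ : Commute (H.π ρ) (H.π ⟨_, M.mem⟩)) :
    ∃ c : ↥H.C, Commute (c : G) (H.hh g) ∧ (H.π c = H.π ρ ∨ H.π c = H.π ρ * H.π ρ) := by
  have hi : (H.hh g)⁻¹ = H.hh g := inv_eq_of_mul_eq_one_right hh_sq
  set y : ↥H.C := ρ * ⟨_, M.mem⟩ * ρ⁻¹ with hy
  have hq : H.hh g * (y : G) ∈ H.Q := by
    have h := (H.π_eq_iff (a := (⟨_, M.mem⟩ : ↥H.C)) (b := y)).1 (by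
      rw [hy, map_mul, map_mul, hρ.eq, map_inv, mul_inv_cancel_right])
    rwa [show ((⟨_, M.mem⟩ : ↥H.C) : G) = H.hh g from rfl, hi] at h
  have hyy : (y : G) * y = 1 := by
    rw [hy]
    push_cast
    calc (ρ : G) * H.hh g * (ρ : G)⁻¹ * ((ρ : G) * H.hh g * (ρ : G)⁻¹) = ρ * (H.hh g * H.hh g) * (ρ : G)⁻¹ := by
          group
      _ = 1 := by rw [hh_sq]; group
  have hE : H.hh g * (y : G) ∈ H.EE g := by
    refine fixed_mod M hw hq ?_
    rw [mul_inv_rev, hi, inv_eq_of_mul_eq_one_right hyy, ← mul_assoc, hh_sq, one_mul]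
  have hycases : ∃ a ∈ MM M, (y : G) = a * H.hh g * a⁻¹ ∨ (y : G) = a * H.hh g * a⁻¹ * H.t := by
    have hyh : (y : G) = H.hh g * y * H.hh g := by
      have h2 := (mem_EE.1 hE).2.eq
      rw [← mul_assoc (H.hh g) (H.hh g), hh_sq, one_mul] at h2
      exact h2.symm
    rcases (EE_split M hw).2.2.2 _ hE with ⟨a, ha, h⟩ | ⟨a, ha, h⟩
    · refine ⟨a, ha, Or.inl ?_⟩
      calc (y : G) = H.hh g * (H.hh g * y) := by rw [← mul_assoc, hh_sq, one_mul]
        _ = H.hh g * H.ff g a := by rw [h]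
        _ = H.ff g a * H.hh g := ((mem_EE.1 ((mem_MM M).1 ha).2).2).eq.symm
        _ = _ := by rw [Hyp.ff, mul_assoc, hh_sq, mul_one]
    · refine ⟨a, ha, Or.inr ?_⟩
      calc (y : G) = H.hh g * (H.hh g * y * H.t) * H.t := by
            rw [← mul_assoc, ← mul_assoc, hh_sq, one_mul, mul_assoc, H.t_sq, mul_one]
        _ = H.hh g * H.ff g a * H.t := by rw [h]
        _ = H.ff g a * H.hh g * H.t := by rw [((mem_EE.1 ((mem_MM M).1 ha).2).2).eq]
        _ = _ := by rw [Hyp.ff, mul_assoc (a * H.hh g * a⁻¹), hh_sq, mul_one]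
  obtain ⟨a, ha, hya⟩ := hycases
  obtain ⟨haQ, -⟩ := (mem_MM M).1 ha
  have haπ : H.π ⟨a, H.Q_le haQ⟩ = 1 := (H.π_ker _).2 haQ
  have hρt : Commute (ρ : G) H.t := H.mem_C.1 ρ.2
  have hyv : (y : G) = ρ * H.hh g * (ρ : G)⁻¹ := rfl
  rcases hya with e | e
  · refine ⟨⟨a, H.Q_le haQ⟩⁻¹ * ρ, ?_, Or.inl (by rw [map_mul, map_inv, haπ, inv_one, one_mul])⟩
    rw [hyv] at e
    push_cast
    calc a⁻¹ * (ρ : G) * H.hh g = a⁻¹ * (ρ * H.hh g * (ρ : G)⁻¹) * ρ := by group
      _ = a⁻¹ * (a * H.hh g * a⁻¹) * ρ := by rw [e]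
      _ = _ := by group
  · set b := (ρ : G) * a * (ρ : G)⁻¹ with hb
    have hbQ : b ∈ H.Q := H.conj_mem ρ.2 haQ
    have hbaπ : H.π ⟨b * a, H.Q_le (mul_mem hbQ haQ)⟩ = 1 := (H.π_ker _).2 (mul_mem hbQ haQ)
    refine ⟨⟨b * a, H.Q_le (mul_mem hbQ haQ)⟩⁻¹ * (ρ * ρ), ?_,
      Or.inr (by rw [map_mul, map_inv, hbaπ, inv_one, one_mul, map_mul])⟩
    have e2 : (ρ : G) * ρ * H.hh g * ((ρ : G)⁻¹ * (ρ : G)⁻¹) = b * a * H.hh g * (b * a)⁻¹ := by
      rw [hyv] at e
      calc (ρ : G) * ρ * H.hh g * ((ρ : G)⁻¹ * (ρ : G)⁻¹) = ρ * (ρ * H.hh g * (ρ : G)⁻¹) * (ρ : G)⁻¹ := by group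
        _ = ρ * (a * H.hh g * a⁻¹ * H.t) * (ρ : G)⁻¹ := by rw [e]
        _ = b * (ρ * H.hh g * (ρ : G)⁻¹) * b⁻¹ * (ρ * H.t * (ρ : G)⁻¹) := by rw [hb]; group
        _ = b * (a * H.hh g * a⁻¹ * H.t) * b⁻¹ * H.t := by rw [e, hρt.eq, mul_inv_cancel_right]
        _ = b * (a * H.hh g * a⁻¹) * (H.t * b⁻¹) * H.t := by group
        _ = b * (a * H.hh g * a⁻¹) * b⁻¹ * (H.t * H.t) := by
          rw [← (H.commute_t (inv_mem hbQ)).eq]; simp only [mul_assoc]
        _ = _ := by rw [H.t_sq, mul_one]; group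
    push_cast
    calc (b * a)⁻¹ * ((ρ : G) * ρ) * H.hh g
        = (b * a)⁻¹ * ((ρ : G) * ρ * H.hh g * ((ρ : G)⁻¹ * (ρ : G)⁻¹)) * ((ρ : G) * ρ) := by group
      _ = (b * a)⁻¹ * (b * a * H.hh g * (b * a)⁻¹) * ((ρ : G) * ρ) := by rw [e2]
      _ = _ := by group

theorem moved_inv (M : Moved H g) : Moved H g⁻¹ := by
  refine ⟨?_, fun h => M.ne ?_⟩
  · have h2 := Commute.conj_iff g |>.2 (H.mem_C.1 M.mem)
    rw [H.mem_C, Hyp.hh, inv_inv]
    rw [Hyp.hh, show g * (g⁻¹ * H.t * g) * g⁻¹ = H.t by group] at h2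
    exact h2.symm
  · rw [Hyp.hh, inv_inv] at h
    rw [Hyp.hh]
    nth_rewrite 1 [← h]
    group

/-- Without another conjugate in `Q` the involution is isolated. -/
theorem isolated_of_weak (hw : H.Weak) : ∀ g : G, Commute H.t (g * H.t * g⁻¹) → g * H.t * g⁻¹ = H.t := by
  intro g hg
  by_contra hne
  have M : Moved H g⁻¹ := ⟨H.mem_C.2 (by rw [Hyp.hh, inv_inv]; exact hg.symm), by rwa [Hyp.hh, inv_inv]⟩
  obtain ⟨h8, hreal⟩ := image_full M hw
  obtain ⟨a, b, c, ha, -, -, -, hall⟩ := eight_product (psi H g⁻¹).range (by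
    rintro _ ⟨e, rfl⟩
    rw [← map_mul, show e * e = 1 from Subtype.ext (EE_sq M hw e.2), map_one]) h8.ge
  obtain ⟨e, he⟩ := hall true false false
  simp only [cond_true, cond_false] at he
  have hne1 : psi H g⁻¹ e ≠ 1 := fun h => ha.2 (congrArg Prod.fst (he.symm.trans h))
  obtain ⟨m, hm, hfm, hpsi⟩ := hreal e hne1
  rw [he] at hpsi
  set k := g⁻¹ * m * g with hk
  have hx : g⁻¹ * H.ff g⁻¹ m * g = k * H.t * k⁻¹ * H.t := by rw [hk, Hyp.ff, Hyp.hh, inv_inv]; group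
  have hxC : g⁻¹ * H.ff g⁻¹ m * g ∈ H.C := by have := conj_mem_C hfm; rwa [inv_inv] at this
  have hyC : k * H.t * k⁻¹ ∈ H.C := by
    have := mul_mem hxC H.t_mem_C
    rwa [hx, mul_assoc, H.t_sq, mul_one] at this
  have M2 : Moved H k⁻¹ := by
    refine ⟨by rw [Hyp.hh, inv_inv]; exact hyC, fun h => ha.2 ?_⟩
    rw [Hyp.hh, inv_inv] at h
    have h1 : g⁻¹ * H.ff g⁻¹ m * g = 1 := by rw [hx, h, H.t_sq]
    have : psi H g⁻¹ ⟨_, hfm⟩ = 1 := by
      refine (H.π_ker _).2 ?_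
      simp only [inv_inv]
      rw [h1]
      exact one_mem _
    exact congrArg Prod.fst (hpsi.symm.trans this)
  have hπy : H.π ⟨_, M2.mem⟩ = (a, 1, 1) := by
    rw [← hpsi]
    refine (H.π_eq_iff).2 ?_
    simp only [Hyp.hh, inv_inv]
    rw [hx, ← mul_assoc, inv_mul_cancel, one_mul]
    exact H.t_mem
  obtain ⟨ρ, hρ⟩ := H.π_surj (1, finRotate 3, 1)
  obtain ⟨z, hzc, hz⟩ := exists_commute M2 hw ρ (by
    rw [hρ, hπy]
    exact Prod.ext (by simp) (Prod.ext (by simp) (by simp)))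
  obtain ⟨h8', -⟩ := image_full (moved_inv M2) hw
  rw [inv_inv] at h8'
  obtain ⟨a', b', c', -, hb', -, hsub, hall'⟩ := eight_product (psi H k).range (by
    rintro _ ⟨e, rfl⟩
    have hMk : Moved H k := by have := moved_inv M2; rwa [inv_inv] at this
    rw [← map_mul, show e * e = 1 from Subtype.ext (EE_sq hMk hw e.2), map_one]) h8'.ge
  obtain ⟨w, hw'⟩ := hall' false true false
  simp only [cond_true, cond_false] at hw'
  set z' := k⁻¹ * (z : G) * k with hz'
  have hzk : Commute z' H.t := by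
    have h := (Commute.conj_iff k⁻¹).2 hzc
    simp only [Hyp.hh, inv_inv] at h
    rw [show k⁻¹ * (k * H.t * k⁻¹) * k = H.t by group] at h
    exact h
  have hzh : Commute z' (H.hh k) := by
    have h := (Commute.conj_iff k⁻¹).2 (H.mem_C.1 z.2)
    rw [inv_inv] at h
    rw [Hyp.hh]
    exact h
  have hwE : z' * w * z'⁻¹ ∈ H.EE k := by
    refine mem_EE.2 ⟨H.conj_mem (H.mem_C.2 hzk) (mem_EE.1 w.2).1, ?_⟩
    exact ((hzh.mul_left (mem_EE.1 w.2).2).mul_left hzh.inv_left)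
  have hconj : psi H k ⟨_, hwE⟩ = H.π z * psi H k w * (H.π z)⁻¹ := by
    show H.π _ = _ * H.π _ * _
    rw [← map_inv, ← map_mul, ← map_mul]
    refine congrArg H.π (Subtype.ext ?_)
    simp only [hz', Subgroup.coe_mul, Subgroup.coe_inv]
    group
  have h2 := (hsub _ ⟨_, hconj⟩).2.1
  rw [hw'] at h2
  simp only [Prod.snd_mul, Prod.fst_mul, Prod.snd_inv, Prod.fst_inv] at h2
  have hr := three_rotate b' hb'.1 hb'.2
  rcases hz with e' | e' <;> rw [e', hρ] at h2 <;> simp only [Prod.snd_mul, Prod.fst_mul] at h2 <;>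
    rcases h2 with h2 | h2
  · exact hb'.2 (conj_eq_one_iff.1 h2)
  · exact hr.1 (mul_inv_eq_iff_eq_mul.1 h2)
  · exact hb'.2 (conj_eq_one_iff.1 h2)
  · exact hr.2 (mul_inv_eq_iff_eq_mul.1 h2)

end Cfsg.Agent.Spor.OmegaEightCent
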